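import Cfsg.Agent.Bender.NC.PermBlock
import Cfsg.Agent.Bender.GSide
import Cfsg.Agent.Blocks.PSolvablePrincipal
import Cfsg.Agent.OddEnd.FourteenFinal

/-!
Bender's theorem, noncommuting branch: the block congruences.

If a Sylow `q`-subgroup fixes exactly two points of a doubly transitive group and its centralizer
fixes them, then all constituents of the permutation character lie in the principal `q`-block, and
this passes to the centralizers of abelian `q`-groups on their fixed points.  Also the standard
consequence of Hall and Higman's lemma for a normalized subgroup of order prime to `q`.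
-/

set_option autoImplicit false
set_option linter.unusedSectionVars false
set_option linter.style.haveILetI false

namespace CfsgLib.Bender.NC

open Cfsg Finset CfsgLib.Block CfsgLib.Block.Chr CfsgLib.Char MulAction
open PermBlock (permFun AllPrincipal allPrincipal_iff permFun_classFun)

universe u v

/-- All constituents of the permutation character of `G` on `Ω` lie in the principal `q`-block. -/
def Principal (q : ℕ) (G : Type u) [Group G] [Finite G] (Ω : Type v) [MulAction G Ω] : Prop :=
  ∀ M : Ideal AlgInt, IsPModular q M → AllPrincipal M G Ω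

variable {G : Type u} [Group G] [Finite G] {Ω : Type v} [MulAction G Ω] [Finite Ω] {q : ℕ}

/-- The points fixed by all elements of `s`, with the action of the centralizer of `s`. -/
def fixSet (Ω : Type v) [MulAction G Ω] (s : Set G) :
    SubMulAction (Subgroup.centralizer s) Ω where
  carrier := {w | ∀ x ∈ s, x • w = w}
  smul_mem' c w hw := fun x hx => by
    show x • ((c : G) • w) = (c : G) • w
    rw [← mul_smul, Subgroup.mem_centralizer_iff.1 c.2 x hx, mul_smul, hw x hx]

/-- Modulo `q`, a set invariant under a `q`-group has two points when two of them are fixed. -/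
theorem two_modEq [Fact q.Prime] {R : Subgroup G} (hR : IsPGroup q R) (T : SubMulAction R Ω)
    {a b : Ω} (hab : a ≠ b) (ha : a ∈ T) (hb : b ∈ T)
    (hfix : ∀ w : Ω, (∀ r ∈ R, r • w = w) ↔ w = a ∨ w = b) : Nat.card T ≡ 2 [MOD q] := by
  classical
  have h := hR.card_modEq_card_fixedPoints T
  have h2 : Nat.card (fixedPoints R T) = 2 := by
    rw [Nat.card_eq_two_iff]
    have hfa : (⟨a, ha⟩ : T) ∈ fixedPoints R T := fun r =>
      Subtype.ext ((hfix a).2 (Or.inl rfl) r r.2)
    have hfb : (⟨b, hb⟩ : T) ∈ fixedPoints R T := fun r =>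
      Subtype.ext ((hfix b).2 (Or.inr rfl) r r.2)
    refine ⟨⟨_, hfa⟩, ⟨_, hfb⟩, fun e => hab (congrArg (fun z : fixedPoints R T => (z.1 : Ω)) e),
      Set.eq_univ_of_forall fun z => ?_⟩
    rcases (hfix (z.1 : Ω)).1 fun r hr => congrArg Subtype.val (z.2 ⟨r, hr⟩) with h | h
    · exact Or.inl (Subtype.ext (Subtype.ext h))
    · exact Or.inr (Set.mem_singleton_iff.2 (Subtype.ext (Subtype.ext h)))
  rwa [h2] at h

variable [IsMultiplyPretransitive G Ω 2]

/-- A Sylow subgroup fixing exactly two points with centralizer fixing them puts the permutation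
character into the principal block. -/
theorem principal_top [Fact q.Prime] (R : Sylow q G) {a b : Ω} (hab : a ≠ b)
    (hfix : ∀ w : Ω, (∀ r ∈ R, r • w = w) ↔ w = a ∨ w = b)
    (hC : Subgroup.centralizer ((R : Subgroup G) : Set G) ≤ stabilizer G a) :
    Principal q G Ω := by
  classical
  intro M hM
  haveI := hM.2.1.isPrime
  haveI := Fintype.ofFinite G
  letI := irrFintype (G := G)
  haveI : IsPretransitive G Ω := isPretransitive_of_is_two_pretransitive
  have hq : q.Prime := Fact.out
  have hΩ : 2 ≤ Nat.card Ω := by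
    haveI : Nontrivial Ω := ⟨a, b, hab⟩
    exact Finite.one_lt_card
  let χ : IrrCharacter G := ⟨_, (Cfsg.Agent.S0157.result (G := G) Ω hΩ).2 ‹_›⟩
  have hval : ∀ g, (χ : G → ℂ) g = (Nat.card (fixedBy Ω g) : ℂ) - 1 := fun g => rfl
  -- fixed point numbers of elements centralizing `R`
  have hmod : ∀ g : G, g ∈ Subgroup.centralizer ((R : Subgroup G) : Set G) →
      Nat.card (fixedBy Ω g) ≡ 2 [MOD q] := by
    intro g hg
    let T : SubMulAction (R : Subgroup G) Ω :=
      { carrier := fixedBy Ω g
        smul_mem' := fun r w hw => by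
          show g • (r : G) • w = (r : G) • w
          rw [← mul_smul, ← Subgroup.mem_centralizer_iff.1 hg r r.2, mul_smul,
            show g • w = w from hw] }
    have hga : g • a = a := hC hg
    have hgb : g • b = b := by
      rcases (hfix (g • b)).1 fun r hr => by
          rw [← mul_smul, Subgroup.mem_centralizer_iff.1 hg r hr, mul_smul,
            (hfix b).2 (Or.inr rfl) r hr] with h | h
      · exact absurd (MulAction.injective g (h.trans hga.symm)).symm hab
      · exact h
    exact two_modEq R.2 T hab (show g • a = a from hga) (show g • b = b from hgb) hfix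
  have hcong : ∀ g : G, g ∈ Subgroup.centralizer ((R : Subgroup G) : Set G) →
      MemLocalIdeal M ((χ : G → ℂ) g - 1) := by
    intro g hg
    have h1 := (memLocalIdeal_intCast_iff hM).2
      ((Nat.modEq_iff_dvd.1 (hmod g hg).symm) : (q : ℤ) ∣ _)
    push_cast at h1
    rw [hval]
    convert h1 using 1
    ring
  have h1 := hcong 1 (one_mem _)
  have hunit : ¬ MemLocalIdeal M ((χ : G → ℂ) 1) := fun h => not_memLocalIdeal_one (M := M) (by
    have := memLocalIdeal_sub h h1
    rwa [sub_sub_cancel] at this)
  have hinv := memLocalRing_inv (irr_mem χ 1) hunit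
  -- membership in the principal block
  have hblock : χ ∈ principalBlock M G := by
    intro g
    rw [centralChar, centralChar]
    simp only [mul_one, div_one]
    set i := (Subgroup.centralizer ({g} : Set G)).index
    have hirr : ((i : ℂ) - (i : ℂ) * (χ : G → ℂ) g / (χ : G → ℂ) 1) =
        -((i : ℂ) * ((χ : G → ℂ) g - (χ : G → ℂ) 1) * ((χ : G → ℂ) 1)⁻¹) := by
      have := irr_one_ne_zero χ
      field_simp
      ring
    rw [hirr]
    refine memLocalIdeal_neg (memLocalIdeal_mul_right ?_ hinv)
    by_cases hi : q ∣ i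
    · exact memLocalIdeal_mul_right ((memLocalIdeal_natCast_iff hM).2 hi)
        (memLocalRing_sub (irr_mem χ g) (irr_mem χ 1))
    refine memLocalIdeal_mul_left (natCast_mem_localRing (M := M) i) ?_
    set K := Subgroup.centralizer ({g} : Set G)
    obtain ⟨P⟩ : Nonempty (Sylow q K) := inferInstance
    have hcard : Nat.card ((P : Subgroup K).map K.subtype) =
        q ^ (Nat.card G).factorization q := by
      rw [Subgroup.card_map_of_injective K.subtype_injective, P.card_eq_multiplicity,
        ← K.index_mul_card, Nat.factorization_mul Subgroup.index_ne_zero_of_finite Nat.card_pos.ne',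
        Finsupp.add_apply, Nat.factorization_eq_zero_of_not_dvd hi, zero_add]
    obtain ⟨h, hh⟩ := exists_smul_eq G R (Sylow.ofCard _ hcard)
    have hg' : h⁻¹ * g * h ∈ Subgroup.centralizer ((R : Subgroup G) : Set G) := by
      refine Subgroup.mem_centralizer_iff.2 fun r hr => ?_
      have hmem : MulAut.conj h r ∈ (h • R : Sylow q G).toSubgroup :=
        Subgroup.smul_mem_pointwise_smul r (MulAut.conj h) _ hr
      rw [hh] at hmem
      obtain ⟨k, -, hk⟩ := hmem
      have hc : MulAut.conj h r * g = g * MulAut.conj h r :=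
        hk ▸ Subgroup.mem_centralizer_singleton_iff.1 k.2
      rw [MulAut.conj_apply] at hc
      calc r * (h⁻¹ * g * h) = h⁻¹ * (h * r * h⁻¹ * g) * h := by group
        _ = _ := by rw [hc]; group
    have hconj : (χ : G → ℂ) g = (χ : G → ℂ) (h⁻¹ * g * h) := by
      have := isClassFunction_irr χ g h⁻¹
      rw [inv_inv] at this
      exact this.symm
    rw [hconj]
    have := memLocalIdeal_sub (hcong _ hg') h1
    simpa using this
  rw [allPrincipal_iff]
  intro ξ hξ
  by_contra hne
  refine hξ ?_
  have h0 : classInner (permFun G Ω) (ξ : G → ℂ) =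
      classInner (oneIrr G : G → ℂ) (ξ : G → ℂ) + classInner (χ : G → ℂ) (ξ : G → ℂ) := by
    simp only [classInner, ← mul_add, ← sum_add_distrib, ← add_mul, hval, oneIrr_apply,
      add_sub_cancel]
    rfl
  rw [h0, classInner_irr, classInner_irr, if_neg (fun h : oneIrr G = ξ =>
      hne (h ▸ oneIrr_mem_principalBlock)), if_neg (fun h : χ = ξ => hne (h ▸ hblock)), add_zero]

omit [IsMultiplyPretransitive G Ω 2]

/-- For pairwise commuting `q`-elements the centralizer on the common fixed points. -/
theorem Principal.set [Fact q.Prime] (h : Principal q G Ω) {M : Ideal AlgInt}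
    (hM : IsPModular q M) (s : Finset G) :
    (∀ x ∈ s, ∃ k, orderOf x = q ^ k) → (∀ x ∈ s, ∀ y ∈ s, x * y = y * x) →
      AllPrincipal M (Subgroup.centralizer (s : Set G)) (fixSet Ω (s : Set G)) := by
  classical
  haveI := hM.2.1.isPrime
  induction s using Finset.induction_on with
  | empty =>
    intro _ _
    haveI := Fintype.ofFinite G
    haveI : Fintype (Subgroup.centralizer ((∅ : Finset G) : Set G)) := Fintype.ofFinite _
    refine AllPrincipal.of_equiv
      ((MulEquiv.subgroupCongr (eq_top_iff.2 fun g _ => by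
        simp [Subgroup.mem_centralizer_iff])).trans Subgroup.topEquiv)
      { toFun := fun w => (w : Ω)
        invFun := fun w => ⟨w, fun x hx => absurd hx (by simp)⟩
        left_inv := fun w => rfl
        right_inv := fun w => rfl }
      (fun c w => rfl) (h M hM)
  | insert x s hx ih =>
    intro hord hcomm
    have h1 := ih (fun y hy => hord y (mem_insert_of_mem hy))
      fun y hy z hz => hcomm y (mem_insert_of_mem hy) z (mem_insert_of_mem hz)
    have hxC : x ∈ Subgroup.centralizer (s : Set G) := Subgroup.mem_centralizer_iff.2 fun y hy =>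
      hcomm y (mem_insert_of_mem hy) x (mem_insert_self x s)
    obtain ⟨k, hk⟩ := hord x (mem_insert_self x s)
    set x' : Subgroup.centralizer (s : Set G) := ⟨x, hxC⟩ with hx'
    haveI : Fintype (Subgroup.centralizer (s : Set G)) := Fintype.ofFinite _
    haveI : Fintype (Subgroup.centralizer ({x'} : Set (Subgroup.centralizer (s : Set G)))) :=
      Fintype.ofFinite _
    haveI : Fintype (Subgroup.centralizer ((insert x s : Finset G) : Set G)) := Fintype.ofFinite _
    have hle : ∀ c ∈ Subgroup.centralizer ((insert x s : Finset G) : Set G),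
        c ∈ Subgroup.centralizer (s : Set G) := fun c hc => Subgroup.mem_centralizer_iff.2
      fun y hy => Subgroup.mem_centralizer_iff.1 hc y (mem_coe.2 (mem_insert_of_mem hy))
    let e : Subgroup.centralizer ((insert x s : Finset G) : Set G) ≃*
        Subgroup.centralizer ({x'} : Set (Subgroup.centralizer (s : Set G))) :=
      { toFun := fun c => ⟨⟨c, hle c c.2⟩, Subgroup.mem_centralizer_singleton_iff.2 (Subtype.ext
          (Subgroup.mem_centralizer_iff.1 c.2 x (mem_coe.2 (mem_insert_self x s))).symm)⟩
        invFun := fun c => ⟨(c : Subgroup.centralizer (s : Set G)), Subgroup.mem_centralizer_iff.2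
          fun y hy => by
            rcases mem_insert.1 (mem_coe.1 hy) with rfl | hy
            · exact (congrArg Subtype.val (Subgroup.mem_centralizer_singleton_iff.1 c.2)).symm
            · exact Subgroup.mem_centralizer_iff.1 c.1.2 y (mem_coe.2 hy)⟩
        left_inv := fun c => rfl
        right_inv := fun c => rfl
        map_mul' := fun c d => rfl }
    let φ : fixSet Ω ((insert x s : Finset G) : Set G) ≃
        St.fixSub (fixSet Ω (s : Set G)) x' :=
      { toFun := fun w => ⟨⟨w, fun y hy => w.2 y (mem_coe.2 (mem_insert_of_mem hy))⟩,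
          Subtype.ext (w.2 x (mem_coe.2 (mem_insert_self x s)))⟩
        invFun := fun w => ⟨((w : fixSet Ω (s : Set G)) : Ω), fun y hy => by
          rcases mem_insert.1 (mem_coe.1 hy) with rfl | hy
          · exact congrArg Subtype.val w.2
          · exact w.1.2 y (mem_coe.2 hy)⟩
        left_inv := fun w => rfl
        right_inv := fun w => rfl }
    exact AllPrincipal.of_equiv e φ (fun c w => rfl)
      (h1.inherit hM (x := x') (k := k) (by rw [← Subgroup.orderOf_coe]; exact hk))

variable {U : Subgroup G}

/-- The property for the centralizer of an abelian `q`-group. -/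
theorem Principal.centralizer [Fact q.Prime] (h : Principal q G Ω) {M : Ideal AlgInt}
    (hM : IsPModular q M) (hU : IsPGroup q U) (hab : ∀ x ∈ U, ∀ y ∈ U, x * y = y * x) :
    AllPrincipal M (Subgroup.centralizer (U : Set G)) (fixSet Ω (U : Set G)) := by
  classical
  have h1 := h.set hM (U : Set G).toFinite.toFinset (fun x hx => by
      obtain ⟨k, hk⟩ := IsPGroup.iff_orderOf.1 hU ⟨x, (Set.Finite.mem_toFinset _).1 hx⟩
      exact ⟨k, by rwa [Subgroup.orderOf_mk] at hk⟩)
    fun x hx y hy => hab x ((Set.Finite.mem_toFinset _).1 hx) y ((Set.Finite.mem_toFinset _).1 hy)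
  rw [Set.Finite.coe_toFinset] at h1
  exact h1

/-- The core of order prime to `q` of the centralizer of `U` fixes all fixed points of `U`. -/
theorem Principal.core_fix [Fact q.Prime] (h : Principal q G Ω) (hU : IsPGroup q U)
    (hab : ∀ x ∈ U, ∀ y ∈ U, x * y = y * x) {w : Ω} (hw : U ≤ stabilizer G w) :
    (pPrimeCore q (Subgroup.centralizer (U : Set G))).map
      (Subgroup.centralizer (U : Set G)).subtype ≤ stabilizer G w := by
  obtain ⟨M, hM⟩ := exists_isPModular (Fact.out : q.Prime)
  haveI := hM.2.1.isPrime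
  haveI : Fintype (Subgroup.centralizer (U : Set G)) := Fintype.ofFinite _
  rintro _ ⟨g, hg, rfl⟩
  exact congrArg Subtype.val
    ((h.centralizer hM hU hab).core_fix hM hg ⟨w, fun x hx => hw hx⟩)

/-- A subgroup of the centralizer of `U` of order prime to `q`, normalized by it, fixes all fixed
points of `U`. -/
theorem Principal.le_fix [Fact q.Prime] (h : Principal q G Ω) (hU : IsPGroup q U)
    (hab : ∀ x ∈ U, ∀ y ∈ U, x * y = y * x) {N : Subgroup G}
    (hN : N ≤ Subgroup.centralizer (U : Set G))
    (hn : Subgroup.centralizer (U : Set G) ≤ Subgroup.normalizer (N : Set G))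
    (hcop : ¬ q ∣ Nat.card N) {w : Ω} (hw : U ≤ stabilizer G w) : N ≤ stabilizer G w := by
  refine le_trans ?_ (h.core_fix hU hab hw)
  haveI : (N.subgroupOf (Subgroup.centralizer (U : Set G))).Normal :=
    (Subgroup.normal_subgroupOf_iff_le_normalizer hN).2 hn
  rw [← Subgroup.map_subgroupOf_eq_of_le hN]
  exact Subgroup.map_mono (CfsgLib.Solvable.le_pPrimeCore q inferInstance (by
    rw [Nat.card_congr (Subgroup.subgroupOfEquivOfLe hN).toEquiv]
    exact ((Fact.out : q.Prime).coprime_iff_not_dvd.2 hcop).symm))

/-- A class sum of the centralizer of `U` has its number of terms as only eigenvalue modulo `q`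
on the functions on the fixed points of `U`. -/
theorem Principal.eq_zero_of_sum [Fact q.Prime] (h : Principal q G Ω) (hU : IsPGroup q U)
    (hab : ∀ x ∈ U, ∀ y ∈ U, x * y = y * x) (K : Finset G)
    (hK : ∀ g ∈ K, g ∈ Subgroup.centralizer (U : Set G))
    (hKc : ∀ g ∈ K, ∀ c ∈ Subgroup.centralizer (U : Set G), c * g * c⁻¹ ∈ K) (f : Ω → ZMod q)
    (l : ZMod q) (hl : l ≠ (K.card : ℕ))
    (hf : ∀ w, U ≤ stabilizer G w → ∑ g ∈ K, f (g • w) = l * f w) {w : Ω}
    (hw : U ≤ stabilizer G w) : f w = 0 := by
  classical
  obtain ⟨M, hM⟩ := exists_isPModular (Fact.out : q.Prime)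
  haveI := hM.2.1.isPrime
  haveI : Fintype (Subgroup.centralizer (U : Set G)) := Fintype.ofFinite _
  have hcard : (K.subtype (· ∈ Subgroup.centralizer (U : Set G))).card = K.card := by
    rw [card_subtype, filter_eq_self.2 hK]
  exact congrFun ((h.centralizer hM hU hab).eq_zero_of_sum hM
    (K.subtype (· ∈ Subgroup.centralizer (U : Set G)))
    (fun g hg c => mem_subtype.2 (hKc _ (mem_subtype.1 hg) c c.2))
    (fun z => f (z : Ω)) l (hcard.symm ▸ hl) fun z => by
      rw [← hf (z : Ω) fun x hx => z.2 x hx]
      exact sum_subtype_of_mem (fun g => f (g • (z : Ω))) hK) ⟨w, fun x hx => hw hx⟩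

/-- In a group of odd order a subgroup of order prime to `q` normalized by a Sylow `q`-subgroup
lies in the core of order prime to `q`. -/
theorem coreq {O : Type u} [Group O] [Finite O] [Fact q.Prime] (hO : Odd (Nat.card O))
    (S : Sylow q O) {W : Subgroup O} (hW : ¬ q ∣ Nat.card W)
    (hn : (S : Subgroup O) ≤ Subgroup.normalizer (W : Set O)) : W ≤ pPrimeCore q O := by
  haveI : Group.IsSolvable O := CfsgLib.OddEnd.odd_solvable O hO
  haveI := Fintype.ofFinite O
  haveI : (pPrimeCore q O).Normal := CfsgLib.Solvable.pPrimeCore_normal q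
  set f := QuotientGroup.mk' (pPrimeCore q O)
  have hF : (pCore q (O ⧸ pPrimeCore q O)) ≤ (S : Subgroup O).map f := by
    haveI := CfsgLib.Solvable.pCore_normal (G := O ⧸ pPrimeCore q O) q
    have h1 := (CfsgLib.Solvable.isPGroup_pCore q).le_sylow_of_normal
      (S.mapSurjective (QuotientGroup.mk'_surjective (pPrimeCore q O)))
    rwa [Sylow.coe_mapSurjective] at h1
  have hcop : Disjoint (W.map f) (pCore q (O ⧸ pPrimeCore q O)) := by
    obtain ⟨k, hk⟩ := IsPGroup.iff_card.1 (CfsgLib.Solvable.isPGroup_pCore
      (G := O ⧸ pPrimeCore q O) q)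
    rw [disjoint_iff]
    refine Subgroup.card_eq_one.1 (Nat.eq_one_of_dvd_coprimes ?_
      (Subgroup.card_dvd_of_le inf_le_left) (Subgroup.card_dvd_of_le inf_le_right))
    rw [hk]
    exact Nat.Coprime.pow_right k (((Fact.out : q.Prime).coprime_iff_not_dvd.2 fun hd => hW
      (hd.trans (Subgroup.card_map_dvd W f))).symm)
  have hcent : W.map f ≤ pCore q (O ⧸ pPrimeCore q O) := by
    refine le_trans ?_ (selfCent_quotient_of_solvable (p := q) (G := O))
    rintro _ ⟨w, hw, rfl⟩
    refine Subgroup.mem_centralizer_iff.2 fun z hz => ?_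
    obtain ⟨s, hs, rfl⟩ := hF hz
    have hzn : (f w * f s * (f w)⁻¹) * (f s)⁻¹ ∈ pCore q (O ⧸ pPrimeCore q O) :=
      mul_mem ((CfsgLib.Solvable.pCore_normal q).conj_mem _ hz _) (inv_mem hz)
    have hwn : (f w * f s * (f w)⁻¹) * (f s)⁻¹ ∈ W.map f := by
      refine ⟨w * (s * w⁻¹ * s⁻¹), mul_mem hw
        ((Subgroup.mem_normalizer_iff.1 (hn hs) _).1 (inv_mem hw)), ?_⟩
      simp only [map_mul, map_inv]
      group
    have h1 := Subgroup.disjoint_def.1 hcop hwn hzn
    rw [mul_inv_eq_one, mul_inv_eq_iff_eq_mul] at h1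
    exact h1.symm
  intro w hw
  have h1 : f w = 1 := Subgroup.disjoint_def.1 hcop ⟨w, hw, rfl⟩ (hcent ⟨w, hw, rfl⟩)
  exact (QuotientGroup.eq_one_iff w).1 h1

/-- `coreq` for subgroups of a group. -/
theorem coreq_sub [Fact q.Prime] {O S W : Subgroup G} (hO : Odd (Nat.card O))
    (hS : GSide.Syl q O S) (hWO : W ≤ O) (hW : ¬ q ∣ Nat.card W)
    (hn : S ≤ Subgroup.normalizer (W : Set G)) : W ≤ (pPrimeCore q O).map O.subtype := by
  obtain ⟨P, hP⟩ : ∃ P : Sylow q O, (P : Subgroup O) = S.subgroupOf O := by
    obtain ⟨P, hP⟩ := (hS.2.1.of_equiv (Subgroup.subgroupOfEquivOfLe hS.1).symm).exists_le_sylow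
    refine ⟨P, (Subgroup.eq_of_le_of_card_ge hP ?_).symm⟩
    rw [Nat.card_congr (Subgroup.subgroupOfEquivOfLe hS.1).toEquiv,
      ← Subgroup.card_map_of_injective O.subtype_injective]
    exact hS.2.2 _ (Subgroup.map_subtype_le _) (P.2.map _)
  have h := coreq hO P (W := W.subgroupOf O)
    (by rwa [Nat.card_congr (Subgroup.subgroupOfEquivOfLe hWO).toEquiv])
    (fun s hs => by
      rw [hP] at hs
      refine Subgroup.mem_normalizer_iff.2 fun w => ?_
      simp only [Subgroup.mem_subgroupOf, Subgroup.coe_mul, Subgroup.coe_inv]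
      exact Subgroup.mem_normalizer_iff.1 (hn hs) (w : G))
  rw [← Subgroup.map_subgroupOf_eq_of_le hWO]
  exact Subgroup.map_mono h

/-- `principal_top` for a subgroup which is a Sylow subgroup of the whole group. -/
theorem principal_of_fix_pair [IsMultiplyPretransitive G Ω 2] [Fact q.Prime] {R : Subgroup G}
    (hR : GSide.Syl q ⊤ R) {a b : Ω} (hab : a ≠ b) (ha : R ≤ stabilizer G a)
    (hb : R ≤ stabilizer G b) (hfix : ∀ w : Ω, R ≤ stabilizer G w → w = a ∨ w = b)
    (hC : Subgroup.centralizer (R : Set G) ≤ stabilizer G a) : Principal q G Ω := by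
  refine principal_top (hR.2.1.toSylow (GSide.syl_not_dvd hR |> fun h => ?_)) hab
    (fun w => ⟨fun h => hfix w fun r hr => h r (by simpa using hr), ?_⟩) (by simpa using hC)
  · rwa [Subgroup.relIndex_top_right] at h
  · rintro (rfl | rfl) r hr
    · exact ha (by simpa using hr)
    · exact hb (by simpa using hr)

end CfsgLib.Bender.NC
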