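import Cfsg.Agent.Bender.Dichotomy
import Cfsg.Agent.OddLocal.OddStability

/-!
Bender's theorem, noncommuting branch: a transitive subgroup `L` of odd order containing a given
one, a good prime and a minimal normal `W` of `L` such that the normalizers of the `r`-subgroups
between `W` and `L` stay in `L`.
-/

set_option autoImplicit false
set_option linter.style.haveILetI false
set_option linter.unusedSectionVars false

namespace CfsgLib.Bender.NC

open Subgroup CfsgLib.Functor
open scoped CfsgLib.Functor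

universe u

variable {X : Type u} [Group X] [Finite X]

/-- A largest transitive subgroup of odd order containing a given one is a context. -/
theorem exists_ctx_ge (hO : Cfsg.oddCore X = ⊥) (hp : PairRank X)
    (hnc : ∃ u v : X, orderOf u = 2 ∧ orderOf v = 2 ∧ u * v ≠ v * u)
    {D : Subgroup X} (hD : IsTransOdd (⊤ : Subgroup X) D) :
    ∃ L : Subgroup X, Ctx L ∧ D ≤ L ∧ L ≠ ⊥ := by
  obtain ⟨L, ⟨hL, hDL⟩, hmax⟩ := Set.exists_max_image
    {E : Subgroup X | IsTransOdd (⊤ : Subgroup X) E ∧ D ≤ E}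
    (fun E => Nat.card E) (Set.toFinite _) ⟨D, hD, le_rfl⟩
  obtain ⟨-, hLo, hLt⟩ := hL
  have htr : ∀ s t : X, orderOf s = 2 → orderOf t = 2 → ∃ l ∈ L, l * s * l⁻¹ = t :=
    fun s t hs ht => hLt s t (mem_top _) hs (mem_top _) ht
  obtain ⟨t₀, t₁, ht₀, ht₁, hne⟩ := hp.exists_ne
  refine ⟨L, ⟨hLo, htr, fun U hUL hU hLN => ?_, ⟨t₀, ht₀⟩⟩, hDL, fun h => hne ?_⟩
  · by_cases hodd : Odd (Nat.card ↥(normalizer (U : Set X)))
    · exact (eq_of_le_of_card_le' hLN (hmax _ ⟨⟨le_top, hodd, fun s t _ hs _ ht => by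
        obtain ⟨l, hl, e⟩ := htr s t hs ht
        exact ⟨l, hLN hl, e⟩⟩, hDL.trans hLN⟩)).symm
    exfalso
    haveI : Fact (Nat.Prime 2) := ⟨Nat.prime_two⟩
    obtain ⟨t, ht⟩ := exists_prime_orderOf_dvd_card' 2
      (even_iff_two_dvd.1 (Nat.not_odd_iff_even.1 hodd) : 2 ∣ Nat.card ↥(normalizer (U : Set X)))
    have hIN : ∀ s : X, orderOf s = 2 → s ∈ normalizer (U : Set X) := by
      intro s hs
      obtain ⟨l, hl, e⟩ := htr (t : X) s (by rwa [orderOf_coe]) hs
      rw [← e]
      exact mul_mem (mul_mem (hLN hl) t.2) (inv_mem (hLN hl))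
    set M : Subgroup X := closure {s : X | orderOf s = 2}
    haveI hMn : M.Normal := by
      refine ⟨fun x hx g => ?_⟩
      have h : M.map (MulAut.conj g).toMonoidHom ≤ M := by
        rw [MonoidHom.map_closure, closure_le]
        rintro _ ⟨s, hs, rfl⟩
        exact subset_closure (show orderOf ((MulAut.conj g) s) = 2 by rw [MulEquiv.orderOf_eq]; exact hs)
      exact h ⟨x, hx, rfl⟩
    have hMN : M ≤ normalizer (U : Set X) := (closure_le _).2 hIN
    set C := centralizer (M : Set X)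
    haveI : C.Normal := Subgroup.normal_centralizer
    have hUM : U ⊓ M = ⊥ := by
      have hn : ((U ⊓ M).subgroupOf M).Normal := ⟨fun x hx m => by
        refine mem_subgroupOf.2 ⟨?_, (m * x * m⁻¹).2⟩
        exact (mem_normalizer_iff.1 (hMN m.2) x).1 (mem_subgroupOf.1 hx).1⟩
      have hc : (Nat.card ↥((U ⊓ M).subgroupOf M)).Coprime 2 := by
        rw [Nat.card_congr (subgroupOfEquivOfLe inf_le_right).toEquiv]
        exact Nat.coprime_two_right.2 ((hLo.of_dvd_nat (card_dvd_of_le (inf_le_left.trans hUL))))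
      have h1 : (U ⊓ M).subgroupOf M ≤ Cfsg.pPrimeCore 2 M := CfsgLib.Solvable.le_pPrimeCore 2 hn hc
      have h2 : (Cfsg.pPrimeCore 2 M).map M.subtype ≤ ⊥ := by
        rw [← hO]
        haveI : (Cfsg.pPrimeCore 2 M).Characteristic := characteristic_iff_map_le.2 fun φ =>
          CfsgLib.Solvable.le_pPrimeCore 2 ((CfsgLib.Solvable.pPrimeCore_normal 2).map _ φ.surjective)
            ((CfsgLib.Solvable.coprime_card_pPrimeCore 2).coprime_dvd_left (card_map_dvd _ _))
        refine CfsgLib.Solvable.le_pPrimeCore 2 ConjAct.normal_of_characteristic_of_normal ?_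
        rw [card_map_of_injective M.subtype_injective]
        exact CfsgLib.Solvable.coprime_card_pPrimeCore 2
      rw [eq_bot_iff, ← map_subgroupOf_eq_of_le (inf_le_right : U ⊓ M ≤ M)]
      exact (map_mono h1).trans h2
    have hUC : U ≤ C := by
      intro u hu
      refine mem_centralizer_iff.2 fun m hm => ?_
      have h : u * m * u⁻¹ * m⁻¹ ∈ U ⊓ M := by
        refine mem_inf.2 ⟨?_, mul_mem (hMn.conj_mem m hm u) (inv_mem (hm : m ∈ M))⟩
        rw [show u * m * u⁻¹ * m⁻¹ = u * (m * u⁻¹ * m⁻¹) by group]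
        exact mul_mem hu ((mem_normalizer_iff.1 (hMN (hm : m ∈ M)) _).1 (inv_mem hu))
      rw [hUM, mem_bot, mul_inv_eq_one, mul_inv_eq_iff_eq_mul] at h
      exact h.symm
    have hCodd : Odd (Nat.card C) := by
      by_contra hCe
      obtain ⟨c, hc⟩ := exists_prime_orderOf_dvd_card' 2
        (even_iff_two_dvd.1 (Nat.not_odd_iff_even.1 hCe) : 2 ∣ Nat.card C)
      obtain ⟨u, v, hu, hv, huv⟩ := hnc
      obtain ⟨l, hl, e⟩ := htr (c : X) u (by rwa [orderOf_coe]) hu
      have huC : u ∈ C := e ▸ (inferInstance : C.Normal).conj_mem _ c.2 l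
      exact huv (mem_centralizer_iff.1 huC v (subset_closure hv)).symm
    refine hU (le_bot_iff.1 (hUC.trans ?_))
    rw [← hO]
    exact CfsgLib.Solvable.le_pPrimeCore 2 inferInstance (Nat.coprime_two_right.2 hCodd)
  · obtain ⟨l, hl, e⟩ := htr t₀ t₁ ht₀ ht₁
    rw [h, mem_bot] at hl
    simpa [hl] using e

/-- Without inverted `r`-elements an involution centralizes the `r`-subgroups it normalizes. -/
theorem commute_of_realFree {r : ℕ} (hfree : RealFree r X) {v : X} (hv : orderOf v = 2)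
    {Q : Subgroup X} (hQ : IsPGroup r Q) (hvQ : v ∈ normalizer (Q : Set X)) {y : X} (hy : y ∈ Q) :
    Commute v y := by
  have hvi : v⁻¹ = v := CfsgLib.Invol.inv_eq_self hv
  have hx : y⁻¹ * (v * y * v⁻¹) ∈ Q :=
    mul_mem (inv_mem hy) ((mem_normalizer_iff.1 hvQ y).1 hy)
  obtain ⟨k, hk⟩ := hQ ⟨_, hx⟩
  have h1 := hfree v _ hv ⟨k, congrArg Subtype.val hk⟩ (by
    calc v * (y⁻¹ * (v * y * v⁻¹)) * v⁻¹ = v * y⁻¹ * v * y * (v⁻¹ * v⁻¹) := by group
      _ = v * y⁻¹ * v⁻¹ * y * (v * v) := by simp only [hvi]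
      _ = v * y⁻¹ * v⁻¹ * y := by rw [CfsgLib.Invol.mul_self_eq_one hv, mul_one]
      _ = (y⁻¹ * (v * y * v⁻¹))⁻¹ := by group)
  rw [inv_mul_eq_one] at h1
  exact (mul_inv_eq_iff_eq_mul.1 h1.symm)

variable {r : ℕ} [Fact r.Prime] {L W : Subgroup X}

/-- The normalizer of an `r`-subgroup containing `W` has odd order. -/
theorem odd_normalizer (hc : Ctx L) (hW : MinW r L W) (hfree : RealFree r X) {Q : Subgroup X}
    (hWQ : W ≤ Q) (hQ : IsPGroup r Q) : Odd (Nat.card ↥(normalizer (Q : Set X))) := by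
  by_contra hev
  haveI : Fact (Nat.Prime 2) := ⟨Nat.prime_two⟩
  obtain ⟨⟨v, hvN⟩, hv⟩ := exists_prime_orderOf_dvd_card' 2
    (even_iff_two_dvd.1 (Nat.not_odd_iff_even.1 hev) : 2 ∣ Nat.card ↥(normalizer (Q : Set X)))
  rw [Subgroup.orderOf_mk] at hv
  have hvW : v ∈ centralizer (W : Set X) := mem_centralizer_iff.2 fun w hw =>
    (commute_of_realFree hfree hv hQ hvN (hWQ hw)).eq.symm
  refine not_mem_of_odd hv hc.odd ?_
  rw [← hc.norm W (hW.le_core.trans (coreOf_le r L)) hW.ne_bot hW.normal]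
  exact centralizer_le_normalizer _ hvW

/-- `W` lies in the centre of the Thompson subgroup of an `r`-subgroup of `L` containing it. -/
theorem le_centerThompson (h : One r L W) {P : Subgroup X} (hPL : P ≤ L) (hWP : W ≤ P) :
    W ≤ Cfsg.centerThompsonOf r P := by
  have hU : Cfsg.IsElementaryAbelian r W :=
    ⟨⟨⟨fun x y => Subtype.ext (h.minW.comm x x.2 y y.2)⟩⟩, h.minW.exp⟩
  have key : ∀ A ∈ Thompson.maxIn r P, W ≤ A ∧ A ≤ centralizer (W : Set X) := by
    intro A hA
    have hn : A ≤ normalizer (W : Set X) := (hA.1.trans hPL).trans h.minW.normal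
    have hcA : A ≤ centralizer (W : Set X) := by
      by_contra hne
      obtain ⟨a, ha, hac, hq⟩ := quad_witness hU hWP hA hn hne
      exact hac (h.cent_of_quad (hPL (hA.1 ha)) hq)
    exact ⟨le_of_centralize hU hWP hA hcA, hcA⟩
  obtain ⟨A, hA⟩ := Thompson.exists_maxIn (p := r) P
  refine le_inf ((key A hA).1.trans (le_thompsonOf hA)) (le_centralizer_iff.1 ?_)
  rw [Thompson.thompsonSubgroupOf_eq P]
  exact sSup_le fun B hB => (key B hB).2

/-- In a subgroup of odd order the centre of the Thompson subgroup is normalized up to the core. -/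
theorem exists_mul_mem_normalizer {M P : Subgroup X} (hM : Odd (Nat.card M))
    (hP : IsSylowIn r P M) {g : X} (hg : g ∈ M) :
    ∃ d ∈ Cfsg.centerThompsonOf r P ⊔ (Cfsg.pPrimeCore r M).map M.subtype,
      g * d ∈ normalizer (Cfsg.centerThompsonOf r P : Set X) := by
  haveI : Group.IsSolvable M := CfsgLib.OddEnd.odd_solvable M hM
  obtain ⟨S, rfl⟩ := hP.exists_sylow
  have hn := CfsgLib.OddLocal.Stability.centerThompsonOf_sup_normal hM S
  set O := Cfsg.pPrimeCore r M
  haveI hOn : O.Normal := CfsgLib.Solvable.pPrimeCore_normal r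
  set Z := Cfsg.centerThompsonOf r (S : Subgroup M)
  rw [CfsgLib.ZJ.centerThompsonOf_map _ M.subtype_injective, ← Subgroup.map_sup]
  refine frat_mul (r := r) ?_ ?_
  · refine mem_normalizer_of_conj_le ?_
    rintro _ ⟨x, hx, rfl⟩
    exact ⟨_, hn.conj_mem x hx ⟨g, hg⟩, rfl⟩
  · have hZS : Z ≤ S := CfsgLib.ZJ.centerThompsonOf_le _
    have hZ : IsSylowIn r Z (Z ⊔ O) := by
      refine ⟨le_sup_left, S.2.to_le hZS, fun hd => ?_⟩
      have h1 := CfsgLib.Solvable.card_sup_mul_card_inf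
        (le_normalizer_of_normal : Z ≤ normalizer (O : Set M))
      have h2 := relIndex_mul_relIndex (⊥ : Subgroup M) Z (Z ⊔ O) bot_le le_sup_left
      rw [relIndex_bot_left, relIndex_bot_left] at h2
      rw [← h2, mul_assoc] at h1
      have h3 : Z.relIndex (Z ⊔ O) * Nat.card ↥(Z ⊓ O) = Nat.card O :=
        Nat.eq_of_mul_eq_mul_left Nat.card_pos h1
      exact ((Fact.out : r.Prime).coprime_iff_not_dvd.1
        (CfsgLib.Solvable.coprime_card_pPrimeCore (p := r) (G := M)).symm) (hd.trans (h3 ▸ dvd_mul_right _ _))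
    exact hZ.map M.subtype

/-- With one prime `O_{r'}(L)` is trivial. -/
theorem pPrimeCore_eq_bot (hc : Ctx L) (honly : ∀ q, q.Prime → q ≠ r → coreOf q L = ⊥) :
    Cfsg.pPrimeCore r L = ⊥ := by
  haveI := CfsgLib.OddEnd.odd_solvable L hc.odd
  by_contra hN
  haveI := CfsgLib.Solvable.pPrimeCore_normal (G := L) r
  obtain ⟨M, hM, hM1, hMN, hmin⟩ := CfsgLib.Solvable.exists_minimal_normal_le hN
  haveI := hM
  obtain ⟨-, q, hq, -, hMq⟩ := CfsgLib.Solvable.minimal_normal_elementary hM1 hmin inferInstance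
  have hqr : q ≠ r := by
    rintro rfl
    obtain ⟨k, hk⟩ := IsPGroup.iff_card.1 hMq
    refine hM1 (eq_bot_of_card_eq _ (Nat.eq_one_of_dvd_coprimes
      ((CfsgLib.Solvable.coprime_card_pPrimeCore (p := q)).pow_right k)
      (card_dvd_of_le hMN) (hk ▸ dvd_rfl)))
  refine hM1 (map_injective L.subtype_injective ?_)
  rw [Subgroup.map_bot, eq_bot_iff, ← honly q hq hqr]
  exact map_mono (CfsgLib.Solvable.le_pCore q hM hMq)

/-- **(NQ), one prime**: the normalizers of the `r`-subgroups between `W` and `L` lie in `L`. -/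
theorem normalizer_le_of_one (h : One r L W) (hfree : RealFree r X) {Q : Subgroup X}
    (hQL : Q ≤ L) (hWQ : W ≤ Q) (hQ : IsPGroup r Q) : normalizer (Q : Set X) ≤ L := by
  suffices H : ∀ (n : ℕ) (Q P : Subgroup X), Q ≤ L → W ≤ Q → IsPGroup r Q →
      IsSylowIn r P (normalizer (Q : Set X) ⊓ L) → Nat.card L - Nat.card P = n →
      normalizer (Q : Set X) ≤ L by
    obtain ⟨P, hP⟩ := exists_sylowIn (p := r) (normalizer (Q : Set X) ⊓ L)
    exact H _ Q P hQL hWQ hQ hP rfl
  intro n
  induction n using Nat.strong_induction_on with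
  | _ n ih =>
    intro Q P hQL hWQ hQ hP hn
    subst hn
    have hPL : P ≤ L := hP.1.trans inf_le_right
    have hQP : Q ≤ P := le_sylow_of_normalized hP hQ (le_inf le_normalizer hQL) inf_le_left
    set Z := Cfsg.centerThompsonOf r P with hZdef
    have hZP : Z ≤ P := CfsgLib.ZJ.centerThompsonOf_le _
    have hWZ : W ≤ Z := le_centerThompson h hPL (hWQ.trans hQP)
    have hNZ : normalizer (Z : Set X) ≤ L := by
      obtain ⟨R, hR, hPR⟩ := exists_sylowIn_ge hP.2.1 hPL
      rcases eq_or_lt_of_le hPR with heq | hlt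
      · refine (h.ctx.norm Z (hZP.trans hPL) (fun e => h.minW.ne_bot ?_) fun l hl => ?_).le
        · exact le_bot_iff.1 (e ▸ hWZ)
        · obtain ⟨d, hd, hld⟩ := exists_mul_mem_normalizer h.ctx.odd (heq ▸ hR) hl
          rw [pPrimeCore_eq_bot h.ctx h.only, Subgroup.map_bot, sup_bot_eq] at hd
          simpa using mul_mem hld (inv_mem (le_normalizer hd))
      · have hP' : P < R ⊓ normalizer (P : Set X) := lt_inf_normalizer hR.2.1 hlt
        have hle : R ⊓ normalizer (P : Set X) ≤ normalizer (Z : Set X) ⊓ L :=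
          le_inf (inf_le_right.trans (CfsgLib.ZJ.normalizer_le_centerThompsonOf _))
            (inf_le_left.trans hR.1)
        obtain ⟨P', hP'N, hle'⟩ := exists_sylowIn_ge (hR.2.1.to_le inf_le_left) hle
        have hlt' : Nat.card P < Nat.card P' := by
          by_contra hcon
          push Not at hcon
          exact hP'.ne (le_antisymm hP'.le
            ((hle'.trans (eq_of_le_of_card_le' (hP'.le.trans hle') hcon).ge)))
        have hP'L : Nat.card P' ≤ Nat.card L := card_le_of_le (hP'N.1.trans inf_le_right)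
        exact ih _ (by omega) Z P' (hZP.trans hPL) hWZ (hP.2.1.to_le hZP) hP'N rfl
    set M := normalizer (Q : Set X) with hMdef
    have hPM : IsSylowIn r P M := by
      obtain ⟨T, hT, hPT⟩ := exists_sylowIn_ge hP.2.1 (hP.1.trans inf_le_left)
      rcases eq_or_lt_of_le hPT with heq | hlt
      · exact heq ▸ hT
      · refine absurd ?_ (lt_inf_normalizer hT.2.1 hlt).ne
        exact hP.eq_of_le (hT.2.1.to_le inf_le_left) (le_inf (inf_le_left.trans hT.1)
          (inf_le_right.trans ((CfsgLib.ZJ.normalizer_le_centerThompsonOf _).trans hNZ)))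
          (lt_inf_normalizer hT.2.1 hlt).le
    have hO : (Cfsg.pPrimeCore r M).map M.subtype ≤ L := by
      refine le_trans ?_ ((centralizer_le_normalizer (W : Set X)).trans h.normalizer_W.le)
      rintro _ ⟨o, ho, rfl⟩
      refine mem_centralizer_iff.2 fun w hw => ?_
      haveI : (Q.subgroupOf M).Normal := (normal_subgroupOf_iff_le_normalizer le_normalizer).2 le_rfl
      have hd : Disjoint (Q.subgroupOf M) (Cfsg.pPrimeCore r M) := by
        obtain ⟨i, hi⟩ := IsPGroup.iff_card.1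
          (hQ.of_equiv (subgroupOfEquivOfLe (le_normalizer : Q ≤ M)).symm)
        exact disjoint_of_coprime_natCard (by
          rw [hi]; exact ((CfsgLib.Solvable.coprime_card_pPrimeCore (p := r)).symm).pow_left i)
      exact congrArg Subtype.val (commute_of_normal_of_disjoint _ _ inferInstance
        (CfsgLib.Solvable.pPrimeCore_normal r) hd ⟨w, le_normalizer (hWQ hw)⟩ o
        (mem_subgroupOf.2 (hWQ hw)) ho).eq
    intro g hg
    obtain ⟨d, hd, hgd⟩ :=
      exists_mul_mem_normalizer (odd_normalizer h.ctx h.minW hfree hWQ hQ) hPM hg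
    simpa using mul_mem (hNZ hgd) (inv_mem ((sup_le (hZP.trans hPL) hO : _ ≤ L) hd))

/-- **The prime and the subgroups `L`, `W`** of the noncommuting branch. -/
theorem exists_good (hO : Cfsg.oddCore X = ⊥) (hp : PairRank X)
    (hSE : ∀ S : Subgroup X, ¬ Cfsg.IsStronglyEmbedded S)
    (hnc : ∃ u v : X, orderOf u = 2 ∧ orderOf v = 2 ∧ u * v ≠ v * u)
    {D : Subgroup X} (hD : IsTransOdd (⊤ : Subgroup X) D) :
    ∃ (r : ℕ) (L W : Subgroup X), r.Prime ∧ Odd r ∧
      r ∣ Nat.card {t : X // orderOf t = 2} ∧ RealFree r X ∧ Ctx L ∧ D ≤ L ∧ MinW r L W ∧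
      ∀ Q : Subgroup X, Q ≤ L → W ≤ Q → IsPGroup r Q → normalizer (Q : Set X) ≤ L := by
  obtain ⟨L, hc, hDL, hL⟩ := exists_ctx_ge hO hp hnc hD
  have hs : Group.IsSolvable L := CfsgLib.OddEnd.odd_solvable L hc.odd
  haveI := (nontrivial_iff_ne_bot L).2 hL
  obtain ⟨q, hq, hq1⟩ := CfsgLib.Turull.exists_pCore_ne_bot hs
  have hqL : coreOf q L ≠ ⊥ := fun h => hq1 ((map_eq_bot_iff_of_injective _ L.subtype_injective).1 h)
  by_cases htwo : ∃ p s : ℕ, p.Prime ∧ s.Prime ∧ p ≠ s ∧ coreOf p L ≠ ⊥ ∧ coreOf s L ≠ ⊥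
  · obtain ⟨r, W, hr, hr2, hW, htr⟩ := exists_transfer hc hSE hnc hp htwo
    haveI : Fact r.Prime := ⟨hr⟩
    have hr2' : r ≠ 2 := fun h => by rw [h] at hr2; exact absurd hr2 (by decide)
    obtain ⟨R, hR⟩ := exists_sylowIn (p := r) L
    have hN := norm_le_of_transfer hW htr hR
    refine ⟨r, L, W, hr, hr2, dvd_card_invol hc hR hN, realFree_of_no_max hr2
      (no_maxReal_of_transfer hr2' hc (sylowInside_of_norm_le hR hN) hW htr), hc, hDL, hW,
      fun Q hQL hWQ _ g hg => ?_⟩
    exact htr g (fun w hw => hQL ((mem_normalizer_iff.1 hg w).1 (hWQ hw)))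
      (fun w hw => hQL ((mem_normalizer_iff''.1 hg w).1 (hWQ hw)))
  · haveI : Fact q.Prime := ⟨hq⟩
    have honly : ∀ p, p.Prime → p ≠ q → coreOf p L = ⊥ := by
      intro p hp' hne
      by_contra h
      exact htwo ⟨p, q, hp', hq, hne, h, hqL⟩
    have hq2 : q ≠ 2 := Multi.primesF_ne_two hc ⟨hq, hqL⟩
    obtain ⟨R, hR⟩ := exists_sylowIn (p := q) L
    have hN := norm_le_of_single hq2 hc honly hqL hR
    obtain ⟨W, hW⟩ := exists_minW hs hqL
    have hS := sylowInside_of_norm_le hR hN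
    have hno : ∀ Y : Subgroup X, ¬ MaxReal q Y := fun Y hY =>
      false_of_single hq2 hc honly hW hS
        (fun Y hY => hY.exists_invol) (fun Y hY g hg => hY.minW_le hq2 hW g hg) hY
    have hfree := realFree_of_no_max (hq.odd_of_ne_two hq2) hno
    have hOne : One q L W :=
      ⟨hq2, hc, honly, hW, hS, fun Y hY => absurd hY (hno Y), fun Y hY => absurd hY (hno Y)⟩
    exact ⟨q, L, W, hq, hq.odd_of_ne_two hq2, dvd_card_invol hc hR hN, hfree, hc, hDL, hW,
      fun Q hQL hWQ hQ => normalizer_le_of_one hOne hfree hQL hWQ hQ⟩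

end CfsgLib.Bender.NC
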