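import Cfsg.Agent.Bender.NC.Inverted
import Cfsg.Agent.Bender.NC.Good
import Cfsg.Agent.Bender.NC.Blocks

/-!
Bender's theorem, noncommuting branch: the subgroup `W` of a two-point stabilizer, and the
centralized Sylow subgroups of the centralizer of a swapper.
-/

set_option autoImplicit false
set_option linter.unusedSectionVars false
set_option linter.style.haveILetI false

namespace CfsgLib.Bender.NC

open Subgroup
open CfsgLib.FusionLift (cj mem_cj card_cj)
open CfsgLib.Bender.GSide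
open scoped commutatorElement

universe u

/-- An `r`-element acting quadratically on `O_r` of a group of odd order and centralizing the other
cores lies in `O_r`. -/
theorem mem_pCore_of_quad {L : Type u} [Group L] [Finite L] {r : ℕ} [Fact r.Prime] (hr : r ≠ 2)
    (hodd : Odd (Nat.card L)) {a : L} (har : ∃ k, a ^ r ^ k = 1)
    (hq : ⁅⁅Cfsg.pCore r L, zpowers a⁆, zpowers a⁆ = ⊥)
    (hcen : ∀ q : ℕ, q.Prime → q ≠ r → a ∈ centralizer (Cfsg.pCore q L : Set L)) :
    a ∈ Cfsg.pCore r L := by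
  have hpr : r.Prime := Fact.out
  haveI : Group.IsSolvable L := CfsgLib.OddEnd.odd_solvable L hodd
  haveI := CfsgLib.Solvable.pCore_normal (G := L) r
  obtain ⟨D, hD, haD, hDp⟩ := CfsgLib.ZJ.pcoreMod_of_quadratic hr
    (CfsgLib.Invariant.not_involves_qd_of_odd hodd hr) _ (CfsgLib.Solvable.isPGroup_pCore r) a hq
  set C' : Subgroup L := ⨅ q : {q : ℕ // q.Prime ∧ q ≠ r},
    centralizer (Cfsg.pCore q.1 L : Set L)
  haveI : C'.Normal := normal_iInf_normal fun q => by
    haveI := CfsgLib.Solvable.pCore_normal (G := L) q.1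
    exact Subgroup.normal_centralizer
  haveI := hD
  set E := D ⊓ C'
  have haE : a ∈ E := ⟨haD, mem_iInf.2 fun q => hcen q.1 q.2.1 q.2.2⟩
  have hEC : ∀ e ∈ E, ∀ q : ℕ, q.Prime → q ≠ r → ∀ y ∈ Cfsg.pCore q L, Commute y e :=
    fun e he q hq hqr y hy => mem_centralizer_iff.1 (mem_iInf.1 he.2 ⟨q, hq, hqr⟩) y hy
  have hEp : ∀ d ∈ E, ∃ k : ℕ, ∀ e ∈ E, Commute (d ^ r ^ k) e := by
    intro d hd
    obtain ⟨k, hk⟩ := hDp d hd.1
    set z := d ^ r ^ k
    have hzE : z ∈ E := pow_mem hd _
    have hzF : z ∈ Cfsg.fittingSubgroup L := by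
      refine CfsgLib.Fitting.centralizer_fittingSubgroup_le_of_solvable
        (mem_centralizer_iff.2 fun y hy => ?_)
      refine mem_centralizer_singleton_iff.1 (?_ : y ∈ centralizer ({z} : Set L))
      refine CfsgLib.FGSA.le_of_prime_power_mem (A := Cfsg.fittingSubgroup L)
        (fun t ht b hb ⟨i, hi⟩ => ?_) hy
      haveI := Fact.mk ht
      have hbt := CfsgLib.FGSA.RankTwoSolvable.mem_pCore_of_mem_fitting ht hi hb
      refine mem_centralizer_singleton_iff.2 ?_
      rcases eq_or_ne t r with rfl | htr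
      · exact mem_centralizer_iff.1 hk b hbt
      · exact (hEC z hzE t ht htr b hbt).eq
    obtain ⟨j, m, hm, hjm⟩ :=
      Nat.exists_eq_pow_mul_and_not_dvd (orderOf_pos z).ne' r hpr.ne_one
    refine ⟨k + j, fun e he => ?_⟩
    rw [pow_add, pow_mul]
    change Commute (z ^ r ^ j) e
    have hz' : (orderOf (z ^ r ^ j)).Coprime r := by
      rw [orderOf_pow' _ (pow_ne_zero j hpr.ne_zero), hjm, Nat.gcd_eq_right (dvd_mul_right _ _),
        Nat.mul_div_cancel_left _ (Nat.pos_of_ne_zero (pow_ne_zero j hpr.ne_zero))]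
      exact (hpr.coprime_iff_not_dvd.mpr hm).symm
    refine mem_centralizer_singleton_iff.1 (?_ : z ^ r ^ j ∈ centralizer ({e} : Set L))
    refine CfsgLib.FGSA.le_of_prime_power_mem (A := zpowers (z ^ r ^ j))
      (fun t ht b hb ⟨i, hi⟩ => ?_) (mem_zpowers _)
    refine mem_centralizer_singleton_iff.2 ?_
    have hbF : b ∈ Cfsg.fittingSubgroup L := (zpowers_le.2 (pow_mem hzF _)) hb
    rcases eq_or_ne t r with rfl | htr
    · have hb1 : orderOf b = 1 := by
        refine Nat.eq_one_of_dvd_coprimes (hz'.pow_right i) ?_ hi.dvd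
        exact (Nat.card_zpowers (z ^ t ^ j)) ▸ Subgroup.orderOf_dvd_natCard _ hb
      rw [orderOf_eq_one_iff.1 hb1, one_mul, mul_one]
    · exact (hEC e he t ht htr b (CfsgLib.FGSA.RankTwoSolvable.mem_pCore_of_mem_fitting ht hi hbF)).eq
  have hEn : Group.IsNilpotent E := by
    refine Group.of_quotient_center_nilpotent ?_
    refine (show IsPGroup r (E ⧸ center E) from fun q => ?_).isNilpotent
    obtain ⟨d, rfl⟩ := QuotientGroup.mk_surjective q
    obtain ⟨k, hk⟩ := hEp d d.2
    refine ⟨k, ?_⟩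
    rw [← QuotientGroup.mk_pow, QuotientGroup.eq_one_iff, mem_center_iff]
    exact fun e => Subtype.ext (by simpa using (hk e e.2).eq.symm)
  have haF : a ∈ Cfsg.fittingSubgroup L :=
    CfsgLib.Solvable.le_fittingSubgroup (inferInstance : E.Normal) hEn haE
  obtain ⟨k, hk⟩ := har
  obtain ⟨i, -, hi⟩ := (Nat.dvd_prime_pow hpr).1 (orderOf_dvd_of_pow_eq_one hk)
  exact CfsgLib.FGSA.RankTwoSolvable.mem_pCore_of_mem_fitting hpr hi haF

variable {G : Type u} [Group G] [Finite G] {H : Subgroup G}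

/-- A normalized `r`-subgroup lies in each Sylow subgroup. -/
theorem le_syl_of_normalized {r : ℕ} [Fact r.Prime] {D R A : Subgroup G} (hR : Syl r D R)
    (hA : IsPGroup r A) (hAD : A ≤ D) (hn : D ≤ normalizer (A : Set G)) : A ≤ R := by
  have h : R = R ⊔ A := eq_of_le_of_card_ge le_sup_left
    (hR.2.2 _ (sup_le hR.1 hAD) (hR.2.1.to_sup_of_normal_right' hA (hR.1.trans hn)))
  rw [h]
  exact le_sup_right

/-- A swapper normalizes the two-point stabilizer. -/
theorem Swap.mem_normalizer {a b : G ⧸ H} {u : G} (hu : Swap a b u) :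
    u ∈ normalizer (((st a ⊓ st b : Subgroup G)) : Set G) := by
  refine mem_norm_iff.2 (cj_eq_of_le (B := st a ⊓ st b) (le_inf ?_ ?_) le_rfl)
  · have h := le_st_smul (g := u) (inf_le_right : st a ⊓ st b ≤ st b)
    rwa [hu.symm.2] at h
  · have h := le_st_smul (g := u) (inf_le_left : st a ⊓ st b ≤ st a)
    rwa [hu.2] at h

/-- A subgroup centralized by an element fixes the only fixed point of it. -/
theorem le_st_of_commute (hH : Hyp H) {v : G} {e : G ⧸ H} (hv : orderOf v = 2) (he : v • e = e)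
    {Q : Subgroup G} (hvQ : ∀ q ∈ Q, Commute q v) : Q ≤ st e := fun q hq =>
  StrongEmbed.fix_unique hH.se hv (by rw [smul_smul, ← (hvQ q hq).eq, mul_smul, he]) he

section Hyp

variable (hH : Hyp H)
include hH

/-- The centralizer of an involution is transitive on the points moved by it. -/
theorem Hyp.exists_cent_move {u : G} (hu : orderOf u = 2) {a c : G ⧸ H} (ha : u • a ≠ a)
    (hc : u • c ≠ c) : ∃ g ∈ centralizer ({u} : Set G), g • a = c := by
  obtain ⟨g, hga, hgb⟩ := hH.exists_move ha.symm hc.symm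
  have hgu := (show Swap a (u • a) u from ⟨hu, rfl⟩).smul g
  rw [hga, hgb] at hgu
  obtain ⟨d, hd, hdu⟩ := GSide.trans_swap hH.se hc.symm hgu.1 hu hgu.2 rfl
  refine ⟨d * g, mem_centralizer_singleton_iff.2 ?_, by rw [mul_smul, hga]; exact hd.1⟩
  calc d * g * u = d * (g * u * g⁻¹) * d⁻¹ * (d * g) := by group
    _ = u * (d * g) := by rw [hdu]

/-- A Sylow subgroup of the centralizer of a swapper in the two-point stabilizer is centralized by
an involution at the first point. -/
theorem Good.centralizes_sylow {r : ℕ} {a b : G ⧸ H} {W : Subgroup G} (hW : Good H r a b W)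
    {u : G} (hu : Swap a b u) {Q : Subgroup G}
    (hQ : Syl r (centralizer ({u} : Set G) ⊓ (st a ⊓ st b)) Q) :
    ∃ t, InvAt a t ∧ t ∈ centralizer (Q : Set G) := by
  haveI : Fact r.Prime := ⟨hW.prime⟩
  obtain ⟨e, hue⟩ := StrongEmbed.exists_fix hH.se hu.1
  have hQD : Q ≤ st a ⊓ st b := hQ.1.trans inf_le_right
  have hQu : ∀ q ∈ Q, Commute q u := fun q hq => mem_centralizer_singleton_iff.1 (hQ.1 hq).1
  have hQe : Q ≤ st e := le_st_of_commute hH hu.1 hue hQu
  have huQ : u ∈ normalizer (Q : Set G) :=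
    centralizer_le_normalizer _ (mem_centralizer_iff.2 fun q hq => (hQu q hq).eq)
  -- the normalizer of `Q` moves the centre of `u`
  obtain ⟨n, hnQ, hne⟩ : ∃ n ∈ normalizer (Q : Set G), n • e ≠ e := by
    by_contra hcon
    push Not at hcon
    set E := normalizer (Q : Set G) ⊓ (st a ⊓ st b) with hE
    have hEodd : Odd (Nat.card E) :=
      (hH.odd_pair hW.ne).of_dvd_nat (card_dvd_of_le inf_le_right)
    have huE : u ∈ normalizer (E : Set G) := by
      refine mem_norm_iff.2 (cj_eq_of_le (B := E) (le_inf ?_ ?_) le_rfl)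
      · rintro _ ⟨x, hx, rfl⟩
        exact mul_mem (mul_mem huQ hx.1) (inv_mem huQ)
      · exact (Subgroup.map_mono inf_le_right).trans (mem_norm_iff.1 hu.mem_normalizer).le
    have hcop : (Nat.card (zpowers u)).Coprime (Nat.card E) := by
      rw [Nat.card_zpowers, hu.1]; exact Nat.coprime_two_left.2 hEodd
    obtain ⟨P, hP⟩ := CoprimeAct.exists_invariant_sylow (zpowers_le.2 huE) hcop
      (Or.inr (OddEnd.odd_solvable E hEodd)) r
    set P' := (P : Subgroup E).map E.subtype
    have hP'E : P' ≤ E := map_subtype_le _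
    have hP'p : IsPGroup r P' := P.isPGroup'.map _
    have hP'u : u ∈ centralizer (P' : Set G) :=
      hW.realFree.centralizes hP'p (fun x hx => hcon x (hP'E hx).1) ⟨hu.1, hue⟩ (hP (mem_zpowers u))
    have hP'Q : Nat.card P' ≤ Nat.card Q := hQ.2.2 P' (le_inf (fun x hx =>
      mem_centralizer_singleton_iff.2 (mem_centralizer_iff.1 hP'u x hx))
      (hP'E.trans inf_le_right)) hP'p
    obtain ⟨R, hQR, hR⟩ := exists_syl hQD hQ.2.1
    have hQRe : Q = R := by
      by_contra hne
      obtain ⟨Z, hQZ, hZR, hZN⟩ := exists_between (lt_of_le_of_ne hQR hne) hR.2.1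
      have hZP : Nat.card Z ≤ Nat.card P' := (Functor.isSylowIn_map_subtype P).card_le
        (hR.2.1.to_le hZR) (le_inf hZN (hZR.trans hR.1))
      exact hQZ.ne (eq_of_le_of_card_ge hQZ.le (hZP.trans hP'Q))
    have hWQ : W ≤ Q := hQRe ▸ le_syl_of_normalized hR hW.isPGroup hW.le hW.normal
    exact hW.no_invol u hu.1 (mem_centralizer_iff.2 fun w hw => (hQu w (hWQ hw)).eq)
  -- Witt's lemma in the centralizer of `u`
  have hua : u • a ≠ a := fun h => hW.ne (h.symm.trans hu.2)
  have huc : u • n • e ≠ n • e := fun h => hne (StrongEmbed.fix_unique hH.se hu.1 h hue)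
  obtain ⟨g, hg, hga⟩ := hH.exists_cent_move hu.1 hua huc
  have hQ' : Syl r (centralizer ({u} : Set G) ⊓ st a) Q := by
    have e' : centralizer ({u} : Set G) ⊓ st a = centralizer ({u} : Set G) ⊓ (st a ⊓ st b) := by
      refine le_antisymm (fun c hc => ⟨hc.1, hc.2, ?_⟩) (inf_le_inf_left _ inf_le_left)
      show c • b = b
      rw [← hu.2, smul_smul, mem_centralizer_singleton_iff.1 hc.1, mul_smul,
        show c • a = a from hc.2]
    rwa [e']
  obtain ⟨m, hm, hmQ, hma⟩ := exists_norm_move hQ' (le_st_smul_of_norm hnQ hQe) hg hga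
  have ht : InvAt a (m⁻¹ * n * u * (m⁻¹ * n)⁻¹) := by
    have h := InvAt.smul (a := e) (t := u) ⟨hu.1, hue⟩ (m⁻¹ * n)
    rwa [mul_smul, inv_smul_eq_iff.2 hma.symm] at h
  exact ⟨_, ht, hW.realFree.centralizes hQ.2.1 (hQD.trans inf_le_left) ht
    (mul_mem (mul_mem (mul_mem (inv_mem hmQ) hnQ) huQ) (inv_mem (mul_mem (inv_mem hmQ) hnQ)))⟩

/-- A Sylow subgroup of a two-point stabilizer, for a real-free prime dividing the number of
involutions, is normalized by no involution at the first point. -/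
theorem Hyp.not_mem_normalizer_of_realFree {r : ℕ} [Fact r.Prime] (hfree : RealFreeAt H r)
    (hdvd : r ∣ Commuting.numInv H) {a b : G ⧸ H} (hab : a ≠ b) {R : Subgroup G}
    (hR : Syl r (st a ⊓ st b) R) {t : G} (ht : InvAt a t) : t ∉ normalizer (R : Set G) := by
  intro htR
  have htC := hfree.centralizes hR.2.1 (hR.1.trans inf_le_left) ht htR
  have h := card_orbit_mul (st a ⊓ st b) t (fun x => orderOf x = 2 ∧ x • a = a) fun x =>
    ⟨fun hx => (transOdd_pair hH.se hab).2.2 t x ht.2 ht.1 hx.2 hx.1, by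
      rintro ⟨k, hk, rfl⟩
      have h := ht.smul k
      rwa [show k • a = a from hk.1] at h⟩
  rw [StrongEmbed.card_fix a, show Nat.card {t : G // orderOf t = 2 ∧ t ∈ H} =
    Commuting.numInv H from rfl] at h
  have hle : R ≤ centralizer ({t} : Set G) ⊓ (st a ⊓ st b) :=
    le_inf (fun x hx => mem_centralizer_singleton_iff.2 (mem_centralizer_iff.1 htC x hx)) hR.1
  refine syl_not_dvd hR ?_
  obtain ⟨e, he⟩ := card_dvd_of_le hle
  have h1 : R.relIndex (st a ⊓ st b) * Nat.card R = Nat.card ↥(st a ⊓ st b) := by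
    rw [← relIndex_bot_left R, ← relIndex_bot_left (st a ⊓ st b), mul_comm]
    exact relIndex_mul_relIndex ⊥ R _ bot_le hR.1
  obtain ⟨l, hl⟩ := hdvd
  refine ⟨l * e, Nat.eq_of_mul_eq_mul_right (Nat.card_pos (α := R)) ?_⟩
  rw [h1, ← h, he, hl]
  ring

end Hyp

/-- The core of the centralizer of an abelian `r`-subgroup fixes its fixed points, when a Sylow
subgroup fixes exactly two points. -/
theorem Hyp.core_centralizer_le (hH : Hyp H) {r : ℕ} [Fact r.Prime] {a b : G ⧸ H} (hab : a ≠ b)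
    {R : Subgroup G} (hR : Syl r ⊤ R) (hRle : R ≤ st a ⊓ st b)
    (hfix : ∀ c, R ≤ st c → c = a ∨ c = b) (hC : centralizer (R : Set G) ≤ st a) {U : Subgroup G}
    (hU : IsPGroup r U) (hUc : ∀ x ∈ U, ∀ y ∈ U, x * y = y * x) {c : G ⧸ H} (hc : U ≤ st c) :
    (Cfsg.pPrimeCore r (centralizer (U : Set G))).map (centralizer (U : Set G)).subtype ≤ st c := by
  haveI := St.isMultiplyPretransitive_quotient (two_transitive_of_pair hH.se hH.pair)
  exact (principal_of_fix_pair hR hab (hRle.trans inf_le_left) (hRle.trans inf_le_right)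
    hfix hC).core_fix hU hUc hc

/-- A transitive subgroup `L` of the stabilizer of `a` with a minimal normal `r`-subgroup `W`
controlling the normalizers of the `r`-subgroups above it. -/
structure Control (r : ℕ) (a b : G ⧸ H) (L W : Subgroup G) : Prop where
  odd : Odd (Nat.card L)
  le : L ≤ st a
  pair_le : st a ⊓ st b ≤ L
  W_le : W ≤ L
  ne_bot : W ≠ ⊥
  isPGroup : IsPGroup r W
  comm : ∀ v ∈ W, ∀ w ∈ W, v * w = w * v
  exp : ∀ w ∈ W, w ^ r = 1
  normal : L ≤ normalizer (W : Set G)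
  minimal : ∀ V : Subgroup G, V ≤ W → V ≠ ⊥ → L ≤ normalizer (V : Set G) → V = W
  cores : ∀ q : ℕ, q.Prime → ∀ A : Subgroup G, A ≤ L → L ≤ normalizer (A : Set G) →
    IsPGroup q A → A ≤ centralizer (W : Set G)
  norm : ∀ Q : Subgroup G, Q ≤ L → W ≤ Q → IsPGroup r Q →
    st a ⊓ normalizer (Q : Set G) ≤ L
  ctx : ∀ U : Subgroup G, U ≤ L → U ≠ ⊥ → L ≤ normalizer (U : Set G) →
    st a ⊓ normalizer (U : Set G) ≤ L

/-- Every `r`-subgroup fixing `a` and containing `W` lies in `L`. -/
theorem Control.le_of_pgroup {r : ℕ} [Fact r.Prime] {a b : G ⧸ H} {L W : Subgroup G}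
    (h : Control r a b L W) {Q : Subgroup G} (hQ : IsPGroup r Q) (hQa : Q ≤ st a) (hWQ : W ≤ Q) :
    Q ≤ L := by
  by_contra hcon
  have hlt : Q ⊓ L < Q := lt_of_le_of_ne inf_le_left fun e => hcon (inf_eq_left.1 e)
  obtain ⟨Z, hZ, hZQ, hZN⟩ := exists_between hlt hQ
  have hZL : Z ≤ L := fun z hz => h.norm (Q ⊓ L) inf_le_right (le_inf hWQ h.W_le)
    (hQ.to_le inf_le_left) ⟨hQa (hZQ hz), hZN hz⟩
  exact hZ.not_ge (le_inf hZQ hZL)

section Hyp

variable (hH : Hyp H)
include hH

/-- A controlling pair gives the subgroup of the noncommuting branch: `L` is the two-point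
stabilizer. -/
theorem Control.good {r : ℕ} (hr : r.Prime) (hro : Odd r)
    (hdvd : r ∣ Commuting.numInv H) (hfree : RealFreeAt H r) {a b : G ⧸ H} (hab : a ≠ b)
    {L W : Subgroup G} (h : Control r a b L W) : Good H r a b W := by
  classical
  haveI : Fact r.Prime := ⟨hr⟩
  have hr2 : r ≠ 2 := fun e => by rw [e] at hro; exact absurd hro (by decide)
  obtain ⟨R, -, hR⟩ := exists_syl (r := r) (bot_le : ⊥ ≤ st a ⊓ st b) IsPGroup.of_bot
  have hno : ∀ t, InvAt a t → t ∉ normalizer (R : Set G) := fun t ht =>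
    hH.not_mem_normalizer_of_realFree hfree hdvd hab hR ht
  have hfixR : ∀ c, R ≤ st c → c = a ∨ c = b := fun c hc => hH.fix_pair_of_syl hr2 hab hR hno hc
  have hRtop : Syl r (⊤ : Subgroup G) R :=
    hH.syl_of_fix_pair hr2 hab le_top (by rwa [top_inf_eq]) hfixR
  have hRL : R ≤ L := hR.1.trans h.pair_le
  have hRLs : Syl r L R := ⟨hRL, hR.2.1, fun P _ hP => hRtop.2.2 P le_top hP⟩
  have hWR : W ≤ R := le_syl_of_normalized hRLs h.isPGroup h.W_le h.normal
  have hWD : W ≤ st a ⊓ st b := hWR.trans hR.1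
  have hOrR : coreOf r L ≤ R :=
    le_syl_of_normalized hRLs (isPGroup_coreOf L) (coreOf_le r L) (le_normalizer_coreOf r L)
  -- the fixed points of `W` other than `a` form an orbit of `L`
  have horb : ∀ c : G ⧸ H, W ≤ st c → c ≠ a → ∃ l ∈ L, l • b = c := by
    intro c hc hca
    obtain ⟨g, hga, hgb⟩ := hH.exists_move hab hca.symm
    have hgR : cj g R ≤ st a ⊓ st c := by
      refine le_inf ?_ ?_
      · exact hga ▸ le_st_smul (hR.1.trans inf_le_left)
      · exact hgb ▸ le_st_smul (hR.1.trans inf_le_right)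
    obtain ⟨R', hWR', hR'⟩ := exists_syl (le_inf (h.le.trans' h.W_le) hc) h.isPGroup
    obtain ⟨d, hd, hdR⟩ := syl_conj hR' hgR (hR.2.1.map _)
    rw [cj_cj] at hdR
    have hR'eq : cj (d * g) R = R' :=
      eq_of_le_of_card_ge hdR (by rw [card_cj]; exact hRtop.2.2 R' le_top hR'.2.1)
    have hR'L : R' ≤ L := h.le_of_pgroup hR'.2.1 (hR'.1.trans inf_le_left) hWR'
    obtain ⟨l, hl, hlR⟩ := syl_conj hRLs hR'L hR'.2.1
    rw [← hR'eq, cj_cj] at hlR
    have hn : l * (d * g) ∈ L := h.norm R hRL hWR hR.2.1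
      ⟨mul_mem (h.le hl) (mul_mem hd.1 (show g ∈ st a from hga)),
        mem_norm_iff.2 (cj_eq_of_le hlR le_rfl)⟩
    refine ⟨d * g, (mul_mem_cancel_left hl).1 hn, ?_⟩
    rw [mul_smul, hgb]
    exact hd.2
  -- the pointwise stabilizer of the fixed points of `W`
  let K0 : Subgroup G := ⨅ c : {c : G ⧸ H // W ≤ st c}, st c.1
  have hK0 : ∀ c, W ≤ st c → K0 ≤ st c := fun c hc =>
    iInf_le (fun c : {c : G ⧸ H // W ≤ st c} => st c.1) ⟨c, hc⟩
  have hWK : W ≤ K0 := le_iInf fun c => c.2
  have hWa : W ≤ st a := hWD.trans inf_le_left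
  have hWb : W ≤ st b := hWD.trans inf_le_right
  have hKD : K0 ≤ st a ⊓ st b := le_inf (hK0 a hWa) (hK0 b hWb)
  have hnK : ∀ g : G, (∀ c : G ⧸ H, W ≤ st c → W ≤ st (g • c)) → g ∈ normalizer (K0 : Set G) := by
    intro g hg
    let f : {c : G ⧸ H // W ≤ st c} → {c : G ⧸ H // W ≤ st c} := fun c => ⟨g • c.1, hg c.1 c.2⟩
    have hf : Function.Surjective f := Finite.injective_iff_surjective.1
      fun x y e => Subtype.ext (MulAction.injective g (congrArg Subtype.val e))
    refine mem_norm_iff.2 (cj_eq_of_le (B := K0) (le_iInf fun c => ?_) le_rfl)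
    obtain ⟨c₀, rfl⟩ := hf c
    exact le_st_smul (hK0 _ c₀.2)
  have hLK : L ≤ normalizer (K0 : Set G) := fun l hl =>
    hnK l fun c hc => le_st_smul_of_norm (h.normal hl) hc
  have hKne : K0 ≠ ⊥ := fun e => h.ne_bot (le_bot_iff.1 (e ▸ hWK))
  -- some element of the normalizer of this subgroup moves `a`
  obtain ⟨g, hgK, hga⟩ : ∃ g ∈ normalizer (K0 : Set G), g • a ≠ a := by
    by_cases hcase : ∃ g ∈ normalizer (W : Set G), g • a ≠ a
    · obtain ⟨g, hg, hga⟩ := hcase
      exact ⟨g, hnK g fun c hc => le_st_smul_of_norm hg hc, hga⟩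
    push Not at hcase
    have hNW : normalizer (W : Set G) ≤ L := fun x hx =>
      h.ctx W h.W_le h.ne_bot h.normal ⟨hcase x hx, hx⟩
    obtain ⟨u, hu, hua, huR⟩ := swapper_norm hH.se hab hR
    have hswap : Swap a b u := ⟨hu, hua⟩
    have huu : cj u (cj u W) = W := by rw [cj_cj, Invol.mul_self_eq_one hu, GSide.cj_one]
    set A := cj u W with hA
    have hAR : A ≤ R := (Subgroup.map_mono hWR).trans (mem_norm_iff.1 huR).le
    have hAD : A ≤ st a ⊓ st b := hAR.trans hR.1
    have hAL : A ≤ L := hAR.trans hRL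
    have hAp : IsPGroup r A := h.isPGroup.map _
    have hAc : ∀ x ∈ A, ∀ y ∈ A, x * y = y * x := by
      rintro _ ⟨x, hx, rfl⟩ _ ⟨y, hy, rfl⟩
      rw [← map_mul, ← map_mul, h.comm x hx y hy]
    have hDA : st a ⊓ st b ≤ normalizer (A : Set G) := fun x hx => by
      have hx' : u⁻¹ * x * u ∈ st a ⊓ st b :=
        (mem_normalizer_iff''.1 hswap.mem_normalizer x).1 hx
      rw [mem_norm_iff, hA, cj_cj, show x * u = u * (u⁻¹ * x * u) by group, ← cj_cj,
        mem_norm_iff.1 (h.normal (h.pair_le hx'))]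
    -- the other cores of `L` fix the fixed points of `W`
    have hcoresD : ∀ q : ℕ, q.Prime → q ≠ r → coreOf q L ≤ st a ⊓ st b := by
      intro q hq hqr
      haveI : Fact q.Prime := ⟨hq⟩
      set B := coreOf q L
      have hBC : B ≤ centralizer (W : Set G) :=
        h.cores q hq B (coreOf_le q L) (le_normalizer_coreOf q L) (isPGroup_coreOf L)
      haveI : (B.subgroupOf (centralizer (W : Set G))).Normal :=
        (normal_subgroupOf_iff_le_normalizer hBC).2
          (((centralizer_le_normalizer _).trans hNW).trans (le_normalizer_coreOf q L))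
      have hB1 : B.subgroupOf (centralizer (W : Set G)) ≤
          Cfsg.pPrimeCore r (centralizer (W : Set G)) := by
        refine CfsgLib.Solvable.le_pPrimeCore r inferInstance ?_
        rw [Nat.card_congr (subgroupOfEquivOfLe hBC).toEquiv]
        exact Multi.coprime_card_prime hq hr hqr (isPGroup_coreOf L)
      have hBfix : ∀ c, W ≤ st c → B ≤ st c := fun c hc =>
        (map_subgroupOf_eq_of_le hBC).ge.trans ((map_mono hB1).trans
          (hH.core_centralizer_le hab hRtop hR.1 hfixR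
            (((centralizer_le hWR).trans (centralizer_le_normalizer _)).trans (hNW.trans h.le))
            h.isPGroup h.comm hc))
      exact le_inf (hBfix a hWa) (hBfix b hWb)
    have hAcore : A ≤ coreOf r L := by
      intro x hx
      have hB : IsMulCommutative ↥(A.subgroupOf L) :=
        ⟨⟨fun p q => Subtype.ext (Subtype.ext (hAc _ p.2 _ q.2))⟩⟩
      have hPB : Cfsg.pCore r L ≤ normalizer (A.subgroupOf L : Set L) := by
        intro p hp
        have hpD : (p : G) ∈ normalizer (A : Set G) := hDA (hR.1 (hOrR ⟨p, hp, rfl⟩))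
        exact mem_normalizer_iff.2 fun y => mem_normalizer_iff.1 hpD (y : G)
      refine ⟨⟨x, hAL hx⟩, mem_pCore_of_quad hr2 h.odd ?_
        (CfsgLib.OddLocal.Stability.quadratic_of_abelian_normalized hB hPB (mem_subgroupOf.2 hx))
        fun q hq hqr => ?_, rfl⟩
      · obtain ⟨k, hk⟩ := hAp ⟨x, hx⟩
        exact ⟨k, Subtype.ext (congrArg Subtype.val hk : x ^ r ^ k = 1)⟩
      · refine mem_centralizer_iff.2 fun y hy => Subtype.ext ?_
        haveI : Fact q.Prime := ⟨hq⟩
        set B := coreOf q L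
        have hyB : (y : G) ∈ B := ⟨y, hy, rfl⟩
        haveI : (B.subgroupOf (st a ⊓ st b)).Normal :=
          (normal_subgroupOf_iff_le_normalizer (hcoresD q hq hqr)).2
            (h.pair_le.trans (le_normalizer_coreOf q L))
        haveI : (A.subgroupOf (st a ⊓ st b)).Normal :=
          (normal_subgroupOf_iff_le_normalizer hAD).2 hDA
        have hd : Disjoint (B.subgroupOf (st a ⊓ st b)) (A.subgroupOf (st a ⊓ st b)) := by
          refine disjoint_of_coprime_natCard ?_
          rw [Nat.card_congr (subgroupOfEquivOfLe (hcoresD q hq hqr)).toEquiv,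
            Nat.card_congr (subgroupOfEquivOfLe hAD).toEquiv]
          exact Multi.coprime_card_of_pgroups hq hr hqr (isPGroup_coreOf L) hAp
        show (y : G) * x = x * y
        have e := congrArg (fun z : ↥(st a ⊓ st b) => (z : G))
          (commute_of_normal_of_disjoint _ _ inferInstance inferInstance hd
            ⟨(y : G), hcoresD q hq hqr hyB⟩ ⟨x, hAD hx⟩ (mem_subgroupOf.2 hyB) (mem_subgroupOf.2 hx)).eq
        exact e
    have hAfix : ∀ c : G ⧸ H, W ≤ st c → A ≤ st c := by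
      intro c hc
      by_cases hca : c = a
      · rw [hca]; exact hAD.trans inf_le_left
      · obtain ⟨l, hl, rfl⟩ := horb c hc hca
        exact hAcore.trans
          (le_st_smul_of_norm (le_normalizer_coreOf r L hl) (hOrR.trans (hR.1.trans inf_le_right)))
    refine ⟨u, hnK u fun c hc => ?_, fun e => hab (e.symm.trans hua)⟩
    exact huu ▸ le_st_smul (hAfix c hc)
  -- hence `W` fixes only two points
  have hKW : ∀ c : G ⧸ H, K0 ≤ st c → W ≤ st c := fun c hc => hWK.trans hc
  have hgW : W ≤ st (g • a) := hKW _ (le_st_smul_of_norm hgK (hK0 a hWa))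
  obtain ⟨l₀, hl₀, hlg⟩ := horb _ hgW hga
  have htr1 : ∀ p : G ⧸ H, W ≤ st p → ∃ k ∈ normalizer (K0 : Set G), k • a = p := by
    intro p hp
    by_cases hpa : p = a
    · exact ⟨1, one_mem _, by rw [one_smul, hpa]⟩
    obtain ⟨l, hl, rfl⟩ := horb p hp hpa
    refine ⟨l * l₀⁻¹ * g, mul_mem (mul_mem (hLK hl) (inv_mem (hLK hl₀))) hgK, ?_⟩
    rw [mul_smul, mul_smul, ← hlg, inv_smul_smul]
  have hnc : ∀ c : G ⧸ H, K0 ≤ st c → ¬ Centre (normalizer (K0 : Set G)) c := by
    intro c hc hcent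
    obtain ⟨k, hk, hka⟩ := htr1 c (hKW c hc)
    obtain ⟨t, ht, hta⟩ := hcent.smul (inv_mem hk)
    rw [inv_smul_eq_iff.2 hka.symm] at hta
    exact not_mem_of_odd hta.1 h.odd (h.ctx K0 (hKD.trans h.pair_le) hKne hLK ⟨hta.2, ht⟩)
  have htwo : ∀ c : G ⧸ H, W ≤ st c → c = a ∨ c = b := by
    intro c hc
    by_contra hcon
    push Not at hcon
    refine hH.false_of_trans ((hH.odd_pair hab).of_dvd_nat (card_dvd_of_le hKD)) le_rfl hnc ?_
      hab hcon.1 hcon.2 (hK0 a hWa) (hK0 b hWb) (hK0 c hc)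
    intro p q q' hp hq hq' hqp hq'p
    obtain ⟨k, hk, hka⟩ := htr1 p (hKW p hp)
    have key : ∀ x : G ⧸ H, K0 ≤ st x → x ≠ p → ∃ l ∈ L, l • b = k⁻¹ • x := fun x hx hxp =>
      horb _ (hKW _ (le_st_smul_of_norm (inv_mem hk) hx)) fun e =>
        hxp (by rw [inv_smul_eq_iff.1 e, hka])
    obtain ⟨lq, hlq, hlqb⟩ := key q hq hqp
    obtain ⟨lr, hlr, hlrb⟩ := key q' hq' hq'p
    have hm : lr * lq⁻¹ ∈ L := mul_mem hlr (inv_mem hlq)
    refine ⟨k * (lr * lq⁻¹) * k⁻¹, mul_mem (mul_mem hk (hLK hm)) (inv_mem hk), ?_, ?_⟩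
    · rw [mul_smul, mul_smul, inv_smul_eq_iff.2 hka.symm, show (lr * lq⁻¹) • a = a from h.le hm,
        hka]
    · rw [mul_smul, mul_smul, ← hlqb, mul_smul, inv_smul_smul, hlrb, smul_inv_smul]
  have hLD : L ≤ st a ⊓ st b := le_inf h.le fun l hl => by
    rcases htwo (l • b) (le_st_smul_of_norm (h.normal hl) hWb) with e | e
    · exact absurd (MulAction.injective l ((show l • a = a from h.le hl).trans e.symm)) hab
    · exact e
  exact
    { ne := hab
      prime := hr
      odd := hro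
      dvd := hdvd
      realFree := hfree
      le := hWD
      ne_bot := h.ne_bot
      isPGroup := h.isPGroup
      comm := h.comm
      exp := h.exp
      normal := h.pair_le.trans h.normal
      minimal := fun V hV hV1 hn => h.minimal V hV hV1 (hLD.trans hn)
      fix := htwo
      no_invol := fun t ht htW => by
        have htN := centralizer_le_normalizer _ htW
        rcases htwo (t • a) (le_st_smul_of_norm htN hWa) with e | e
        · exact not_mem_of_odd ht h.odd (h.ctx W h.W_le h.ne_bot h.normal ⟨e, htN⟩)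
        · obtain ⟨x, htx⟩ := StrongEmbed.exists_fix hH.se ht
          have hx := hH.swap_centre ⟨ht, e⟩ hab htx
          rcases htwo x (le_st_of_commute hH ht htx
            fun w hw => (mem_centralizer_iff.1 htW w hw)) with e' | e'
          · exact hx.1 e'
          · exact hx.2 e' }

/-- **The subgroup `W`**: if the involutions of some point stabilizer do not all commute, every
pair of points has such a subgroup, for one prime. -/
theorem Hyp.exists_good (hnc : ¬ Core.CSix.InvolComm H) :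
    ∃ r : ℕ, ∀ a b : G ⧸ H, a ≠ b → ∃ W, Good H r a b W := by
  classical
  set a₀ : G ⧸ H := QuotientGroup.mk 1
  obtain ⟨g₀, hg₀⟩ : ∃ g : G, g ∉ H := by
    by_contra h
    push Not at h
    exact hH.se.1 (eq_top_iff.2 fun x _ => h x)
  have hab : a₀ ≠ QuotientGroup.mk g₀ := fun e => hg₀ (by simpa [a₀] using QuotientGroup.eq.1 e)
  set b₀ : G ⧸ H := QuotientGroup.mk g₀
  have hst : st a₀ = H := st_one
  have hmem : ∀ (g w : G) (c : G ⧸ H), g • c = a₀ → w • c = c → g * w * g⁻¹ ∈ H := fun g w c hg hw =>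
    StrongEmbed.smul_mk_one_iff.1
      (by rw [mul_smul, mul_smul, inv_smul_eq_iff.2 hg.symm, hw, hg])
  have hmk : ∀ (g w : G) (hw : g * w * g⁻¹ ∈ H), orderOf w = 2 →
      orderOf (⟨g * w * g⁻¹, hw⟩ : H) = 2 := fun g w hw h2 => by
    rw [Subgroup.orderOf_mk, Invol.orderOf_conj_eq, h2]
  have hpX : PairRank H := by
    obtain ⟨v, w, hv, hw, hne, hvw⟩ := hH.pair
    obtain ⟨e, hve⟩ := StrongEmbed.exists_fix hH.se hv
    have hwe : w • e = e :=
      StrongEmbed.fix_unique hH.se hv (by rw [smul_smul, hvw.eq, mul_smul, hve]) hve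
    obtain ⟨g, hg⟩ := MulAction.exists_smul_eq G e a₀
    exact ⟨⟨_, hmem g v e hg hve⟩, ⟨_, hmem g w e hg hwe⟩, hmk _ _ _ hv, hmk _ _ _ hw,
      fun h => hne (mul_left_cancel (mul_right_cancel (congrArg Subtype.val h))),
      Subtype.ext (hvw.map (MulAut.conj g).toMonoidHom).eq⟩
  have hncX : ∃ v w : H, orderOf v = 2 ∧ orderOf w = 2 ∧ v * w ≠ w * v := by
    simp only [Core.CSix.InvolComm, not_forall] at hnc
    obtain ⟨x, s, t, hs, ht, hsx, htx, hst'⟩ := hnc
    obtain ⟨g, hg⟩ := MulAction.exists_smul_eq G x a₀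
    refine ⟨⟨_, hmem g s x hg hsx⟩, ⟨_, hmem g t x hg htx⟩, hmk _ _ _ hs, hmk _ _ _ ht, fun h => hst' ?_⟩
    have h' : MulAut.conj g s * MulAut.conj g t = MulAut.conj g t * MulAut.conj g s :=
      congrArg Subtype.val h
    rw [← map_mul, ← map_mul] at h'
    exact (MulAut.conj g).injective h'
  set D₀ : Subgroup H := (st a₀ ⊓ st b₀).subgroupOf H with hD₀
  have hDle : st a₀ ⊓ st b₀ ≤ H := inf_le_left.trans hst.le
  have hD : IsTransOdd (⊤ : Subgroup H) D₀ := by
    refine ⟨le_top, ?_, fun s t _ hs _ ht => ?_⟩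
    · rw [hD₀, Nat.card_congr (subgroupOfEquivOfLe hDle).toEquiv]
      exact hH.odd_pair hab
    · obtain ⟨d, hd, e⟩ := (transOdd_pair hH.se hab).2.2 (s : G) t (hst.ge s.2)
        (by rwa [Subgroup.orderOf_coe]) (hst.ge t.2) (by rwa [Subgroup.orderOf_coe])
      exact ⟨⟨d, hDle hd⟩, mem_subgroupOf.2 hd, Subtype.ext e⟩
  have hSE : ∀ S : Subgroup H, ¬ Cfsg.IsStronglyEmbedded S := fun S hS =>
    noTransOdd_of_pair hS hpX D₀ hD
  obtain ⟨r, L, W, hr, hro, hdvd, hfree, hctx, hDL, hW, hN⟩ :=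
    NC.exists_good hH.oddCore_eq_bot hpX hSE hncX hD
  refine ⟨r, ?_⟩
  have hinj : Function.Injective H.subtype := H.subtype_injective
  have hback : ∀ {U : Subgroup G} {M : Subgroup H}, U ≤ M.map H.subtype →
      U.subgroupOf H ≤ M := fun {U M} hU x hx => (mem_map_iff_mem hinj).1 (hU hx)
  have hLH : ∀ M : Subgroup H, M.map H.subtype ≤ H := map_subtype_le
  have hnormBack : ∀ {U : Subgroup G} {x : H}, (x : G) ∈ normalizer (U : Set G) →
      x ∈ normalizer (U.subgroupOf H : Set H) := fun {U x} hx =>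
    mem_normalizer_iff.2 fun y => mem_normalizer_iff.1 hx (y : G)
  have hWL : W ≤ L := hW.le_core.trans (Bender.coreOf_le r L)
  have hctrl : Control r a₀ b₀ (L.map H.subtype) (W.map H.subtype) :=
    { odd := by rw [card_map_of_injective hinj]; exact hctx.odd
      le := (hLH L).trans hst.ge
      pair_le := (map_subgroupOf_eq_of_le hDle).ge.trans (map_mono hDL)
      W_le := map_mono hWL
      ne_bot := fun e => hW.ne_bot ((map_eq_bot_iff_of_injective _ hinj).1 e)
      isPGroup := by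
        haveI : Fact r.Prime := ⟨hr⟩
        exact ((Bender.isPGroup_coreOf L).to_le hW.le_core).map _
      comm := by
        rintro _ ⟨v, hv, rfl⟩ _ ⟨w, hw, rfl⟩
        rw [← map_mul, ← map_mul, hW.comm v hv w hw]
      exp := by
        rintro _ ⟨w, hw, rfl⟩
        rw [← map_pow, hW.exp w hw, map_one]
      normal := (map_mono hW.normal).trans (le_normalizer_map H.subtype)
      minimal := fun V hV hV1 hn => by
        have hVH : V ≤ H := hV.trans (hLH W)
        rw [← map_subgroupOf_eq_of_le hVH, hW.minimal (V.subgroupOf H) (hback hV)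
          (fun e => hV1 (by rw [← map_subgroupOf_eq_of_le hVH, e, Subgroup.map_bot]))
          fun x hx => hnormBack (hn ⟨x, hx, rfl⟩)]
      cores := by
        intro q hq A hA hAn hAq
        have hAH : A ≤ H := hA.trans (hLH L)
        haveI : ((A.subgroupOf H).subgroupOf L).Normal :=
          (normal_subgroupOf_iff_le_normalizer (hback hA)).2
            fun x hx => hnormBack (hAn ⟨x, hx, rfl⟩)
        have h1 : (A.subgroupOf H).subgroupOf L ≤ Cfsg.pCore q L :=
          CfsgLib.Solvable.le_pCore q inferInstance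
            ((hAq.of_equiv (subgroupOfEquivOfLe hAH).symm).of_equiv
              (subgroupOfEquivOfLe (hback hA)).symm)
        have h2 : A.subgroupOf H ≤ coreOf q L := by
          rw [← map_subgroupOf_eq_of_le (hback hA)]
          exact map_mono h1
        intro x hx
        refine mem_centralizer_iff.2 ?_
        rintro _ ⟨w, hw, rfl⟩
        exact congrArg Subtype.val (mem_centralizer_iff.1 (hW.central q hq
          (h2 (show (⟨x, hAH hx⟩ : H) ∈ A.subgroupOf H from hx))) w hw)
      norm := by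
        intro Q hQ hWQ hQp x hx
        have hxH : x ∈ H := hst.le hx.1
        refine ⟨⟨x, hxH⟩, hN (Q.subgroupOf H) (hback hQ) (fun w hw => ?_)
          (hQp.of_equiv (subgroupOfEquivOfLe (hQ.trans (hLH L))).symm) (hnormBack hx.2), rfl⟩
        exact hWQ ⟨w, hw, rfl⟩
      ctx := by
        intro U hU hU1 hn x hx
        have hxH : x ∈ H := hst.le hx.1
        have hUH : U ≤ H := hU.trans (hLH L)
        refine ⟨⟨x, hxH⟩, (hctx.norm (U.subgroupOf H) (hback hU) (fun e => hU1 ?_)
          fun y hy => hnormBack (hn ⟨y, hy, rfl⟩)).le (hnormBack hx.2), rfl⟩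
        rw [← map_subgroupOf_eq_of_le hUH, e, Subgroup.map_bot] }
  have hfree' : RealFreeAt H r := by
    intro c v y hv hy hyk hinv
    obtain ⟨g, hg⟩ := MulAction.exists_smul_eq G c a₀
    obtain ⟨k, hk⟩ := hyk
    have hvH := hmem g v c hg hv.2
    have hyH := hmem g y c hg hy
    have hk' : (⟨g * y * g⁻¹, hyH⟩ : H) ^ r ^ k = 1 := Subtype.ext (by
      rw [SubmonoidClass.coe_pow, conj_pow, hk, mul_one, mul_inv_cancel]; rfl)
    have hinv' : g * v * g⁻¹ * (g * y * g⁻¹) * (g * v * g⁻¹)⁻¹ = (g * y * g⁻¹)⁻¹ := by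
      calc g * v * g⁻¹ * (g * y * g⁻¹) * (g * v * g⁻¹)⁻¹ = g * (v * y * v⁻¹) * g⁻¹ := by group
        _ = g * y⁻¹ * g⁻¹ := by rw [hinv]
        _ = _ := by group
    exact conj_eq_one_iff.1 (congrArg Subtype.val
      (hfree ⟨_, hvH⟩ ⟨_, hyH⟩ (hmk g v hvH hv.1) ⟨k, hk'⟩ (Subtype.ext hinv')))
  have hdvd' : r ∣ Commuting.numInv H := by
    refine hdvd.trans (dvd_of_eq (Nat.card_congr
      { toFun := fun t => ⟨t.1.1, by rw [Subgroup.orderOf_coe]; exact t.2, t.1.2⟩
        invFun := fun t => ⟨⟨t.1, t.2.2⟩, by rw [Subgroup.orderOf_mk]; exact t.2.1⟩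
        left_inv := fun _ => rfl
        right_inv := fun _ => rfl }))
  intro a b hne
  obtain ⟨g, hga, hgb⟩ := hH.exists_move hab hne
  exact ⟨_, hga ▸ hgb ▸ (hctrl.good hH hr hro hdvd' hfree' hab).smul g⟩

end Hyp

end CfsgLib.Bender.NC
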