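import Cfsg.Agent.Bender.NC.Kill
import Cfsg.Agent.Solvable.CoprimeAct
import Cfsg.Agent.Solvable.PGroupBasic

/-!
Bender's theorem, noncommuting branch: an involution at the first point centralizes an abelian
subgroup of prime power order of the centralizer of the swapper in the centralizer of `W`.
-/

set_option autoImplicit false
set_option linter.unusedSectionVars false
set_option linter.style.haveILetI false

namespace CfsgLib.Bender.NC

open Subgroup
open CfsgLib.FusionLift (cj mem_cj card_cj)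
open CfsgLib.Bender.GSide

universe u

variable {G : Type u} [Group G] [Finite G] {H : Subgroup G}

/-- A subgroup with a Sylow subgroup of a bigger group inside it has it as Sylow subgroup. -/
theorem syl_of_le {q : ℕ} {K L R : Subgroup G} (h : Syl q L R) (hRK : R ≤ K) (hKL : K ≤ L) :
    Syl q K R :=
  ⟨hRK, h.2.1, fun P hP hPp => h.2.2 P (hP.trans hKL) hPp⟩

/-- A normal subgroup meets a Sylow subgroup in a Sylow subgroup. -/
theorem syl_inf {q : ℕ} [Fact q.Prime] {M R O : Subgroup G} (hR : Syl q M R) (hOM : O ≤ M)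
    (hn : M ≤ normalizer (O : Set G)) : Syl q O (R ⊓ O) := by
  refine ⟨inf_le_right, hR.2.1.to_le inf_le_left, fun P hP hPp => ?_⟩
  obtain ⟨d, hd, hdP⟩ := syl_conj hR (hP.trans hOM) hPp
  rw [← card_cj d P]
  refine Nat.le_of_dvd Nat.card_pos (card_dvd_of_le (le_inf hdP ?_))
  rintro _ ⟨x, hx, rfl⟩
  exact (mem_normalizer_iff.1 (hn hd) x).1 (hP hx)

section Hyp

variable (hH : Hyp H)
include hH

theorem Hyp.swap_normalizes {a b : G ⧸ H} {u : G} (hu : Swap a b u) :
    u ∈ normalizer ((st a ⊓ st b : Subgroup G) : Set G) := by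
  refine mem_norm_iff.2 (cj_eq_of_le (cj_le_iff.2 fun x hx => ⟨?_, ?_⟩) le_rfl)
  · show (u * x * u⁻¹) • a = a
    rw [mul_smul, mul_smul, Invol.inv_eq_self hu.1, hu.2, show x • b = b from hx.2, hu.symm.2]
  · show (u * x * u⁻¹) • b = b
    rw [mul_smul, mul_smul, Invol.inv_eq_self hu.1, hu.symm.2, show x • a = a from hx.1, hu.2]

/-- If `q` divides the number of involutions no swapper centralizes a Sylow `q`-subgroup. -/
theorem Hyp.not_centralizes {q : ℕ} [Fact q.Prime] (hq : q ∣ Commuting.numInv H) {a b : G ⧸ H}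
    (hab : a ≠ b) {R : Subgroup G} (hR : Syl q (st a ⊓ st b) R) {u : G} (hu : Swap a b u) :
    u ∉ centralizer (R : Set G) := by
  intro huR
  have h := card_orbit_mul (st a ⊓ st b) u (fun x => orderOf x = 2 ∧ x • a = b) fun x =>
    ⟨fun hx => trans_swap hH.se hab hu.1 hx.1 hu.2 hx.2, by
      rintro ⟨k, hk, rfl⟩
      have h := hu.smul k
      rwa [show k • a = a from hk.1, show k • b = b from hk.2] at h⟩
  rw [StrongEmbed.card_swap hH.se hab, show Nat.card {t : G // orderOf t = 2 ∧ t ∈ H} =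
    Commuting.numInv H from rfl] at h
  have hle : R ≤ centralizer ({u} : Set G) ⊓ (st a ⊓ st b) :=
    le_inf (fun x hx => mem_centralizer_singleton_iff.2 (mem_centralizer_iff.1 huR x hx)) hR.1
  refine syl_not_dvd hR ?_
  obtain ⟨e, he⟩ := card_dvd_of_le hle
  have h1 : R.relIndex (st a ⊓ st b) * Nat.card R = Nat.card ↥(st a ⊓ st b) := by
    rw [← relIndex_bot_left R, ← relIndex_bot_left (st a ⊓ st b), mul_comm]
    exact relIndex_mul_relIndex ⊥ R _ bot_le hR.1
  obtain ⟨l, hl⟩ := hq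
  refine ⟨l * e, Nat.eq_of_mul_eq_mul_right (Nat.card_pos (α := R)) ?_⟩
  rw [h1, ← h, he, hl]
  ring

/-- The centralizer of a Sylow subgroup fixing two points fixes them. -/
theorem Hyp.centralizer_le {q : ℕ} [Fact q.Prime] (hq : q ∣ Commuting.numInv H) {a b : G ⧸ H}
    (hab : a ≠ b) {R : Subgroup G} (hR : Syl q (st a ⊓ st b) R)
    (hfix : ∀ c, R ≤ st c → c = a ∨ c = b) : centralizer (R : Set G) ≤ st a := by
  intro g hg
  have hga := hfix (g • a)
    (le_st_smul_of_norm (centralizer_le_normalizer _ hg) (hR.1.trans inf_le_left))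
  rcases hga with h | h
  · exact h
  exfalso
  have hgb : g • b = a := (hfix (g • b)
    (le_st_smul_of_norm (centralizer_le_normalizer _ hg) (hR.1.trans inf_le_right))).resolve_right
      fun h' => hab (MulAction.injective g (h.trans h'.symm))
  have hg2 : g * g ∈ st a ⊓ st b :=
    mem_inf.2 ⟨MulAction.mem_stabilizer_iff.2 (by rw [mul_smul, h, hgb]),
      MulAction.mem_stabilizer_iff.2 (by rw [mul_smul, hgb, h])⟩
  obtain ⟨l, hl⟩ := hH.odd_of_mem hab hg2
  have hsw : g ^ (2 * l + 1) • a = b := by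
    rw [pow_succ, mul_smul, h, pow_mul, sq]
    exact (pow_mem hg2 l).2
  refine hH.not_centralizes hq hab hR (u := g ^ (2 * l + 1))
    ⟨Invol.orderOf_eq_two ?_ fun h1 => hab ?_, hsw⟩ (pow_mem hg _)
  · rw [← pow_add, ← two_mul, pow_mul, sq, ← hl, pow_orderOf_eq_one]
  · rw [← hsw, h1, one_smul]

end Hyp

/-- The statement of the torus lemma used for the central inverted element. -/
def ZPairStmt (H : Subgroup G) : Prop :=
  ∀ (M : Subgroup G), M ≠ ⊤ → Core.HasPair M → ∀ (a b : G ⧸ H), a ≠ b → Centre M a → Centre M b →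
    ¬ M ≤ st a → ∀ (q : ℕ) [Fact q.Prime], q ∣ Commuting.numInv H → ∀ (R : Subgroup G),
    Syl q (st a ⊓ st b) R → R ≤ M → ∀ (u : G), Swap a b u → u ∈ M →
    u ∈ normalizer (R : Set G) →
      ∃ z ∈ R, z ≠ 1 ∧ (∀ x ∈ R, Commute z x) ∧ u * z * u⁻¹ = z⁻¹

section Alpha

variable (hH : Hyp H) {r : ℕ} (hα : Alpha H r)
include hH hα

/-- The block of the permutation character for a prime dividing the number of involutions. -/
theorem Hyp.principal {q : ℕ} [Fact q.Prime] (hq2 : q ≠ 2) (hq : q ∣ Commuting.numInv H)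
    {a b : G ⧸ H} (hab : a ≠ b) {R : Subgroup G} (hR : Syl q (st a ⊓ st b) R) :
    Principal q G (G ⧸ H) ∧ Syl q ⊤ R ∧ ∀ c, R ≤ st c → c = a ∨ c = b := by
  haveI := St.isMultiplyPretransitive_quotient (two_transitive_of_pair hH.se hH.pair)
  have hfix : ∀ c, R ≤ st c → c = a ∨ c = b := fun c hc =>
    hH.fix_pair_of_syl hq2 hab hR (fun t ht => hH.not_mem_normalizer hα hq hab hR ht) hc
  have htop : Syl q ⊤ R := hH.syl_of_fix_pair hq2 hab le_top (by rwa [top_inf_eq]) hfix
  exact ⟨principal_of_fix_pair htop hab (hR.1.trans inf_le_left) (hR.1.trans inf_le_right) hfix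
    (hH.centralizer_le hq hab hR hfix), htop, hfix⟩

/-- An element central in the Sylow subgroup inverted by the swapper fixes only the two points. -/
theorem Hyp.fix_central {a b : G ⧸ H} {W : Subgroup G} (hW : Good H r a b W)
    (hinv : ∀ v, Swap a b v → ∀ w ∈ W, v * w * v⁻¹ = w⁻¹) {u : G} (hu : Swap a b u) {q : ℕ}
    [Fact q.Prime] (hqr : q ≠ r) (hprin : Principal q G (G ⧸ H)) {R : Subgroup G}
    (hR : Syl q (st a ⊓ st b) R) (htop : Syl q ⊤ R) {z : G} (hz : z ∈ R) (hz1 : z ≠ 1)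
    (hzc : ∀ x ∈ R, Commute z x) (hzu : u * z * u⁻¹ = z⁻¹) :
    ∀ c, zpowers z ≤ st c → c = a ∨ c = b := by
  set C := centralizer (zpowers z : Set G) with hC
  have hCmem : ∀ x, Commute z x → x ∈ C := fun x hx => mem_centralizer_iff.2 (by
    rintro _ ⟨i, rfl⟩; exact (hx.zpow_left i).eq)
  have hzD : z ∈ st a ⊓ st b := hR.1 hz
  have hodd : Odd (Nat.card C) := by
    by_contra hev
    obtain ⟨v, hv⟩ := exists_prime_orderOf_dvd_card' (G := C) 2
      (even_iff_two_dvd.1 (Nat.not_odd_iff_even.1 hev))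
    rw [← Subgroup.orderOf_coe] at hv
    obtain ⟨c, hc⟩ := StrongEmbed.exists_fix hH.se hv
    have hvz : Commute (v : G) z := ((mem_centralizer_iff.1 v.2 z (mem_zpowers z)) :
      z * (v : G) = v * z).symm
    obtain ⟨hN, huc⟩ := hH.normalizer_le_of_inverted (hH.odd_of_mem hW.ne hzD) hz1 hu.1 hzu
      ⟨hv, hc⟩ hvz
    have hca : c ≠ a := (hH.swap_centre hu hW.ne huc).1
    exact hz1 (hH.eq_one_of_inverted_fix hα hca (hN (le_normalizer (mem_zpowers z))) hzD.1
      ⟨hu.1, huc⟩ hzu)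
  have hRC : R ≤ C := fun x hx => hCmem x (hzc x hx)
  have hWC : W ≤ C := fun w hw =>
    hCmem w (commute_of_inverted hH hW.ne hu ⟨hzD, hzu⟩ hinv hw)
  have hzq : IsPGroup q (zpowers z) := hR.2.1.to_le (zpowers_le.2 hz)
  have hzab : ∀ x ∈ zpowers z, ∀ y ∈ zpowers z, x * y = y * x := by
    rintro _ ⟨i, rfl⟩ _ ⟨j, rfl⟩
    exact ((Commute.refl z).zpow_zpow i j).eq
  have hqW : ¬ q ∣ Nat.card W := by
    intro h
    haveI : Fact r.Prime := ⟨hW.prime⟩
    obtain ⟨k, hk⟩ := IsPGroup.iff_card.1 hW.isPGroup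
    rw [hk] at h
    exact hqr ((Nat.prime_dvd_prime_iff_eq Fact.out hW.prime).1
      ((Fact.out : q.Prime).dvd_of_dvd_pow h))
  have h1 := coreq_sub hodd (syl_of_le htop hRC le_top) hWC hqW (hR.1.trans hW.normal)
  intro c hc
  refine hW.fix c (h1.trans (hprin.le_fix hzq hzab (map_subtype_le _)
    (le_normalizer_pPrimeCore le_normalizer) ?_ hc))
  rw [card_map_of_injective (Subgroup.subtype_injective _)]
  exact (Fact.out : q.Prime).coprime_iff_not_dvd.1
    (CfsgLib.Solvable.coprime_card_pPrimeCore q).symm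

/-- The swapper inverts some nontrivial element central in an invariant Sylow subgroup. -/
theorem Hyp.exists_central_inverted (hZ : ZPairStmt H) {a b : G ⧸ H} {W : Subgroup G}
    (hW : Good H r a b W)
    (hinv : ∀ v, Swap a b v → ∀ w ∈ W, v * w * v⁻¹ = w⁻¹) {u : G} (hu : Swap a b u) {q : ℕ}
    [Fact q.Prime] (hqodd : Odd q) (hqr : q ≠ r) (hq : q ∣ Commuting.numInv H) {R : Subgroup G}
    (hR : Syl q (st a ⊓ st b) R) (huR : u ∈ normalizer (R : Set G)) :
    ∃ z ∈ R, z ≠ 1 ∧ (∀ x ∈ R, Commute z x) ∧ u * z * u⁻¹ = z⁻¹ := by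
  by_contra hcon
  push Not at hcon
  have hq2 : q ≠ 2 := by rintro rfl; exact absurd hqodd (by decide)
  obtain ⟨hprin, htop, hfix⟩ := hH.principal hα hq2 hq hW.ne hR
  obtain ⟨y, hy, hy1, hyi⟩ : ∃ y ∈ R, y ≠ 1 ∧ u * y * u⁻¹ = y⁻¹ := by
    by_contra h
    push Not at h
    refine hH.not_centralizes hq hW.ne hR hu (mem_centralizer_iff.2 fun x hx => ?_)
    have hy : x⁻¹ * (u * x * u⁻¹) ∈ R :=
      mul_mem (inv_mem hx) ((mem_normalizer_iff.1 huR x).1 hx)
    have h1 : x⁻¹ * (u * x * u⁻¹) = 1 := by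
      by_contra h1
      exact h _ hy h1 (inverted_commutator hu.1)
    rw [inv_mul_eq_one] at h1
    exact (mul_inv_eq_iff_eq_mul.1 h1.symm).symm
  set N := (R ⊓ centralizer (W : Set G)).subgroupOf R with hN
  haveI : N.Normal := by
    refine ⟨fun x hx g => mem_subgroupOf.2 ⟨(g * x * g⁻¹).2, mem_centralizer_iff.2 fun w hw => ?_⟩⟩
    have hgn : ((g : G))⁻¹ ∈ normalizer (W : Set G) := inv_mem (hW.normal (hR.1 g.2))
    have hw' : (g : G)⁻¹ * w * g ∈ W := by
      have := (mem_normalizer_iff.1 hgn w).1 hw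
      rwa [inv_inv] at this
    show w * ((g : G) * x * (g : G)⁻¹) = (g : G) * x * (g : G)⁻¹ * w
    calc w * ((g : G) * x * (g : G)⁻¹) = g * (((g : G)⁻¹ * w * g) * x) * (g : G)⁻¹ := by group
      _ = g * ((x : G) * ((g : G)⁻¹ * w * g)) * (g : G)⁻¹ := by
        rw [mem_centralizer_iff.1 (mem_subgroupOf.1 hx).2 _ hw']
      _ = _ := by group
  have hyN : (⟨y, hy⟩ : R) ∈ N := mem_subgroupOf.2 ⟨hy, mem_centralizer_iff.2 fun w hw =>
    (commute_of_inverted hH hW.ne hu ⟨hR.1 hy, hyi⟩ hinv hw).eq.symm⟩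
  haveI := hR.2.1.isNilpotent
  have hne : N ⊓ center R ≠ ⊥ := CfsgLib.PGroupBasic.inf_center_ne_bot N fun h => by
    rw [h, mem_bot] at hyN
    exact hy1 (congrArg Subtype.val hyN)
  obtain ⟨x, hx, hx1⟩ := (bot_or_exists_ne_one (N ⊓ center R)).resolve_left hne
  have hxG : (x : G) ≠ 1 := fun h => hx1 (Subtype.ext h)
  have hxR : ∀ g ∈ R, Commute (x : G) g := fun g hg =>
    congrArg Subtype.val (mem_center_iff.1 hx.2 ⟨g, hg⟩).symm
  have hxW : ∀ w ∈ W, w * (x : G) = x * w := mem_centralizer_iff.1 (mem_subgroupOf.1 hx.1).2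
  have huxR : u * (x : G) * u⁻¹ ∈ R := (mem_normalizer_iff.1 huR x).1 x.2
  have hux : Commute u (x : G) := by
    by_contra hne
    refine hne ?_
    have hy : (x : G)⁻¹ * (u * x * u⁻¹) = 1 := by
      by_contra h1
      refine hcon _ (mul_mem (inv_mem x.2) huxR) h1 (fun g hg => ?_) (inverted_commutator hu.1)
      refine (hxR g hg).inv_left.mul_left ?_
      have hg' : u⁻¹ * g * u ∈ R := by
        have := (mem_normalizer_iff.1 (inv_mem huR) g).1 hg
        rwa [inv_inv] at this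
      have h2 := (hxR _ hg').map (MulAut.conj u).toMonoidHom
      simpa [mul_assoc] using h2
    rw [inv_mul_eq_one] at hy
    exact mul_inv_eq_iff_eq_mul.1 hy.symm
  set U := zpowers (x : G) with hU
  set M := centralizer (U : Set G) with hM
  have hCmem : ∀ g, Commute (x : G) g → g ∈ M := fun g hg => mem_centralizer_iff.2 (by
    rintro _ ⟨i, rfl⟩; exact (hg.zpow_left i).eq)
  have hRM : R ≤ M := fun g hg => hCmem g (hxR g hg)
  have hWM : W ≤ M := fun w hw => hCmem w (hxW w hw).symm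
  have huM : u ∈ M := hCmem u hux.symm
  have hUne : U ≠ ⊥ := zpowers_ne_bot.2 hxG
  have hUa : U ≤ st a := zpowers_le.2 (hR.1 x.2).1
  have hab : ∀ s ∈ U, ∀ t ∈ U, s * t = t * s := by
    rintro _ ⟨i, rfl⟩ _ ⟨j, rfl⟩
    exact ((Commute.refl (x : G)).zpow_zpow i j).eq
  have hMtop : M ≠ ⊤ := hH.centralizer_ne_top hUne hUa
  have hca : Centre M a := hH.centre_of_fix_pair hα hW hinv hu hqodd hqr hprin hUne
    (hR.2.1.to_le (zpowers_le.2 x.2)) hab hUa hWM huM hR.2.1 hRM hfix fun _ =>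
      ⟨R ⊓ (Cfsg.oddCore M).map M.subtype,
        syl_inf (syl_of_le htop hRM le_top) (map_subtype_le _) (le_normalizer_core M),
        inf_le_left.trans hR.1⟩
  obtain ⟨t, htM, ht⟩ := id hca
  have hp : Core.HasPair M := by
    by_contra hp
    exact hH.false_of_not_pair hα hW hinv hp hWM hu huM ht htM
  have hMa : ¬ M ≤ st a := fun h => hW.ne ((h huM : u • a = a).symm.trans hu.2)
  have hcb : Centre M b := hu.2 ▸ hca.smul huM
  obtain ⟨z, hz, hz1, hzc, hzu⟩ := hZ M hMtop hp a b hW.ne hca hcb hMa q hq R hR hRM u hu huM huR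
  exact hcon z hz hz1 hzc hzu

/-- CLAIM: an involution at the first point centralizes `U`. -/
theorem Hyp.exists_centralizing (hZ : ZPairStmt H) {a b : G ⧸ H} {W : Subgroup G}
    (hW : Good H r a b W)
    (hinv : ∀ v, Swap a b v → ∀ w ∈ W, v * w * v⁻¹ = w⁻¹) {u : G} (hu : Swap a b u)
    (hTR : ∀ Q : Subgroup G, Syl r (centralizer ({u} : Set G) ⊓ (st a ⊓ st b)) Q →
      ∃ t, InvAt a t ∧ t ∈ centralizer (Q : Set G))
    {q : ℕ} [Fact q.Prime] {U : Subgroup G} (hUne : U ≠ ⊥) (hU : IsPGroup q U)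
    (hUab : ∀ x ∈ U, ∀ y ∈ U, x * y = y * x)
    (hUE : U ≤ centralizer ({u} : Set G) ⊓ ((st a ⊓ st b) ⊓ centralizer (W : Set G))) :
    ∃ t, InvAt a t ∧ t ∈ centralizer (U : Set G) := by
  have hUD : U ≤ st a ⊓ st b := hUE.trans (inf_le_right.trans inf_le_left)
  have hqodd : Odd q := by
    obtain ⟨l, hl⟩ := IsPGroup.iff_card.1 hU
    have hodd := (hH.odd_pair hW.ne).of_dvd_nat (card_dvd_of_le hUD)
    rcases Nat.eq_zero_or_pos l with rfl | hl0
    · exact absurd (card_eq_one.1 (by rw [hl, pow_zero])) hUne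
    · exact hodd.of_dvd_nat (hl ▸ dvd_pow_self q hl0.ne')
  have hq2 : q ≠ 2 := by rintro rfl; exact absurd hqodd (by decide)
  by_cases hqr : q = r
  · subst hqr
    obtain ⟨Q, hUQ, hQ⟩ := exists_syl (r := q)
      (le_inf (hUE.trans inf_le_left) hUD : U ≤ centralizer ({u} : Set G) ⊓ (st a ⊓ st b)) hU
    obtain ⟨t, ht, htQ⟩ := hTR Q hQ
    exact ⟨t, ht, Subgroup.centralizer_le (fun _ hx => hUQ hx) htQ⟩
  set E := (st a ⊓ st b) ⊓ centralizer (W : Set G) with hE
  by_cases hq : q ∣ Commuting.numInv H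
  swap
  · obtain ⟨t₀, ht₀, ht₀H⟩ := StrongEmbed.exists_invol hH.se
    obtain ⟨g, rfl⟩ := exists_smul (QuotientGroup.mk 1 : G ⧸ H) a
    have ht : InvAt (g • (QuotientGroup.mk 1 : G ⧸ H)) (g * t₀ * g⁻¹) :=
      InvAt.smul ⟨ht₀H, StrongEmbed.smul_mk_one_iff.2 ht₀⟩ g
    set t := g * t₀ * g⁻¹
    set a := g • (QuotientGroup.mk 1 : G ⧸ H)
    have hJ : ∀ x, Inverted a b u x → x ∈ E := fun x hx => ⟨hx.1, mem_centralizer_iff.2 fun w hw =>
      (commute_of_inverted hH hW.ne hu hx hinv hw).eq.symm⟩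
    have h := card_orbit_mul E t (fun x => orderOf x = 2 ∧ x • a = a) fun x =>
      ⟨fun hx => hH.trans_of_inverted_le hW.ne hu hJ ht hx, by
        rintro ⟨k, hk, rfl⟩
        have h := ht.smul k
        rwa [show k • a = a from hk.1.1] at h⟩
    rw [StrongEmbed.card_fix a, show Nat.card {t : G // orderOf t = 2 ∧ t ∈ H} =
      Commuting.numInv H from rfl] at h
    obtain ⟨Q, -, hQ⟩ := exists_syl (r := q) (X := ⊥) (D := centralizer ({t} : Set G) ⊓ E) bot_le
      IsPGroup.of_bot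
    have hQE : Syl q E Q := by
      refine ⟨hQ.1.trans inf_le_right, hQ.2.1, fun P hP hPp => ?_⟩
      obtain ⟨k, hk⟩ := IsPGroup.iff_card.1 hPp
      obtain ⟨P', hP'⟩ := Sylow.exists_subgroup_card_pow_prime q
        (G := ↥(centralizer ({t} : Set G) ⊓ E)) (n := k) (by
          refine (Nat.Coprime.dvd_mul_left
            (((Fact.out : q.Prime).coprime_iff_not_dvd.2 hq).pow_left k)).1 ?_
          rw [h, ← hk]
          exact card_dvd_of_le hP)
      rw [hk, ← hP', ← card_map_of_injective (Subgroup.subtype_injective _)]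
      exact hQ.2.2 _ (map_subtype_le _)
        ((IsPGroup.of_card hP').map _)
    obtain ⟨d, hd, hdU⟩ := syl_conj hQE (le_inf hUD ((hUE.trans inf_le_right).trans inf_le_right)) hU
    refine ⟨d⁻¹ * t * d, ?_, mem_centralizer_iff.2 fun x hx => ?_⟩
    · have h1 := ht.smul d⁻¹
      rwa [inv_inv, show d⁻¹ • a = a from inv_smul_eq_iff.2 (hd.1.1 : d • a = a).symm] at h1
    · have h1 : d * x * d⁻¹ ∈ centralizer ({t} : Set G) := (hQ.1 (hdU ⟨x, hx, rfl⟩)).1
      rw [mem_centralizer_singleton_iff] at h1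
      calc x * (d⁻¹ * t * d) = d⁻¹ * ((d * x * d⁻¹) * t) * d := by group
        _ = d⁻¹ * (t * (d * x * d⁻¹)) * d := by rw [h1]
        _ = d⁻¹ * t * d * x := by group
  have huU : u ∈ centralizer (U : Set G) := mem_centralizer_iff.2 fun x hx =>
    mem_centralizer_singleton_iff.1 (hUE hx).1
  have hcop : (Nat.card (zpowers u)).Coprime (Nat.card ↥(st a ⊓ st b)) := by
    rw [Nat.card_zpowers, hu.1]; exact Nat.coprime_two_left.2 (hH.odd_pair hW.ne)
  obtain ⟨P, hUP, hPu⟩ := CoprimeAct.exists_invariant_sylow_ge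
    (zpowers_le.2 (hH.swap_normalizes hu)) hcop
    (Or.inr (OddEnd.odd_solvable _ (hH.odd_pair hW.ne))) q hUD hU
    (zpowers_le.2 (centralizer_le_normalizer _ huU))
  set R := (P : Subgroup ↥(st a ⊓ st b)).map (st a ⊓ st b).subtype with hRdef
  have hR : Syl q (st a ⊓ st b) R := by
    refine ⟨map_subtype_le _, P.2.map _, fun S hS hSp => ?_⟩
    obtain ⟨d, hd⟩ := (hSp.of_equiv (subgroupOfEquivOfLe hS).symm).exists_le_sylow
    rw [← Nat.card_congr (subgroupOfEquivOfLe hS).toEquiv, hRdef,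
      card_map_of_injective (Subgroup.subtype_injective _), P.card_eq_multiplicity,
      ← d.card_eq_multiplicity]
    exact card_le_of_le hd
  have huR : u ∈ normalizer (R : Set G) := hPu (mem_zpowers u)
  obtain ⟨z, hz, hz1, hzc, hzu⟩ :=
    hH.exists_central_inverted hα hZ hW hinv hu hqodd hqr hq hR huR
  obtain ⟨hprin, htop, -⟩ := hH.principal hα hq2 hq hW.ne hR
  have hzfix := hH.fix_central hα hW hinv hu hqr hprin hR htop hz hz1 hzc hzu
  set M := centralizer (U : Set G) with hM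
  have hzM : z ∈ M := mem_centralizer_iff.2 fun x hx => (hzc x (hUP hx)).eq.symm
  have hWM : W ≤ M := le_centralizer_iff.1 (hUE.trans (inf_le_right.trans inf_le_right))
  have hzq : IsPGroup q (zpowers z) := hR.2.1.to_le (zpowers_le.2 hz)
  obtain ⟨t, htM, ht⟩ := hH.centre_of_fix_pair hα hW hinv hu hqodd hqr hprin hUne hU hUab
    (hUD.trans inf_le_left) hWM huU hzq (zpowers_le.2 hzM) hzfix fun hp => by
      set O := (Cfsg.oddCore M).map M.subtype
      have hzO : z ∈ O := mem_oddCore_of_not_pair hp huU hu.1 hzM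
        (hH.odd_of_mem hW.ne (hR.1 hz)) hzu
      obtain ⟨S, hzS, hS⟩ := exists_syl (r := q)
        (le_inf (zpowers_le.2 hzO) (zpowers_le.2 (hR.1 hz)) : zpowers z ≤ O ⊓ (st a ⊓ st b)) hzq
      exact ⟨S, hH.syl_of_fix_pair hq2 hW.ne (hS.1.trans inf_le_left) hS
        (fun c hc => hzfix c (hzS.trans hc)), hS.1.trans inf_le_right⟩
  exact ⟨t, ht, htM⟩

end Alpha

end CfsgLib.Bender.NC
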