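import Cfsg.Agent.Bender.NC.Pairing
import Cfsg.Agent.Recog.RankOneK

/-!
Bender's theorem, noncommuting branch: facts about a group with the shape given by the commuting
branch, obtained through the rank one set-up on its points.
-/

set_option autoImplicit false
set_option linter.unusedSectionVars false
set_option linter.style.haveILetI false

namespace CfsgLib.Bender.NC

open Subgroup
open CfsgLib.Bender.GSide

universe u

variable {G : Type u} [Group G] [Finite G] {H : Subgroup G}
  (hC : Commuting.Hyp H) (hS : Commuting.Shape H) {a b : G ⧸ H} (hab : a ≠ b) {u : G}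
  (hu : Swap a b u)

include hC in
theorem faithful_points : FaithfulSMul G (G ⧸ H) := by
  refine ⟨fun {g g'} h => ?_⟩
  have hg : g'⁻¹ * g ∈ H.normalCore := fun c => by
    rw [← StrongEmbed.smul_mk_one_iff (H := H), mul_smul, mul_smul, mul_smul, h, inv_smul_smul,
      smul_inv_smul]
  rw [hC.normalCore_eq_bot, mem_bot] at hg
  exact (inv_mul_eq_one.1 hg).symm

include hC in
theorem hC_move {c : G ⧸ H} (hab : a ≠ b) (hac : a ≠ c) : ∃ g : G, g • a = a ∧ g • b = c :=
  MulAction.is_two_pretransitive_iff.1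
    (St.isMultiplyPretransitive_quotient (two_transitive_of_pair hC.se hC.pair)) hab hac

include hC in
theorem pair_ne_one : ∃ x y : G, x ≠ 1 ∧ y ≠ 1 ∧ x ≠ y ∧ x * x = 1 ∧ y * y = 1 ∧ x * y = y * x := by
  obtain ⟨x, y, hx, hy, hne, hc⟩ := hC.pair
  exact ⟨x, y, fun h => by simp [h] at hx, fun h => by simp [h] at hy, hne,
    Invol.mul_self_eq_one hx, Invol.mul_self_eq_one hy, hc.eq⟩

include hC hS hab hu in
theorem exists_setup : ∃ T : Subgroup G, Cfsg.IsRankOneSetup G (G ⧸ H) a u T := by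
  obtain ⟨T, hTa, hnorm, hT2, htr⟩ := shape_at hS a
  haveI : Fact (Nat.Prime 2) := ⟨Nat.prime_two⟩
  have hodd := odd_pair hC.se hab
  have hstu : MulAction.stabilizer G (u • a) = st b := by rw [hu.2]
  have hinf : T ⊓ st b = ⊥ := by
    refine (eq_bot_iff_forall _).2 fun w hw => ?_
    obtain ⟨i, hi⟩ := hT2 ⟨w, hw.1⟩
    have hi' : w ^ 2 ^ i = 1 := congrArg Subtype.val hi
    obtain ⟨j, -, hj⟩ := (Nat.dvd_prime_pow Nat.prime_two).1 (orderOf_dvd_of_pow_eq_one hi')
    have h1 := hodd.of_dvd_nat (orderOf_dvd_natCard (st a ⊓ st b) (x := w) ⟨hTa hw.1, hw.2⟩)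
    rw [← orderOf_eq_one_iff, hj]
    rcases Nat.eq_zero_or_pos j with rfl | hj0
    · rfl
    · rw [hj, Nat.odd_pow_iff hj0.ne'] at h1
      exact absurd h1 (by decide)
  refine ⟨T, ⟨?_, Invol.mul_self_eq_one hu.1, fun h => by simpa [h] using hu.1, ?_, hTa, hnorm,
    by rw [hstu]; exact hinf, ?_, ?_, ?_⟩⟩
  · exact St.isMultiplyPretransitive_quotient (two_transitive_of_pair hC.se hC.pair)
  · intro h
    exact hab ((MulAction.mem_stabilizer_iff.1 h).symm.trans hu.2)
  · rw [hstu]
    refine le_antisymm (sup_le hTa inf_le_left) fun h hh => ?_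
    have hne : h • b ≠ a := fun he => hab (MulAction.injective h
      (show h • a = h • b by rw [he]; exact hh))
    obtain ⟨w, hw, hwb⟩ := htr b (h • b) hab.symm hne
    have hd : w⁻¹ * h ∈ st a ⊓ st b := by
      refine ⟨Subgroup.mul_mem _ (Subgroup.inv_mem _ (hTa hw)) hh, ?_⟩
      show (w⁻¹ * h) • b = b
      rw [mul_smul, ← hwb, inv_smul_smul]
    rw [← mul_inv_cancel_left w h]
    exact mul_mem (mem_sup_left hw) (mem_sup_right hd)
  · obtain ⟨k, hk⟩ := IsPGroup.iff_card.1 hT2
    rw [hk]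
    refine (Nat.even_pow).2 ⟨even_two, fun h0 => ?_⟩
    rw [h0, pow_zero] at hk
    have hbot := card_eq_one.1 hk
    obtain ⟨v, hv⟩ := StrongEmbed.exists_invol hC.se
    obtain ⟨g, hg⟩ := exists_smul (QuotientGroup.mk 1 : G ⧸ H) a
    have hva : (g * v * g⁻¹) • a = a := by
      rw [← hg, mul_smul, mul_smul, inv_smul_smul, StrongEmbed.smul_mk_one_iff.2 hv.1]
    have hvb : (g * v * g⁻¹) • b = b := by
      by_contra hne
      have hne' : (g * v * g⁻¹) • b ≠ a := fun he => hab (MulAction.injective (g * v * g⁻¹)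
        (show (g * v * g⁻¹) • b = (g * v * g⁻¹) • a by rw [he, hva])).symm
      obtain ⟨w, hw, hwb⟩ := htr b _ hab.symm hne'
      rw [hbot, mem_bot] at hw
      rw [hw, one_smul] at hwb
      exact hne hwb.symm
    exact hab (StrongEmbed.fix_unique hC.se (by rw [Invol.orderOf_conj_eq, hv.2]) hva hvb)
  · rw [hstu]; exact hodd

include hC hS hab hu in
/-- The special involution at `a` is centralized by the centralizer of `u` in the two-point
stabilizer. -/
theorem exists_special : ∃ s : G, InvAt a s ∧ ∀ x ∈ st a ⊓ st b, Commute x u → Commute x s := by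
  obtain ⟨T, hR⟩ := exists_setup hC hS hab hu
  haveI := faithful_points hC
  obtain ⟨s, r, hs, -, -, he⟩ := Recog.RankOne.exists_special hR
  obtain ⟨hsa, hs1, hs2⟩ := (Recog.RankOne.mem_involutionsIn hR).1 hs
  refine ⟨s, ⟨orderOf_eq_prime (by rw [sq, hs2]) hs1, hsa⟩, fun x hx hxu => ?_⟩
  rw [hu.2] at he
  have h : x ∈ (st a ⊓ st b) ⊓ centralizer ({u} : Set G) :=
    ⟨hx, mem_centralizer_singleton_iff.2 hxu.eq⟩
  rw [he] at h
  exact mem_centralizer_singleton_iff.1 h.2

include hC hS hab hu in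
/-- The inverted elements of a two-point stabilizer form a normal cyclic subgroup. -/
theorem exists_inverted_gen : ∃ k : G, Inverted a b u k ∧
    (∀ x, Inverted a b u x ↔ x ∈ zpowers k) ∧
    ∀ d ∈ st a ⊓ st b, d * k * d⁻¹ ∈ zpowers k := by
  obtain ⟨T, hR⟩ := exists_setup hC hS hab hu
  haveI := faithful_points hC
  obtain ⟨k, hk, hset, hnor, -⟩ := Recog.RankOne.exists_kernel hR (pair_ne_one hC)
  rw [hu.2] at hk hset hnor
  have hiff : ∀ x, Inverted a b u x ↔ x ∈ zpowers k := fun x => by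
    rw [← SetLike.mem_coe, hset]
    rfl
  exact ⟨k, (hiff k).2 (mem_zpowers k), hiff, fun d hd => hnor d hd k (mem_zpowers k)⟩

include hC hS hab hu in
/-- A nontrivial inverted element fixes only the two points. -/
theorem fix_of_inverted {x : G} (hx : Inverted a b u x) (hx1 : x ≠ 1) {c : G ⧸ H}
    (hc : x • c = c) : c = a ∨ c = b := by
  obtain ⟨T, hR⟩ := exists_setup hC hS hab hu
  haveI := faithful_points hC
  by_contra h
  push Not at h
  obtain ⟨T', hTa, hnorm, -, htr⟩ := shape_at hS a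
  have hxa : x • a = a := hx.1.1
  have hxb : x • b = b := hx.1.2
  -- `T` is transitive on the points other than `a`
  obtain ⟨g, hga, hgb⟩ := hC_move hC hab h.1.symm
  obtain ⟨w, hw, d, hd, rfl⟩ := Recog.RankOne.exists_mul hR hga
  · rw [hu.2] at hd
    rw [mul_smul, show d • b = b from (Subgroup.mem_inf.1 hd).2] at hgb
    have hwx : x * w * x⁻¹ = w := by
      have h1 : w⁻¹ * (x * w * x⁻¹) ∈ T ⊓ MulAction.stabilizer G (u • a) := by
        refine ⟨Subgroup.mul_mem _ (Subgroup.inv_mem _ hw) (hR.conj_mem x hxa w hw), ?_⟩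
        show (w⁻¹ * (x * w * x⁻¹)) • (u • a) = u • a
        rw [hu.2, mul_smul, mul_smul, mul_smul, inv_smul_eq_iff.2 hxb.symm, hgb, hc, ← hgb,
          inv_smul_smul]
      rw [hR.inf_eq_bot, mem_bot, inv_mul_eq_one] at h1
      exact h1.symm
    have hinv : x ∈ Cfsg.invertedBy (MulAction.stabilizer G a ⊓ MulAction.stabilizer G (u • a)) u := by
      rw [hu.2]; exact hx
    have := Recog.RankOne.inverted_fpf hR hinv hx1 hw (mul_inv_eq_iff_eq_mul.1 hwx).symm
    rw [this, one_smul] at hgb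
    exact h.2 hgb.symm

include hC hS hab hu in
/-- The order of an inverted element of prime order divides the number of points minus two. -/
theorem dvd_of_inverted {q : ℕ} (hq : q.Prime) {x : G} (hx : Inverted a b u x)
    (hxq : orderOf x = q) : q ∣ Nat.card (G ⧸ H) - 2 := by
  haveI : Fact q.Prime := ⟨hq⟩
  have hx1 : x ≠ 1 := fun h => hq.one_lt.ne (by rw [← hxq, h, orderOf_one])
  have hP : IsPGroup q (zpowers x) := IsPGroup.of_card (n := 1) (by rw [Nat.card_zpowers, hxq, pow_one])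
  have hmod := hP.card_modEq_card_fixedPoints (G ⧸ H)
  have h2 : Nat.card (MulAction.fixedPoints (zpowers x) (G ⧸ H)) = 2 := by
    classical
    have hle : ∀ c : G ⧸ H, x • c = c → zpowers x ≤ st c := fun c hc => zpowers_le.2 hc
    rw [Nat.card_coe_set_eq, show MulAction.fixedPoints (zpowers x) (G ⧸ H) = {a, b} from ?_,
      Set.ncard_pair hab]
    ext c
    refine ⟨fun hc => fix_of_inverted hC hS hab hu hx hx1 (hc ⟨x, mem_zpowers x⟩), ?_⟩
    rintro (rfl | rfl) y
    · exact hle _ hx.1.1 y.2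
    · exact hle _ hx.1.2 y.2
  rw [h2] at hmod
  have hne : 2 ≤ Nat.card (G ⧸ H) := by
    haveI : Nontrivial (G ⧸ H) := ⟨⟨a, b, hab⟩⟩
    exact Finite.one_lt_card
  exact (Nat.modEq_iff_dvd' hne).1 hmod.symm

end CfsgLib.Bender.NC
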