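import Cfsg.Agent.Bender.NC.Inverted
import Cfsg.Agent.Bender.NC.Claim
import Cfsg.Agent.Bender.NC.Shape
import Cfsg.Agent.Solvable.PGroupBasic

/-!
Bender's theorem, noncommuting branch, Z-STEP in a subgroup with commuting involutions: the swapper
inverts a central element of the Sylow subgroup, as soon as the inverted elements of the quotient
by the odd core lie in a cyclic group.
-/

set_option autoImplicit false
set_option linter.unusedSectionVars false
set_option linter.style.haveILetI false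

namespace CfsgLib.Bender.NC

open Subgroup
open CfsgLib.FusionLift (cj mem_cj card_cj)
open CfsgLib.Bender.GSide

universe u

variable {G : Type u} [Group G] [Finite G] {H : Subgroup G}

/-- The inverted elements of a `q`-subgroup normalized by an involution, if they commute pairwise
and one of them is not trivial, contain a nontrivial central element. -/
theorem exists_central_of_inverted {q : ℕ} [Fact q.Prime] {R : Subgroup G} (hR : IsPGroup q R) {u : G}
    (hu : orderOf u = 2) (huR : u ∈ normalizer (R : Set G))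
    (hcomm : ∀ x ∈ R, ∀ y ∈ R, u * x * u⁻¹ = x⁻¹ → u * y * u⁻¹ = y⁻¹ → Commute x y)
    (hne : ∃ x ∈ R, u * x * u⁻¹ = x⁻¹ ∧ x ≠ 1) :
    ∃ z ∈ R, z ≠ 1 ∧ (∀ x ∈ R, Commute z x) ∧ u * z * u⁻¹ = z⁻¹ := by
  classical
  let S : Subgroup R :=
    { carrier := {x | u * (x : G) * u⁻¹ = (x : G)⁻¹}
      one_mem' := by simp
      inv_mem' := fun {x} hx => by
        show u * (x : G)⁻¹ * u⁻¹ = ((x : G)⁻¹)⁻¹
        rw [← conj_inv, hx]
      mul_mem' := fun {x y} hx hy => by
        show u * ((x : G) * y) * u⁻¹ = ((x : G) * y)⁻¹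
        rw [show u * ((x : G) * y) * u⁻¹ = (u * (x : G) * u⁻¹) * (u * (y : G) * u⁻¹) by group,
          hx, hy, ← mul_inv_rev, (hcomm x x.2 y y.2 hx hy).eq] }
  have hmem : ∀ x : R, x ∈ S ↔ u * (x : G) * u⁻¹ = (x : G)⁻¹ := fun x => Iff.rfl
  have hSn : S.Normal := by
    refine ⟨fun x hx y => (hmem _).2 ?_⟩
    have huy : u * (y : G) * u⁻¹ ∈ R := (mem_normalizer_iff.1 huR _).1 y.2
    have hs : (⟨(y : G)⁻¹ * (u * y * u⁻¹), mul_mem (inv_mem y.2) huy⟩ : R) ∈ S :=
      (hmem _).2 (inverted_commutator hu)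
    set s : G := (y : G)⁻¹ * (u * y * u⁻¹) with hs'
    have hsx : Commute s (x : G) := hcomm s (mul_mem (inv_mem y.2) huy) x x.2 hs hx
    calc u * ((y * x * y⁻¹ : R) : G) * u⁻¹
        = (u * y * u⁻¹) * (u * x * u⁻¹) * (u * y * u⁻¹)⁻¹ := by push_cast; group
      _ = (y * s) * (x : G)⁻¹ * (y * s)⁻¹ := by rw [hx, hs', mul_inv_cancel_left]
      _ = (y : G) * (s * (x : G)⁻¹ * s⁻¹) * (y : G)⁻¹ := by group
      _ = (y : G) * (x : G)⁻¹ * (y : G)⁻¹ := by rw [hsx.inv_right.eq, mul_inv_cancel_right]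
      _ = ((y * x * y⁻¹ : R) : G)⁻¹ := by push_cast; group
  obtain ⟨x, hxR, hx, hx1⟩ := hne
  have hS : S ≠ ⊥ := fun h => hx1 (by
    have h1 : (⟨x, hxR⟩ : R) ∈ S := hx
    rw [h, mem_bot] at h1
    exact congrArg Subtype.val h1)
  haveI := hR.isNilpotent
  haveI := hSn
  obtain ⟨z, hz, hz1⟩ : ∃ z ∈ S ⊓ center R, z ≠ 1 := by
    by_contra h
    push Not at h
    exact CfsgLib.PGroupBasic.inf_center_ne_bot S hS ((Subgroup.eq_bot_iff_forall _).2 h)
  exact ⟨z, z.2, fun h => hz1 (Subtype.ext h),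
    fun y hy => congrArg Subtype.val ((mem_center_iff.1 hz.2 ⟨y, hy⟩).symm), hz.1⟩

section Hyp

variable (hH : Hyp H)
include hH

/-- A swapper normalizing a Sylow subgroup for a prime dividing the number of involutions inverts
a nontrivial element of it. -/
theorem Hyp.exists_inverted_syl {a b : G ⧸ H} (hab : a ≠ b) {q : ℕ} [Fact q.Prime]
    (hq : q ∣ Commuting.numInv H) {R : Subgroup G} (hR : Syl q (st a ⊓ st b) R) {u : G}
    (hu : Swap a b u) (huR : u ∈ normalizer (R : Set G)) {t : G} (ht : InvAt a t) :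
    ∃ x ∈ R, u * x * u⁻¹ = x⁻¹ ∧ x ≠ 1 := by
  by_contra hcon
  push Not at hcon
  have huc : ∀ x ∈ R, Commute u x := fun x hx => by
    have h1 := hcon _ (mul_mem (inv_mem hx) ((mem_normalizer_iff.1 huR x).1 hx))
      (inverted_commutator hu.1)
    rw [inv_mul_eq_one] at h1
    exact mul_inv_eq_iff_eq_mul.1 h1.symm
  have hc := hH.card_centralizer_inf hab hu (T := st a ⊓ st b) le_rfl (fun x hx => hx.1) ht
  have h := card_orbit_mul (st a ⊓ st b) t (fun x => orderOf x = 2 ∧ x • a = a) fun x =>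
    ⟨fun hx => (transOdd_pair hH.se hab).2.2 t x ht.2 ht.1 hx.2 hx.1, by
      rintro ⟨k, hk, rfl⟩
      have h := ht.smul k
      rwa [show k • a = a from hk.1] at h⟩
  rw [StrongEmbed.card_fix a, show Nat.card {t : G // orderOf t = 2 ∧ t ∈ H} =
    Commuting.numInv H from rfl, ← hc] at h
  have hle : R ≤ centralizer ({u} : Set G) ⊓ (st a ⊓ st b) :=
    le_inf (fun x hx => mem_centralizer_singleton_iff.2 (huc x hx).eq.symm) hR.1
  refine syl_not_dvd hR ?_
  obtain ⟨e, he⟩ := card_dvd_of_le hle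
  have h1 : R.relIndex (st a ⊓ st b) * Nat.card R = Nat.card ↥(st a ⊓ st b) := by
    rw [← relIndex_bot_left R, ← relIndex_bot_left (st a ⊓ st b), mul_comm]
    exact relIndex_mul_relIndex ⊥ R _ bot_le hR.1
  obtain ⟨l, hl⟩ := hq
  refine ⟨l * e, Nat.eq_of_mul_eq_mul_right (Nat.card_pos (α := R)) ?_⟩
  rw [h1, ← h, he, hl]
  ring

variable {r : ℕ} (hα : Alpha H r)
include hα

/-- Inverted elements commute when their images in the quotient by the odd core lie in a cyclic
group. -/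
theorem Hyp.commute_of_cyclic {M : Subgroup G} (hp : Core.HasPair M) {c : G ⧸ H} (hc : Centre M c)
    (hMc : ¬ M ≤ st c) {a b : G ⧸ H} (hab : a ≠ b) {u : G} (hu : Swap a b u) (huM : u ∈ M)
    {x y : M} (hx : Inverted a b u x) (hy : Inverted a b u y) {k : M ⧸ Cfsg.oddCore M}
    (hxk : proj M x ∈ zpowers k) (hyk : proj M y ∈ zpowers k) : Commute (x : G) y := by
  have hcent : ∀ v : M, Inverted a b u v → ∀ o ∈ Cfsg.oddCore M, Commute (v : G) o := by
    intro v hv o ho
    have h1 : Commute ((v : G) * u) o :=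
      hH.commute_core hα hp hc hMc (mul_mem v.2 huM) (hH.swap_mul hab hu hv).1 ⟨o, ho, rfl⟩
    have h2 : Commute u (o : G) := hH.commute_core hα hp hc hMc huM hu.1 ⟨o, ho, rfl⟩
    have h3 := h1.mul_left h2.inv_left
    rwa [mul_inv_cancel_right] at h3
  set A : Subgroup M := closure {x, y} with hA
  have hAk : ∀ g : A, proj M (g : M) ∈ zpowers k := fun g => by
    have h : A ≤ (zpowers k).comap (proj M) := closure_le _ |>.2 (by
      rintro g (rfl | rfl)
      exacts [hxk, hyk])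
    exact h g.2
  let f : A →* zpowers k :=
    { toFun := fun g => ⟨proj M (g : M), hAk g⟩
      map_one' := Subtype.ext (map_one _)
      map_mul' := fun g g' => Subtype.ext (map_mul _ _ _) }
  have hker : f.ker ≤ center A := by
    intro g hg
    have hgO : (g : M) ∈ Cfsg.oddCore M :=
      (QuotientGroup.eq_one_iff _).1 (congrArg Subtype.val (MonoidHom.mem_ker.1 hg))
    refine mem_center_iff.2 fun h => Subtype.ext ?_
    have hle : A ≤ centralizer ({(g : M)} : Set M) := closure_le _ |>.2 (by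
      rintro v (rfl | rfl) <;>
        exact mem_centralizer_singleton_iff.2 (Subtype.ext (hcent _ (by assumption) _ hgO).eq))
    exact mem_centralizer_singleton_iff.1 (hle h.2)
  have hAx : x ∈ A := subset_closure (Or.inl rfl)
  have hAy : y ∈ A := subset_closure (Or.inr rfl)
  exact congrArg (fun g : A => ((g : M) : G))
    ((MonoidHom.isMulCommutative_of_isCyclic_of_ker_le_center f hker).is_comm.comm ⟨x, hAx⟩ ⟨y, hAy⟩)

/-- Z-STEP, given the cyclic group of the inverted elements of the quotient. -/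
theorem Hyp.exists_central_inverted_of_gen {M : Subgroup G} (hp : Core.HasPair M) {a b : G ⧸ H}
    (hab : a ≠ b) (hca : Centre M a) (hcb : Centre M b) (hMa : ¬ M ≤ st a) {q : ℕ}
    [Fact q.Prime] (hq : q ∣ Commuting.numInv H) {R : Subgroup G} (hR : Syl q (st a ⊓ st b) R)
    (hRM : R ≤ M) {u : G} (hu : Swap a b u) (huM : u ∈ M) (huR : u ∈ normalizer (R : Set G))
    (hgen : ∀ (a' b' : (M ⧸ Cfsg.oddCore M) ⧸ locSt M a) (v : M ⧸ Cfsg.oddCore M), a' ≠ b' →
      Swap a' b' v → ∃ k, ∀ x, Inverted a' b' v x → x ∈ zpowers k) :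
    ∃ z ∈ R, z ≠ 1 ∧ (∀ x ∈ R, Commute z x) ∧ u * z * u⁻¹ = z⁻¹ := by
  obtain ⟨t, -, ht⟩ := id hca
  obtain ⟨m, hm⟩ := hH.exists_of_centre hca hMa hcb
  set U : M := ⟨u, huM⟩
  have hne : locPt M a 1 ≠ locPt M a m := fun h => hab (by
    have h1 := (hH.locPt_eq_iff hp hca).1 h
    rw [hm] at h1
    simpa using h1)
  have hswap : Swap (locPt M a 1) (locPt M a m) (proj M U) :=
    ⟨proj_invol (t := U) hu.1, (hH.smul_locPt_iff hp hca).2 (by
      rw [Subgroup.coe_one, one_smul, hm]; exact hu.2)⟩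
  obtain ⟨k, hk⟩ := hgen _ _ _ hne hswap
  have hinv : ∀ x : M, Inverted a b u x → proj M x ∈ zpowers k := by
    intro x hx
    refine hk _ ⟨mem_inf.2 ⟨?_, ?_⟩, ?_⟩
    · exact (hH.smul_locPt_iff hp hca).2 (by rw [Subgroup.coe_one, one_smul]; exact hx.1.1)
    · exact (hH.smul_locPt_iff hp hca).2 (by rw [hm]; exact hx.1.2)
    · rw [← map_inv, ← map_inv, ← map_mul, ← map_mul]
      exact congrArg (proj M) (Subtype.ext hx.2)
  refine exists_central_of_inverted hR.2.1 hu.1 huR (fun x hx y hy hxi hyi => ?_)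
    (hH.exists_inverted_syl hab hq hR hu huR ht)
  exact hH.commute_of_cyclic hα hp hca hMa hab hu huM (x := ⟨x, hRM hx⟩) (y := ⟨y, hRM hy⟩)
    ⟨hR.1 hx, hxi⟩ ⟨hR.1 hy, hyi⟩ (hinv ⟨x, hRM hx⟩ ⟨hR.1 hx, hxi⟩)
    (hinv ⟨y, hRM hy⟩ ⟨hR.1 hy, hyi⟩)

/-- Z-STEP in a subgroup with commuting involutions. -/
theorem Hyp.zPairStmt : ZPairStmt H := by
  intro M hM hp a b hab hca hcb hMa q _ hq R hR hRM u hu huM huR
  refine hH.exists_central_inverted_of_gen hα hp hab hca hcb hMa hq hR hRM hu huM huR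
    fun a' b' v hab' hv => ?_
  obtain ⟨k, -, hk, -⟩ := exists_inverted_gen (hH.loc_hyp hM hp hca hMa)
    (hH.loc_shape hM hp hca hMa) hab' hv
  exact ⟨k, fun x hx => (hk x).1 hx⟩

end Hyp

end CfsgLib.Bender.NC
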