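import Cfsg.Agent.Bender.NC.Alpha
import Cfsg.Agent.Bender.NC.Borel
import Cfsg.Agent.Bender.NC.ZPair

/-!
Bender's theorem, noncommuting branch: in a group without odd core having two involutions in a
strongly embedded subgroup in the sense of `PairRank`, the involutions of a strongly embedded
subgroup commute, given the shape theorem of the commuting branch.
-/

set_option autoImplicit false
set_option linter.unusedSectionVars false

namespace CfsgLib.Bender.NC

open Subgroup

universe u

/-- The noncommuting branch by induction on the order. -/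
theorem commBelow (hS : ∀ n, Commuting.ShapeBelow.{u} n)
    (hZ : ∀ {G : Type u} [Group G] [Finite G] {H : Subgroup G} {r : ℕ},
      Hyp H → Alpha H r → ZPairStmt H) (n : ℕ) : CommBelow.{u} n := by
  induction n with
  | zero => exact fun X _ _ h => absurd h (Nat.not_lt_zero _)
  | succ n ih =>
    intro X _ _ hlt K hse hodd hpair
    rcases Nat.lt_succ_iff_lt_or_eq.1 hlt with h | h
    · exact ih X h K hse hodd hpair
    have hH : Hyp K := ⟨hse, hpair, hodd, h ▸ ih, hS _⟩
    by_contra hnc
    obtain ⟨r, hr⟩ := hH.exists_good hnc
    obtain ⟨a, b, hab⟩ : ∃ a b : X ⧸ K, a ≠ b := by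
      obtain ⟨g, hg⟩ : ∃ g : X, g ∉ K := by
        by_contra h'
        push Not at h'
        exact hse.1 (eq_top_iff.2 fun x _ => h' x)
      exact ⟨QuotientGroup.mk 1, QuotientGroup.mk g, fun he => hg (by simpa [QuotientGroup.eq] using he)⟩
    obtain ⟨W, hW⟩ := hr a b hab
    exact hnc (hH.involComm_of_good (hZ hH) hW fun u hu Q hQ => hW.centralizes_sylow hH hu hQ)

/-- Bender: given the shape theorem of the commuting branch, the involutions of a strongly embedded
subgroup commute when the odd core is trivial and there are commuting involutions. -/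
theorem involComm_of_shape (hS : ∀ n, Commuting.ShapeBelow.{u} n) {G : Type u} [Group G] [Finite G]
    {H : Subgroup G} (hse : Cfsg.IsStronglyEmbedded H) (hodd : Cfsg.oddCore G = ⊥)
    (hpair : PairRank G) : Core.CSix.InvolComm H :=
  commBelow hS (fun hH hα => hH.zPairStmt hα) (Nat.card G + 1) G (Nat.lt_succ_self _) H hse hodd
    hpair

/-- Bender: given the shape theorem of the commuting branch, a strongly embedded subgroup has a
normal 2-subgroup transitive on the other cosets. -/
theorem shape_of_shapeBelow (hS : ∀ n, Commuting.ShapeBelow.{u} n) {G : Type u} [Group G] [Finite G]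
    {H : Subgroup G} (hse : Cfsg.IsStronglyEmbedded H) (hodd : Cfsg.oddCore G = ⊥)
    (hpair : PairRank G) : Commuting.Shape H :=
  hS (Nat.card G + 1) G (Nat.lt_succ_self _) H
    ⟨hse, hpair, hodd, involComm_of_shape hS hse hodd hpair⟩

end CfsgLib.Bender.NC
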