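import Cfsg.Agent.Bender.NC.Defs

/-!
Bender's theorem, noncommuting branch: the pairing lemma. In a group with the shape given by the
commuting branch no subgroup of odd order has, at every point, a stabilizer transitive on the
involutions fixing that point.
-/

set_option autoImplicit false
set_option linter.unusedSectionVars false
set_option linter.style.haveILetI false

namespace CfsgLib.Bender.NC

open Subgroup
open CfsgLib.FusionLift (cj mem_cj card_cj)
open CfsgLib.Bender.GSide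

universe u

variable {G : Type u} [Group G] [Finite G] {H : Subgroup G}

/-- The regular normal 2-subgroup at every point. -/
theorem shape_at (hS : Commuting.Shape H) (p : G ⧸ H) :
    ∃ T : Subgroup G, T ≤ st p ∧ (∀ h ∈ st p, ∀ w ∈ T, h * w * h⁻¹ ∈ T) ∧ IsPGroup 2 T ∧
      ∀ q q' : G ⧸ H, q ≠ p → q' ≠ p → ∃ w ∈ T, w • q = q' := by
  obtain ⟨T, hTH, hN, hT2, htr⟩ := hS
  obtain ⟨g, rfl⟩ := exists_smul (QuotientGroup.mk 1 : G ⧸ H) p
  refine ⟨cj g T, le_st_smul (by rwa [st_one]), ?_,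
    hT2.of_equiv (T.equivMapOfInjective _ (MulAut.conj g).injective), ?_⟩
  · intro h hh w hw
    rw [st_smul, st_one, mem_cj] at hh
    rw [mem_cj] at hw ⊢
    have := (mem_normalizer_iff.1 (hN hh) _).1 hw
    simpa [mul_assoc] using this
  · intro q q' hq hq'
    obtain ⟨x, hx⟩ := QuotientGroup.mk_surjective (g⁻¹ • q)
    obtain ⟨y, hy⟩ := QuotientGroup.mk_surjective (g⁻¹ • q')
    have hnot : ∀ (r : G ⧸ H) (z : G), r ≠ g • (QuotientGroup.mk 1 : G ⧸ H) →
        QuotientGroup.mk z = g⁻¹ • r → z ∉ H := by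
      intro r z hr hz hzH
      apply hr
      have e : (QuotientGroup.mk z : G ⧸ H) = QuotientGroup.mk 1 :=
        QuotientGroup.eq.2 (by simpa using hzH)
      rw [← e, hz, smul_inv_smul]
    obtain ⟨w, hw, hwH⟩ := htr x y (hnot q x hq hx) (hnot q' y hq' hy)
    refine ⟨g * w * g⁻¹, ⟨w, hw, rfl⟩, ?_⟩
    rw [mul_smul, mul_smul, ← hx, ← smul_inv_smul g q', ← hy]
    congr 1
    rw [MulAction.Quotient.smul_mk, eq_comm, QuotientGroup.eq]
    exact hwH

theorem dvd_two_pow_absurd {r k : ℕ} (hr : r.Prime) (hr2 : Odd r) (h : r ∣ 2 ^ k) : False := by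
  have := (Nat.prime_dvd_prime_iff_eq hr Nat.prime_two).1 (hr.dvd_of_dvd_pow h)
  subst this
  exact absurd hr2 (by decide)

/-- An `r`-subgroup fixing a point and centralizing no involution there fixes exactly one more. -/
theorem exists_unique_partner (hse : Cfsg.IsStronglyEmbedded H) (hS : Commuting.Shape H) {r : ℕ}
    [Fact r.Prime] (hr2 : Odd r) {R : Subgroup G} (hR : IsPGroup r R) {p : G ⧸ H} (hRp : R ≤ st p)
    (hno : ∀ t : G, InvAt p t → t ∉ centralizer (R : Set G)) :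
    ∃! q : G ⧸ H, q ≠ p ∧ R ≤ st q := by
  classical
  obtain ⟨T, hTp, hnorm, hT2, htr⟩ := shape_at hS p
  haveI : Fact (Nat.Prime 2) := ⟨Nat.prime_two⟩
  have hfree : ∀ w ∈ T, ∀ q : G ⧸ H, q ≠ p → w • q = q → w = 1 := by
    intro w hw q hq hwq
    obtain ⟨i, hi⟩ := hT2 ⟨w, hw⟩
    have hi' : w ^ 2 ^ i = 1 := congrArg Subtype.val hi
    obtain ⟨j, -, hj⟩ := (Nat.dvd_prime_pow Nat.prime_two).1 (orderOf_dvd_of_pow_eq_one hi')
    have hmem : w ∈ st p ⊓ st q := ⟨hTp hw, hwq⟩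
    have hodd := (odd_pair hse hq.symm).of_dvd_nat (orderOf_dvd_natCard (st p ⊓ st q) hmem)
    rw [← orderOf_eq_one_iff, hj]
    rcases Nat.eq_zero_or_pos j with rfl | hj0
    · rfl
    · rw [hj, Nat.odd_pow_iff hj0.ne'] at hodd
      exact absurd hodd (by decide)
  -- at most one further fixed point
  have huniq : ∀ q q' : G ⧸ H, (q ≠ p ∧ R ≤ st q) → (q' ≠ p ∧ R ≤ st q') → q = q' := by
    rintro q q' ⟨hq, hRq⟩ ⟨hq', hRq'⟩
    obtain ⟨w, hw, hwq⟩ := htr q q' hq hq'
    have hwR : ∀ x ∈ R, x * w * x⁻¹ = w := by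
      intro x hx
      have h1 : (x * w * x⁻¹) • q = q' := by
        rw [mul_smul, mul_smul, inv_smul_eq_iff.2 (hRq hx : x • q = q).symm, hwq]
        exact hRq' hx
      have h2 := hfree _ (mul_mem (inv_mem hw) (hnorm x (hRp hx) w hw)) q hq (by
        rw [mul_smul, h1, inv_smul_eq_iff, hwq])
      exact (inv_mul_eq_one.1 h2).symm
    by_cases hw1 : w = 1
    · rw [← hwq, hw1, one_smul]
    exfalso
    obtain ⟨i, hi⟩ := hT2 ⟨w, hw⟩
    have hi' : w ^ 2 ^ i = 1 := congrArg Subtype.val hi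
    obtain ⟨j, -, hj⟩ := (Nat.dvd_prime_pow Nat.prime_two).1 (orderOf_dvd_of_pow_eq_one hi')
    have hj0 : j ≠ 0 := by
      rintro rfl
      exact hw1 (orderOf_eq_one_iff.1 (by rw [hj, pow_zero]))
    obtain ⟨j, rfl⟩ := Nat.exists_eq_succ_of_ne_zero hj0
    refine hno (w ^ 2 ^ j) ⟨?_, (pow_mem (hTp hw) _ : w ^ 2 ^ j ∈ st p)⟩
      (mem_centralizer_iff.2 fun x hx => ?_)
    · rw [orderOf_pow, hj, pow_succ, Nat.gcd_mul_right_left, Nat.mul_div_cancel_left _ (by positivity)]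
    · exact (Commute.pow_right (mul_inv_eq_iff_eq_mul.1 (hwR x hx)) _).eq
  suffices h : ∃ q : G ⧸ H, q ≠ p ∧ R ≤ st q from
    let ⟨q, hq⟩ := h; ⟨q, hq, fun q' hq' => huniq q' q hq' hq⟩
  by_contra hcon
  push Not at hcon
  obtain ⟨q₀, hq₀⟩ : ∃ q : G ⧸ H, q ≠ p := by
    obtain ⟨g, hg⟩ : ∃ g : G, g ∉ H := by
      by_contra h; push Not at h; exact hse.1 (eq_top_iff.2 fun x _ => h x)
    by_contra h
    push Not at h
    exact hg (StrongEmbed.smul_mk_one_iff.1 ((h (g • QuotientGroup.mk 1)).trans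
      (h (QuotientGroup.mk 1)).symm))
  have e : {q : G ⧸ H // q ≠ p} ≃ T :=
    (Equiv.ofBijective (fun w : T => (⟨(w : G) • q₀, fun h => hq₀ (by
        have h2 : ((w : G))⁻¹ • p = p := inv_smul_eq_iff.2 (hTp w.2 : (w : G) • p = p).symm
        rw [← h2, ← h, inv_smul_smul])⟩ : {q : G ⧸ H // q ≠ p})) ⟨fun v w h => by
        have h' : (v : G) • q₀ = (w : G) • q₀ := congrArg Subtype.val h
        exact Subtype.ext (inv_mul_eq_one.1 (hfree _ (mul_mem (inv_mem v.2) w.2) q₀ hq₀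
          (by rw [mul_smul, ← h', inv_smul_smul]))),
      fun q => by
        obtain ⟨w, hw, hwq⟩ := htr q₀ q.1 hq₀ q.2
        exact ⟨⟨w, hw⟩, Subtype.ext hwq⟩⟩).symm
  have hn : Nat.card (G ⧸ H) = Nat.card T + 1 := by
    rw [← Nat.card_congr e, ← Nat.card_congr (Equiv.sumCompl (fun q : G ⧸ H => q ≠ p)), Nat.card_sum]
    congr 1
    exact Nat.card_eq_one_iff_unique.2 ⟨⟨fun a b => Subtype.ext
      ((not_not.1 a.2).trans (not_not.1 b.2).symm)⟩, ⟨⟨p, fun h => h rfl⟩⟩⟩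
  have hfix : Nat.card (MulAction.fixedPoints R (G ⧸ H)) = 1 := by
    refine Nat.card_eq_one_iff_unique.2 ⟨⟨fun a b => Subtype.ext ?_⟩, ⟨⟨p, fun x => hRp x.2⟩⟩⟩
    have key : ∀ c : MulAction.fixedPoints R (G ⧸ H), c.1 = p := fun c => by
      by_contra hne
      exact hcon c.1 hne fun x hx => c.2 ⟨x, hx⟩
    rw [key a, key b]
  have hmod := hR.card_modEq_card_fixedPoints (G ⧸ H)
  rw [hfix, hn] at hmod
  have hdvd : r ∣ Nat.card T := (Nat.modEq_iff_dvd' (by omega)).1 hmod.symm |> fun h => by simpa using h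
  obtain ⟨k, hk⟩ := IsPGroup.iff_card.1 hT2
  exact dvd_two_pow_absurd (Fact.out : r.Prime) hr2 (hk ▸ hdvd)

/-- The pairing lemma. -/
theorem no_pairing (hC : Commuting.Hyp H) (hS : Commuting.Shape H) {A : Subgroup G}
    (hA : Odd (Nat.card A))
    (htr : ∀ (p : G ⧸ H) (s t : G), InvAt p s → InvAt p t →
      ∃ x ∈ A, x • p = p ∧ x * s * x⁻¹ = t) : False := by
  classical
  -- an odd prime dividing the number of involutions at a point
  obtain ⟨v, w, hv, hw, hvw, hcvw⟩ := hC.pair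
  obtain ⟨p₀, hp₀⟩ := StrongEmbed.exists_fix hC.se hv
  have hwp₀ : w • p₀ = p₀ := StrongEmbed.fix_unique hC.se hv
    (by rw [← mul_smul, hcvw.eq, mul_smul, hp₀]) hp₀
  have horb : ∀ p : G ⧸ H, ∀ t : G, InvAt p t → ∀ x : G,
      InvAt p x ↔ ∃ k ∈ A ⊓ st p, k * t * k⁻¹ = x := by
    intro p t ht x
    refine ⟨fun hx => ?_, ?_⟩
    · obtain ⟨k, hk, hkp, h⟩ := htr p t x ht hx
      exact ⟨k, ⟨hk, hkp⟩, h⟩
    · rintro ⟨k, hk, rfl⟩
      have := ht.smul k
      rwa [show k • p = p from hk.2] at this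
  have hm : ∀ p : G ⧸ H, Nat.card {t : G // InvAt p t} = Commuting.numInv H := fun p =>
    StrongEmbed.card_fix p
  have hex : ∀ p : G ⧸ H, ∃ t, InvAt p t := fun p => by
    obtain ⟨g, rfl⟩ := exists_smul p₀ p
    exact ⟨_, InvAt.smul ⟨hv, hp₀⟩ g⟩
  have h2 : 2 ≤ Commuting.numInv H := by
    rw [← hm p₀]
    haveI : Nontrivial {t : G // InvAt p₀ t} :=
      ⟨⟨⟨v, hv, hp₀⟩, ⟨w, hw, hwp₀⟩, fun h => hvw (congrArg Subtype.val h)⟩⟩
    exact Finite.one_lt_card
  set r := (Commuting.numInv H).minFac with hr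
  haveI : Fact r.Prime := ⟨Nat.minFac_prime (by omega)⟩
  have hrm : r ∣ Commuting.numInv H := Nat.minFac_dvd _
  have hmA : ∀ p : G ⧸ H, Commuting.numInv H ∣ Nat.card ↥(A ⊓ st p) := fun p => by
    obtain ⟨t, ht⟩ := hex p
    rw [← hm p, ← card_orbit_mul (A ⊓ st p) t (InvAt p) (horb p t ht)]
    exact dvd_mul_right _ _
  have hoddA : ∀ p : G ⧸ H, Odd (Nat.card ↥(A ⊓ st p)) := fun p =>
    hA.of_dvd_nat (card_dvd_of_le inf_le_left)
  have hr2 : Odd r := (hoddA p₀).of_dvd_nat (hrm.trans (hmA p₀))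
  -- a Sylow subgroup of a stabilizer centralizes no involution at the point
  have hno : ∀ (p : G ⧸ H) (R : Subgroup G), Syl r (A ⊓ st p) R → ∀ t : G, InvAt p t →
      t ∉ centralizer (R : Set G) := by
    intro p R hR t ht htR
    have horbit := card_orbit_mul (A ⊓ st p) t (InvAt p) (horb p t ht)
    rw [hm p] at horbit
    have hRC : R ≤ centralizer ({t} : Set G) ⊓ (A ⊓ st p) := le_inf
      (fun x hx => mem_centralizer_singleton_iff.2 (mem_centralizer_iff.1 htR x hx)) hR.1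
    refine syl_not_dvd hR ?_
    obtain ⟨e, he⟩ := card_dvd_of_le hRC
    have h1 : R.relIndex (A ⊓ st p) * Nat.card R = Nat.card ↥(A ⊓ st p) := by
      rw [← relIndex_bot_left R, ← relIndex_bot_left (A ⊓ st p), mul_comm]
      exact relIndex_mul_relIndex ⊥ R _ bot_le hR.1
    obtain ⟨l, hl⟩ := hrm
    refine ⟨l * e, Nat.eq_of_mul_eq_mul_right (Nat.card_pos (α := R)) ?_⟩
    rw [h1, ← horbit, he, hl]
    ring
  have huni : ∀ (p : G ⧸ H) (R : Subgroup G), Syl r (A ⊓ st p) R →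
      ∃! q : G ⧸ H, q ≠ p ∧ R ≤ st q := fun p R hR =>
    exists_unique_partner hC.se hS hr2 hR.2.1 (hR.1.trans inf_le_right) (hno p R hR)
  -- the partner pairs with the same Sylow subgroup
  have hpartner : ∀ (p q : G ⧸ H) (R : Subgroup G), Syl r (A ⊓ st p) R → q ≠ p → R ≤ st q →
      Syl r (A ⊓ st q) R := by
    intro p q R hR hqp hRq
    obtain ⟨R', hle, hR'⟩ := exists_syl (r := r) (X := R) (D := A ⊓ st q)
      (le_inf (hR.1.trans inf_le_left) hRq) hR.2.1
    rcases hle.eq_or_lt with h | hlt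
    · rwa [h]
    exfalso
    haveI := hR'.2.1.isNilpotent
    have hsub : R.subgroupOf R' < ⊤ := lt_top_iff_ne_top.2 fun h => hlt.not_ge (subgroupOf_eq_top.1 h)
    obtain ⟨y, hyN, hyR⟩ := SetLike.exists_of_lt
      (Group.normalizerCondition_of_isNilpotent (R.subgroupOf R') hsub)
    have hyn : (y : G) ∈ normalizer (R : Set G) := by
      refine mem_normalizer_iff.2 fun x => ⟨fun hx => ?_, fun hx => ?_⟩
      · exact (mem_normalizer_iff.1 hyN ⟨x, hle hx⟩).1 hx
      · have hxR' : x ∈ R' := by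
          have := mul_mem (mul_mem (inv_mem y.2) (hle hx)) y.2
          simpa [mul_assoc] using this
        exact (mem_normalizer_iff.1 hyN ⟨x, hxR'⟩).2 hx
    have hyq : (y : G) • q = q := (hR'.1 y.2).2
    have hyp : (y : G) • p = p := by
      have h1 : R ≤ st ((y : G) • p) := le_st_smul_of_norm hyn (hR.1.trans inf_le_right)
      by_contra hne
      have := (huni p R hR).unique ⟨hne, h1⟩ ⟨hqp, hRq⟩
      exact hqp (MulAction.injective (y : G) (this.trans hyq.symm)).symm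
    obtain ⟨R'', hle'', hR''⟩ := exists_syl (r := r) (X := R ⊔ zpowers (y : G)) (D := A ⊓ st p)
      (sup_le hR.1 (zpowers_le.2 ⟨(hR'.1 y.2).1, hyp⟩))
      (hR'.2.1.to_le (sup_le hle (zpowers_le.2 y.2)))
    have hRR'' : R = R'' := eq_of_le_of_card_ge (le_sup_left.trans hle'') (hR.2.2 _ hR''.1 hR''.2.1)
    exact hyR (show (y : G) ∈ R from hRR'' ▸ hle'' (mem_sup_right (mem_zpowers _)))
  -- the pairing
  have hnodd : Odd (Nat.card (G ⧸ H)) := by
    haveI : Fact (Nat.Prime 2) := ⟨Nat.prime_two⟩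
    have h2v : IsPGroup 2 (zpowers v) := IsPGroup.of_card (n := 1) (by rw [Nat.card_zpowers, hv, pow_one])
    have h := h2v.card_modEq_card_fixedPoints (G ⧸ H)
    have h1 : Nat.card (MulAction.fixedPoints (zpowers v) (G ⧸ H)) = 1 := by
      refine Nat.card_eq_one_iff_unique.2 ⟨⟨fun a b => Subtype.ext ?_⟩, ⟨⟨p₀, fun x => ?_⟩⟩⟩
      · exact StrongEmbed.fix_unique hC.se hv (a.2 ⟨v, mem_zpowers v⟩) (b.2 ⟨v, mem_zpowers v⟩)
      · have : zpowers v ≤ st p₀ := zpowers_le.2 hp₀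
        exact this x.2
    rw [h1] at h
    exact Nat.odd_iff.2 h
  haveI : Fintype (G ⧸ H) := Fintype.ofFinite _
  haveI : Fintype (Subgroup G) := Fintype.ofFinite _
  let S : Finset ((G ⧸ H) × Subgroup G) := Finset.univ.filter fun z => Syl r (A ⊓ st z.1) z.2
  let Y : (G ⧸ H) → Finset (Subgroup G) := fun p =>
    Finset.univ.filter fun R => Syl r (A ⊓ st p) R
  have hY : ∀ p, Odd (Y p).card := by
    intro p
    obtain ⟨R, -, hR⟩ := exists_syl (r := r) (X := ⊥) (D := A ⊓ st p) bot_le IsPGroup.of_bot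
    letI : MulAction ↥(A ⊓ st p) (Subgroup G) :=
      { smul := fun k B => cj (k : G) B
        one_smul := fun B => cj_one B
        mul_smul := fun k l B => (cj_cj (k : G) (l : G) B).symm }
    have heq : ((Y p : Finset (Subgroup G)) : Set (Subgroup G)) =
        MulAction.orbit ↥(A ⊓ st p) R := by
      ext B
      simp only [Y, Finset.coe_filter, Finset.mem_univ, true_and, Set.mem_ofPred_eq]
      constructor
      · intro hB
        obtain ⟨d, hd, h⟩ := syl_conj hR hB.1 hB.2.1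
        refine ⟨(⟨d, hd⟩ : ↥(A ⊓ st p))⁻¹, ?_⟩
        show cj d⁻¹ R = B
        have e1 : cj d B = R :=
          eq_of_le_of_card_ge h (by rw [card_cj]; exact hB.2.2 _ hR.1 hR.2.1)
        rw [← e1, cj_inv]
      · rintro ⟨k, rfl⟩
        show Syl r (A ⊓ st p) (cj (k : G) R)
        refine ⟨?_, hR.2.1.of_equiv (R.equivMapOfInjective _ (MulAut.conj (k : G)).injective),
          fun P hP hPp => by rw [card_cj]; exact hR.2.2 P hP hPp⟩
        exact cj_le_iff.2 fun x hx => mul_mem (mul_mem k.2 (hR.1 hx)) (inv_mem k.2)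
    have hdvd : (Y p).card ∣ Nat.card ↥(A ⊓ st p) := by
      rw [← Set.ncard_coe_finset, heq, ← Nat.card_coe_set_eq,
        Nat.card_congr (MulAction.orbitEquivQuotientStabilizer ↥(A ⊓ st p) R), ← Subgroup.index_eq_card]
      exact Subgroup.index_dvd_card _
    exact (hoddA p).of_dvd_nat hdvd
  have hSodd : Odd S.card := by
    have hS' : S = Finset.univ.biUnion fun p => (Y p).map ⟨fun R => (p, R), fun _ _ h => (Prod.ext_iff.1 h).2⟩ := by
      ext ⟨p, R⟩
      simp only [S, Y, Finset.mem_filter, Finset.mem_univ, true_and, Finset.mem_biUnion, Finset.mem_map]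
      refine ⟨fun h => ⟨p, R, h, rfl⟩, ?_⟩
      rintro ⟨p', R', h, he⟩
      obtain ⟨rfl, rfl⟩ := Prod.ext_iff.1 he
      exact h
    rw [hS', Finset.card_biUnion]
    · simp only [Finset.card_map]
      rw [← ZMod.natCast_eq_one_iff_odd, Nat.cast_sum]
      have h1 : ∀ p, ((Y p).card : ZMod 2) = 1 := fun p => ZMod.natCast_eq_one_iff_odd.2 (hY p)
      simp only [h1, Finset.sum_const, Finset.card_univ, nsmul_eq_mul, mul_one]
      rw [ZMod.natCast_eq_one_iff_odd, ← Nat.card_eq_fintype_card]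
      exact hnodd
    · intro p _ q _ hpq
      simp only [Function.onFun, Finset.disjoint_left, Finset.mem_map]
      rintro z ⟨R, -, rfl⟩ ⟨R', -, h⟩
      exact hpq (Prod.ext_iff.1 h).1.symm
  let f : (G ⧸ H) × Subgroup G → (G ⧸ H) × Subgroup G := fun z =>
    if h : Syl r (A ⊓ st z.1) z.2 then ((huni z.1 z.2 h).choose, z.2) else z
  have hf : ∀ z ∈ S, ((f z).1 ≠ z.1 ∧ z.2 ≤ st (f z).1) ∧ (f z).2 = z.2 := by
    intro z hz
    simp only [S, Finset.mem_filter, Finset.mem_univ, true_and] at hz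
    have e : f z = ((huni z.1 z.2 hz).choose, z.2) := dif_pos hz
    rw [e]
    exact ⟨(huni z.1 z.2 hz).choose_spec.1, rfl⟩
  have hfm : ∀ z ∈ S, f z ∈ S := by
    intro z hz
    obtain ⟨⟨h1, h2⟩, h3⟩ := hf z hz
    simp only [S, Finset.mem_filter, Finset.mem_univ, true_and] at hz ⊢
    rw [h3]
    exact hpartner z.1 _ z.2 hz h1 h2
  have heven : Even S.card := by
    rw [← ZMod.natCast_eq_zero_iff_even]
    have h : (∑ _z ∈ S, (1 : ZMod 2)) = 0 :=
      Finset.sum_involution (fun z _ => f z) (fun _ _ => by decide)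
        (fun z hz _ h => (hf z hz).1.1 (congrArg Prod.fst h)) hfm fun z hz => by
        have hz' := hfm z hz
        simp only [S, Finset.mem_filter, Finset.mem_univ, true_and] at hz hz'
        obtain ⟨⟨h1, -⟩, h3⟩ := hf z (by simp [S, hz])
        obtain ⟨⟨g1, g2⟩, g3⟩ := hf (f z) (by simp [S, hz'])
        rw [h3] at hz' g2 g3
        exact Prod.ext ((huni (f z).1 z.2 hz').unique ⟨g1, g2⟩
          ⟨h1.symm, hz.1.trans inf_le_right⟩) g3
    simpa using h
  exact (Nat.not_even_iff_odd.2 hSodd) heven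

end CfsgLib.Bender.NC
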