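import Cfsg.Prelude.Def_Involutions
import Mathlib

/-!
The parity lemma of the noncommuting branch of Bender's theorem: a group without strongly embedded
subgroup, with a subgroup `T` of odd order transitive on the involutions and an involutory
automorphism of `T` whose fixed group is the centralizer of an involution, has commuting involutions.
-/

set_option autoImplicit false
set_option linter.style.haveILetI false
set_option linter.unusedSectionVars false

namespace CfsgLib.Bender.NC.Parity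

open Subgroup

variable {X : Type*} [Group X]

lemma invol_mul_self {t : X} (ht : orderOf t = 2) : t * t = 1 := by
  have := pow_orderOf_eq_one t; rwa [ht, pow_two] at this

lemma invol_ne_one {t : X} (ht : orderOf t = 2) : t ≠ 1 := by
  intro h; rw [h, orderOf_one] at ht; omega

lemma orderOf_eq_two_of {t : X} (h1 : t * t = 1) (h2 : t ≠ 1) : orderOf t = 2 :=
  orderOf_eq_prime (by rw [pow_two]; exact h1) h2

lemma orderOf_conj_eq (g t : X) : orderOf (g * t * g⁻¹) = orderOf t := by
  rw [← MulAut.conj_apply]; exact MulEquiv.orderOf_eq _ _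

lemma commute_conj_iff (g a b : X) :
    Commute (g * a * g⁻¹) (g * b * g⁻¹) ↔ Commute a b := by
  rw [← MulAut.conj_apply, ← MulAut.conj_apply]
  exact ⟨fun h => by simpa [mul_assoc] using h.map (MulAut.conj g).symm.toMonoidHom,
    fun h => h.map (MulAut.conj g).toMonoidHom⟩

/-- An involution without fixed point on a finite set gives even cardinality. -/
lemma even_card_of_invol {α : Type*} [DecidableEq α] (S : Finset α) (f : α → α)
    (hm : ∀ a ∈ S, f a ∈ S) (hi : ∀ a ∈ S, f (f a) = a) (hne : ∀ a ∈ S, f a ≠ a) :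
    Even S.card := by
  rw [← ZMod.natCast_eq_zero_iff_even]
  have h : (∑ _a ∈ S, (1 : ZMod 2)) = 0 :=
    Finset.sum_involution (fun a _ => f a) (fun a _ => by decide) (fun a ha _ => hne a ha) hm hi
  simpa using h

/-- Cardinality mod 2 of a set with an involution having at most the one fixed point `p`. -/
lemma odd_card_iff {α : Type*} [DecidableEq α] (S : Finset α) (f : α → α) (p : α)
    (hm : ∀ a ∈ S, f a ∈ S) (hi : ∀ a ∈ S, f (f a) = a) (hp : p ∈ S → f p = p)
    (hne : ∀ a ∈ S, a ≠ p → f a ≠ a) : Odd S.card ↔ p ∈ S := by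
  by_cases hpS : p ∈ S
  · simp only [hpS, iff_true]
    have he : Even (S.erase p).card := by
      refine even_card_of_invol _ f (fun a ha => ?_) (fun a ha => hi a (Finset.mem_of_mem_erase ha))
        fun a ha => hne a (Finset.mem_of_mem_erase ha) (Finset.ne_of_mem_erase ha)
      refine Finset.mem_erase.2 ⟨fun h => ?_, hm a (Finset.mem_of_mem_erase ha)⟩
      have := hi a (Finset.mem_of_mem_erase ha)
      rw [h, hp hpS] at this
      exact Finset.ne_of_mem_erase ha this.symm
    rw [← Finset.card_erase_add_one hpS]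
    exact he.add_one
  · simp only [hpS, iff_false, Nat.not_odd_iff_even]
    exact even_card_of_invol S f hm hi fun a ha => hne a ha fun h => hpS (h ▸ ha)

lemma sq_inj_of_odd {T : Subgroup X} [Finite T] (hT : Odd (Nat.card T)) {a b : T}
    (h : a ^ 2 = b ^ 2) : a = b := by
  obtain ⟨k, hk⟩ := hT
  have h' : ∀ c : T, (c ^ 2) ^ (k + 1) = c := fun c => by
    rw [← pow_mul, show 2 * (k + 1) = Nat.card T + 1 by omega, pow_succ, pow_card_eq_one', one_mul]
  rw [← h' a, ← h' b, h]

lemma exists_sqrt {T : Subgroup X} [Finite T] (hT : Odd (Nat.card T)) (σ : T ≃* T) {a : T}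
    (ha : σ a = a⁻¹) : ∃ b : T, b ^ 2 = a ∧ σ b = b⁻¹ := by
  obtain ⟨k, hk⟩ := hT
  refine ⟨a ^ (k + 1), ?_, ?_⟩
  · rw [← pow_mul, show (k + 1) * 2 = Nat.card T + 1 by omega, pow_succ, pow_card_eq_one', one_mul]
  · rw [map_pow, ha, inv_pow]

section Main

variable [Finite X] {T : Subgroup X} {σ : T ≃* T} {t : X}

lemma decomp (hT : Odd (Nat.card T)) (hσ : ∀ g, σ (σ g) = g) (g : T) :
    ∃ x c : T, g = x * c ∧ σ x = x⁻¹ ∧ σ c = c := by
  have hk : σ (g * (σ g)⁻¹) = (g * (σ g)⁻¹)⁻¹ := by simp [hσ]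
  obtain ⟨x, hx, hx'⟩ := exists_sqrt hT σ hk
  refine ⟨x, x⁻¹ * g, by group, hx', ?_⟩
  rw [map_mul, map_inv, hx', inv_inv]
  have h2 : x * x * σ g = g := by rw [← pow_two, hx]; group
  calc x * σ g = x⁻¹ * (x * x * σ g) := by group
    _ = x⁻¹ * g := by rw [h2]

/-- `t` commutes with its conjugate by `d`. -/
def Adj (t : X) (d : X) : Prop := Commute t (d * t * d⁻¹)

lemma adj_inv {d : X} (h : Adj t d) : Adj t d⁻¹ := by
  unfold Adj at *
  rw [← commute_conj_iff d]
  simpa [mul_assoc] using h.symm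

lemma conj_mul_fix (hC : ∀ g : T, σ g = g ↔ Commute (g : X) t) {x c : T} (hc : σ c = c) :
    ((x * c : T) : X) * t * ((x * c : T) : X)⁻¹ = (x : X) * t * (x : X)⁻¹ := by
  have h := ((hC c).1 hc).eq
  rw [Subgroup.coe_mul, mul_inv_rev]
  calc (x : X) * c * t * ((c : X)⁻¹ * (x : X)⁻¹) = (x : X) * ((c : X) * t * (c : X)⁻¹) * (x : X)⁻¹ := by
        group
    _ = _ := by rw [h]; group

lemma adj_sigma (hT : Odd (Nat.card T)) (hσ : ∀ g, σ (σ g) = g)
    (hC : ∀ g : T, σ g = g ↔ Commute (g : X) t) {d : T} (h : Adj t (d : X)) :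
    Adj t (σ d : X) := by
  obtain ⟨x, c, rfl, hx, hc⟩ := decomp hT hσ d
  unfold Adj at h ⊢
  rw [conj_mul_fix hC hc] at h
  rw [map_mul, hx, hc, conj_mul_fix hC hc]
  simpa [Adj] using adj_inv (t := t) (d := (x : X)) h

open Classical in
/-- For a commuting-like pair (even product order) the common neighbours have odd number. -/
lemma odd_common {a b : X} [Fintype X] (ha : orderOf a = 2) (hb : orderOf b = 2)
    (he : Even (orderOf (a * b))) :
    Odd (Finset.univ.filter fun w : X => orderOf w = 2 ∧ Commute a w ∧ Commute w b).card := by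
  obtain ⟨k, hk⟩ := he
  have hk0 : k ≠ 0 := by
    intro h; have := orderOf_pos (a * b); omega
  set z := (a * b) ^ k with hz
  have hzz : z * z = 1 := by rw [hz, ← pow_add, ← hk, pow_orderOf_eq_one]
  have hz1 : z ≠ 1 := pow_ne_one_of_lt_orderOf hk0 (by omega)
  have hzo : orderOf z = 2 := orderOf_eq_two_of hzz hz1
  have hzi : z⁻¹ = z := inv_eq_of_mul_eq_one_right hzz
  have hflip : ∀ c : X, c * c = 1 → c * (a * b) * c⁻¹ = (a * b)⁻¹ → Commute c z := by
    intro c _ h
    have h' : c * z * c⁻¹ = z := by rw [hz, ← conj_pow, h, inv_pow, ← hz, hzi]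
    exact mul_inv_eq_iff_eq_mul.1 h'
  have hai : a⁻¹ = a := inv_eq_of_mul_eq_one_right (invol_mul_self ha)
  have hbi : b⁻¹ = b := inv_eq_of_mul_eq_one_right (invol_mul_self hb)
  have haz : Commute a z := hflip a (invol_mul_self ha) (by
    rw [mul_inv_rev, hai, hbi, ← mul_assoc, invol_mul_self ha, one_mul])
  have hbz : Commute b z := hflip b (invol_mul_self hb) (by
    rw [mul_inv_rev, hai, hbi, mul_assoc, mul_assoc, invol_mul_self hb, mul_one])
  refine (odd_card_iff _ (fun w => if w = z then z else w * z) z ?_ ?_ (fun _ => if_pos rfl) ?_).2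
    (by simp [hzo, haz, hbz.symm])
  · intro w hw
    simp only [Finset.mem_filter, Finset.mem_univ, true_and] at hw ⊢
    split_ifs with h
    · exact ⟨hzo, haz, hbz.symm⟩
    · have hwz : Commute w z := ((hw.2.1.symm.mul_right hw.2.2).pow_right k)
      refine ⟨orderOf_eq_two_of ?_ ?_, hw.2.1.mul_right haz, hw.2.2.mul_left hbz.symm⟩
      · rw [hwz.symm.mul_mul_mul_comm, invol_mul_self hw.1, hzz, one_mul]
      · intro h1
        exact h (by rw [eq_inv_of_mul_eq_one_left h1, hzi])
  · intro w hw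
    simp only [Finset.mem_filter, Finset.mem_univ, true_and] at hw
    by_cases h : w = z
    · simp [h]
    · rw [if_neg h, if_neg, mul_assoc, hzz, mul_one]
      exact fun h1 => invol_ne_one hw.1 (by simpa using h1)
  · intro w _ h
    rw [if_neg h]
    simpa using hz1

/-- Two involutions with product of even order commute. -/
theorem commute_of_even (hT : Odd (Nat.card T))
    (htr : ∀ s₁ s₂ : X, orderOf s₁ = 2 → orderOf s₂ = 2 → ∃ d ∈ T, d * s₁ * d⁻¹ = s₂)
    (hσ : ∀ g, σ (σ g) = g) (ht : orderOf t = 2) (hC : ∀ g : T, σ g = g ↔ Commute (g : X) t)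
    {s₁ s₂ : X} (h₁ : orderOf s₁ = 2) (h₂ : orderOf s₂ = 2) (he : Even (orderOf (s₁ * s₂))) :
    Commute s₁ s₂ := by
  classical
  haveI := Fintype.ofFinite X
  have hwd : ∀ g h : T, (g : X) * t * (g : X)⁻¹ = (h : X) * t * (h : X)⁻¹ →
      ((σ g : T) : X) * t * ((σ g : T) : X)⁻¹ = ((σ h : T) : X) * t * ((σ h : T) : X)⁻¹ := by
    intro g h hgh
    have hc : Commute ((h⁻¹ * g : T) : X) t := by
      apply mul_inv_eq_iff_eq_mul.1
      rw [Subgroup.coe_mul, Subgroup.coe_inv, mul_inv_rev, inv_inv]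
      calc (h : X)⁻¹ * g * t * ((g : X)⁻¹ * h) = (h : X)⁻¹ * ((g : X) * t * (g : X)⁻¹) * h := by group
        _ = t := by rw [hgh]; group
    have := (hC _).2 hc
    rw [map_mul, map_inv, inv_mul_eq_iff_eq_mul] at this
    rw [this]
    exact conj_mul_fix hC ((hC _).2 hc)
  have hrep : ∀ s : X, orderOf s = 2 → ∃ g : T, (g : X) * t * (g : X)⁻¹ = s := fun s hs =>
    let ⟨d, hd, h⟩ := htr t s ht hs; ⟨⟨d, hd⟩, h⟩
  -- parity: odd number of common neighbours iff the square root is adjacent
  have hpar : ∀ y : T, σ y = y⁻¹ →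
      (Odd (Finset.univ.filter fun w : X => orderOf w = 2 ∧ Commute t w ∧
        Commute w (((y ^ 2 : T) : X) * t * ((y ^ 2 : T) : X)⁻¹)).card ↔ Adj t (y : X)) := by
    intro y hy
    set x : T := y ^ 2 with hx
    have hxs : σ x = x⁻¹ := by rw [hx, map_pow, hy, inv_pow]
    have hex : ∀ w : X, ∃ g : T, orderOf w = 2 → (g : X) * t * (g : X)⁻¹ = w := fun w =>
      if h : orderOf w = 2 then (hrep w h).imp fun g hg _ => hg else ⟨1, fun h' => absurd h' h⟩
    choose rep hrep' using hex
    let f : X → X := fun w => ((x * σ (rep w) : T) : X) * t * ((x * σ (rep w) : T) : X)⁻¹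
    have hf : ∀ g : T, f ((g : X) * t * (g : X)⁻¹) =
        ((x * σ g : T) : X) * t * ((x * σ g : T) : X)⁻¹ := by
      intro g
      have h0 := hwd _ g (hrep' _ (by rw [orderOf_conj_eq, ht]))
      simp only [f, Subgroup.coe_mul, mul_inv_rev]
      generalize σ (rep _) = q at h0 ⊢
      calc _ = (x : X) * ((q : X) * t * (q : X)⁻¹) * (x : X)⁻¹ := by group
        _ = _ := by rw [h0]; group
    have hcomm : ∀ g h : T, Commute ((g : X) * t * (g : X)⁻¹) ((h : X) * t * (h : X)⁻¹) ↔
        Adj t ((g⁻¹ * h : T) : X) := by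
      intro g h
      rw [← commute_conj_iff (g : X)⁻¹, Adj]
      simp [mul_assoc]
    have hpres : ∀ v w : X, orderOf v = 2 → orderOf w = 2 → Commute v w → Commute (f v) (f w) := by
      intro v w hv hw hvw
      obtain ⟨g, rfl⟩ := hrep v hv
      obtain ⟨h, rfl⟩ := hrep w hw
      rw [hf, hf, hcomm]
      have := adj_sigma hT hσ hC ((hcomm g h).1 hvw)
      simpa [map_mul, map_inv, mul_assoc] using this
    have hft : f t = (x : X) * t * (x : X)⁻¹ := by
      have := hf 1; simpa using this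
    have hfs : f ((x : X) * t * (x : X)⁻¹) = t := by
      rw [hf, hxs]; simp
    have hfp : f ((y : X) * t * (y : X)⁻¹) = (y : X) * t * (y : X)⁻¹ := by
      rw [hf, hy, hx, pow_two, mul_inv_cancel_right]
    rw [odd_card_iff _ f ((y : X) * t * (y : X)⁻¹) ?_ ?_ (fun _ => hfp) ?_]
    · simp only [Finset.mem_filter, Finset.mem_univ, true_and]
      refine ⟨fun h => h.2.1, fun h => ⟨by rw [orderOf_conj_eq, ht], h, ?_⟩⟩
      have := hpres _ _ ht (by rw [orderOf_conj_eq, ht]) h
      rw [hft, hfp] at this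
      exact this.symm
    · intro w hw
      simp only [Finset.mem_filter, Finset.mem_univ, true_and] at hw ⊢
      refine ⟨by simp only [f]; rw [orderOf_conj_eq, ht], ?_, ?_⟩
      · have := hpres _ _ hw.1 (by rw [orderOf_conj_eq, ht]) hw.2.2
        rw [hfs] at this; exact this.symm
      · have := hpres _ _ ht hw.1 hw.2.1
        rw [hft] at this; exact this.symm
    · intro w hw
      simp only [Finset.mem_filter, Finset.mem_univ, true_and] at hw
      obtain ⟨g, rfl⟩ := hrep w hw.1
      exact (congrArg f (hf g)).trans ((hf _).trans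
        (by rw [map_mul, hσ, hxs, ← mul_assoc, mul_inv_cancel, one_mul]))
    · intro w hw hwne hfix
      simp only [Finset.mem_filter, Finset.mem_univ, true_and] at hw
      obtain ⟨g, rfl⟩ := hrep w hw.1
      obtain ⟨z, c, hzc, hz, hc⟩ := decomp hT hσ (y⁻¹ * g)
      apply hwne
      have hg : g = y * (z * c) := by rw [← hzc]; group
      have hsg : x * σ g = y * (z⁻¹ * c) := by
        rw [hg, map_mul, map_mul, hy, hz, hc, hx, pow_two, mul_assoc, mul_inv_cancel_left]
      have hfix' := (hf g).symm.trans hfix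
      rw [hsg, hg, ← mul_assoc, ← mul_assoc, conj_mul_fix hC hc, conj_mul_fix hC hc] at hfix'
      have hz2 : Commute (((z ^ 2)⁻¹ : T) : X) t := by
        apply mul_inv_eq_iff_eq_mul.1
        have h3 := congrArg (fun v => ((y : X) * (z : X))⁻¹ * v * ((y : X) * (z : X))) hfix'
        simp only [Subgroup.coe_mul, Subgroup.coe_inv] at h3
        simp only [pow_two, mul_inv_rev]
        simpa [mul_assoc] using h3
      have h4 := (hC _).2 hz2
      rw [map_inv, map_pow, hz, inv_pow, inv_inv] at h4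
      have h5 : z ^ 2 = (z⁻¹) ^ 2 := by rw [inv_pow]; exact h4
      have h6 : z ^ 2 = (1 : T) ^ 2 := by
        rw [one_pow, pow_two]; nth_rw 2 [sq_inj_of_odd hT h5]; rw [mul_inv_cancel]
      rw [sq_inj_of_odd hT h6, one_mul] at hg
      rw [hg, conj_mul_fix hC hc]
  have hadj : ∀ x : T, Adj t (x : X) → Even (orderOf (t * ((x : X) * t * (x : X)⁻¹))) ∨
      (x : X) * t * (x : X)⁻¹ = t := by
    intro x hx
    by_cases h : (x : X) * t * (x : X)⁻¹ = t
    · exact .inr h
    · refine .inl ?_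
      have hs : orderOf ((x : X) * t * (x : X)⁻¹) = 2 := by rw [orderOf_conj_eq, ht]
      rw [orderOf_eq_two_of (t := t * ((x : X) * t * (x : X)⁻¹)) ?_ ?_]
      · exact even_two
      · rw [(show Commute t ((x : X) * t * (x : X)⁻¹) from hx).symm.mul_mul_mul_comm,
          invol_mul_self ht, invol_mul_self hs, one_mul]
      · intro h1
        exact h (by rw [eq_inv_of_mul_eq_one_right h1, inv_eq_of_mul_eq_one_right (invol_mul_self ht)])
  have hodd_of : ∀ y : T, σ y = y⁻¹ →
      Even (orderOf (t * (((y ^ 2 : T) : X) * t * ((y ^ 2 : T) : X)⁻¹))) → Adj t (y : X) := by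
    intro y hy he'
    exact (hpar y hy).1 (odd_common ht (by rw [orderOf_conj_eq, ht]) he')
  -- squaring preserves adjacency on inverted elements
  have hsq : ∀ y : T, σ y = y⁻¹ → Adj t (y : X) → Adj t ((y ^ 2 : T) : X) := by
    let S : Finset T := Finset.univ.filter fun z : T => σ z = z⁻¹ ∧ Adj t (z : X)
    have hroot : ∀ z ∈ S, ∃ w ∈ S, w ^ 2 = z := by
      intro z hz
      simp only [S, Finset.mem_filter, Finset.mem_univ, true_and] at hz ⊢
      obtain ⟨w, hw, hw'⟩ := exists_sqrt hT σ hz.1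
      refine ⟨w, ⟨hw', ?_⟩, hw⟩
      rcases hadj z hz.2 with he' | heq
      · exact hodd_of w hw' (by rw [hw]; exact he')
      · have hc := (hC z).2 (mul_inv_eq_iff_eq_mul.1 heq)
        have : z = 1 := sq_inj_of_odd hT (a := z) (b := 1) (by
          rw [one_pow, pow_two]; nth_rw 1 [← hc]; rw [hz.1, inv_mul_cancel])
        subst this
        rw [sq_inj_of_odd hT (a := w) (b := 1) (by rw [hw, one_pow])]
        simp [Adj]
    choose r hrS hr using hroot
    let ρ : {z // z ∈ S} → {z // z ∈ S} := fun z => ⟨r z z.2, hrS z z.2⟩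
    have hinj : Function.Injective ρ := fun a b h => Subtype.ext (by
      have := congrArg (fun q : {z // z ∈ S} => (q : T) ^ 2) h
      simpa [ρ, hr] using this)
    intro y hy hA
    obtain ⟨z, hz⟩ := (Finite.injective_iff_surjective.1 hinj) ⟨y, by simp [S, hy, hA]⟩
    have hzy : (z : T) = y ^ 2 := by
      rw [← hr z z.2]; exact congrArg (fun q : {z // z ∈ S} => (q : T) ^ 2) hz
    have := z.2
    simp only [S, Finset.mem_filter, Finset.mem_univ, true_and] at this
    rw [← hzy]; exact this.2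
  obtain ⟨d, hd, rfl⟩ := htr t s₁ ht h₁
  rw [← commute_conj_iff d⁻¹]
  have e1 : d⁻¹ * (d * t * d⁻¹) * d⁻¹⁻¹ = t := by group
  rw [e1]
  have he2 : Even (orderOf (t * (d⁻¹ * s₂ * d⁻¹⁻¹))) := by
    rw [show t * (d⁻¹ * s₂ * d⁻¹⁻¹) = d⁻¹ * (d * t * d⁻¹ * s₂) * d⁻¹⁻¹ by group, orderOf_conj_eq]
    exact he
  obtain ⟨g, hg⟩ := hrep (d⁻¹ * s₂ * d⁻¹⁻¹) (by rw [orderOf_conj_eq, h₂])
  obtain ⟨x, c, rfl, hx, hc⟩ := decomp hT hσ g
  rw [conj_mul_fix hC hc] at hg
  obtain ⟨y, rfl, hy⟩ := exists_sqrt hT σ hx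
  rw [← hg] at he2 ⊢
  exact hsq y hy (hodd_of y hy he2)

/-- The parity lemma. -/
theorem commute_of_odd_transitive (hSE : ∀ S : Subgroup X, ¬ Cfsg.IsStronglyEmbedded S)
    (hT : Odd (Nat.card T))
    (htr : ∀ s₁ s₂ : X, orderOf s₁ = 2 → orderOf s₂ = 2 → ∃ d ∈ T, d * s₁ * d⁻¹ = s₂)
    (hσ : ∀ g, σ (σ g) = g) (ht : orderOf t = 2) (hC : ∀ g : T, σ g = g ↔ Commute (g : X) t) :
    ∀ s₁ s₂ : X, orderOf s₁ = 2 → orderOf s₂ = 2 → Commute s₁ s₂ := by
  have key := fun {a b : X} => commute_of_even (s₁ := a) (s₂ := b) hT htr hσ ht hC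
  have htrans : ∀ a z b : X, orderOf a = 2 → orderOf z = 2 → orderOf b = 2 → Commute a z →
      Commute z b → Commute a b := by
    intro a z b ha hz hb haz hzb
    by_contra hab
    have hodd : ¬ Even (orderOf (a * b)) := fun h => hab (key ha hb h)
    have hbz : b ≠ z := fun h => hab (h ▸ haz)
    have hbz2 : orderOf (b * z) = 2 := orderOf_eq_two_of
      (by rw [hzb.mul_mul_mul_comm, invol_mul_self hb, invol_mul_self hz, one_mul])
      (fun h => hbz (by rw [eq_inv_of_mul_eq_one_left h,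
        inv_eq_of_mul_eq_one_right (invol_mul_self hz)]))
    refine hab ?_
    have he : Even (orderOf (a * (b * z))) := by
      by_contra hne
      rw [Nat.not_even_iff_odd] at hne
      have hcz : Commute (a * b) z := haz.mul_left hzb.symm
      have h2 : (a * (b * z)) ^ (2 * orderOf (a * b)) = 1 := by
        rw [← mul_assoc, hcz.mul_pow, mul_comm 2, pow_mul, pow_orderOf_eq_one, one_pow, one_mul,
          mul_comm, pow_mul, pow_two, invol_mul_self hz, one_pow]
      have hdvd : orderOf (a * (b * z)) ∣ orderOf (a * b) :=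
        (Nat.Coprime.dvd_mul_left (Nat.coprime_two_right.2 hne)).1 (orderOf_dvd_of_pow_eq_one h2)
      have h3 := orderOf_dvd_iff_pow_eq_one.1 hdvd
      rw [← mul_assoc, hcz.mul_pow, pow_orderOf_eq_one, one_mul] at h3
      obtain ⟨k, hk⟩ := Nat.not_even_iff_odd.1 hodd
      rw [hk, pow_succ, pow_mul, pow_two, invol_mul_self hz, one_pow, one_mul] at h3
      exact invol_ne_one hz h3
    have h := key ha hbz2 he
    have := h.mul_right haz
    rwa [mul_assoc, invol_mul_self hz, mul_one] at this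
  intro s₁ s₂ h₁ h₂
  let M : Subgroup X :=
    { carrier := {g | Commute t (g * t * g⁻¹)}
      one_mem' := by simp
      mul_mem' := by
        intro g h hg hh
        refine htrans t (g * t * g⁻¹) _ ht (by rw [orderOf_conj_eq, ht])
          (by rw [orderOf_conj_eq, ht]) hg ?_
        rw [show g * h * t * (g * h)⁻¹ = g * (h * t * h⁻¹) * g⁻¹ by group, commute_conj_iff]
        exact hh
      inv_mem' := by
        intro g hg
        exact adj_inv hg }
  have hmem : ∀ g : X, g ∈ M ↔ Commute t (g * t * g⁻¹) := fun g => Iff.rfl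
  have hMinv : ∀ w ∈ M, orderOf w = 2 → Commute t w := by
    intro w hw hw2
    have hw' := (hmem w).1 hw
    have hwi : w⁻¹ = w := inv_eq_of_mul_eq_one_right (invol_mul_self hw2)
    by_cases h1 : t * w = 1
    · rw [eq_inv_of_mul_eq_one_right h1, inv_eq_of_mul_eq_one_right (invol_mul_self ht)]
    refine key ht hw2 ?_
    by_contra hne
    rw [Nat.not_even_iff_odd] at hne
    have hsq : (t * w) ^ 4 = 1 := by
      have e : (t * w) ^ 2 = t * (w * t * w⁻¹) := by rw [pow_two, hwi]; group
      rw [show (4 : ℕ) = 2 * 2 from rfl, pow_mul, e, pow_two, hw'.symm.mul_mul_mul_comm,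
        invol_mul_self ht, invol_mul_self (by rw [orderOf_conj_eq, ht]), one_mul]
    have hcop : Nat.Coprime (orderOf (t * w)) (2 ^ 2) :=
      Nat.Coprime.pow_right _ (Nat.coprime_two_right.2 hne)
    exact h1 (orderOf_eq_one_iff.1
      (Nat.eq_one_of_dvd_coprimes hcop dvd_rfl (orderOf_dvd_of_pow_eq_one hsq)))
  have hMtop : M = ⊤ := by
    by_contra hM
    refine hSE M ⟨hM, ?_, ?_⟩
    · have htM : t ∈ M := (hmem t).2 (by simp)
      have := orderOf_dvd_natCard (⟨t, htM⟩ : M)
      rw [Subgroup.orderOf_mk, ht] at this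
      exact even_iff_two_dvd.2 this
    · intro g hg
      by_contra hne
      rw [Nat.not_odd_iff_even, even_iff_two_dvd] at hne
      obtain ⟨w, hw⟩ := exists_prime_orderOf_dvd_card' 2 hne
      rw [← Subgroup.orderOf_coe] at hw
      obtain ⟨hw1, hw2⟩ := Subgroup.mem_inf.1 w.2
      obtain ⟨v, hv, hvw⟩ := Subgroup.mem_map.1 hw2
      simp only [MulEquiv.coe_toMonoidHom, MulAut.conj_apply] at hvw
      have hv2 : orderOf v = 2 := by rw [← orderOf_conj_eq g, hvw, hw]
      refine hg ((hmem g).2 (htrans t (w : X) _ ht hw (by rw [orderOf_conj_eq, ht])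
        (hMinv _ hw1 hw) ?_))
      rw [← hvw, commute_conj_iff]
      exact (hMinv v hv hv2).symm
  have hall : ∀ s : X, orderOf s = 2 → Commute t s := by
    intro s hs
    obtain ⟨d, _, rfl⟩ := htr t s ht hs
    exact (hmem d).1 (hMtop ▸ mem_top d)
  exact htrans s₁ t s₂ h₁ ht h₂ (hall s₁ h₁).symm (hall s₂ h₂)

end Main

end CfsgLib.Bender.NC.Parity
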