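import Cfsg.Agent.Bender.NC.Basic
import Cfsg.Agent.Bender.NC.Parity

/-!
Bender's theorem, noncommuting branch: a transitive subgroup of a two-point stabilizer in which the
centralizer of the swapper fixes an involution forces the involutions to commute.
-/

set_option autoImplicit false
set_option linter.unusedSectionVars false
set_option linter.style.haveILetI false

namespace CfsgLib.Bender.NC

open Subgroup
open CfsgLib.FusionLift (cj mem_cj card_cj)
open CfsgLib.Bender.GSide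

universe u

variable {G : Type u} [Group G] [Finite G] {H : Subgroup G}

/-- The parity lemma in the setting. -/
theorem Hyp.involComm_of_fixes (hH : Hyp H) {a b : G ⧸ H} (hab : a ≠ b) {u : G} (hu : Swap a b u)
    {T : Subgroup G} (hT : T ≤ st a ⊓ st b) (huT : u ∈ normalizer (T : Set G))
    (hJ : ∀ x, Inverted a b u x → x ∈ T) {t : G} (ht : InvAt a t)
    (hfix : ∀ x ∈ T, Commute u x → Commute t x) : Core.CSix.InvolComm H := by
  classical
  set A := st a with hA
  obtain ⟨p₁, p₂, hp₁, hp₂, hpne, hpc⟩ := hH.pair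
  obtain ⟨z, -, hz, hzt, hcz⟩ := GSide.exists_partner (N := (⊤ : Subgroup G))
    (mem_top t) ht.1 (mem_top p₁) hp₁ (mem_top p₂) hp₂ hpne hpc
  have hza : z • a = a :=
    hH.centre_unique ⟨ht.1, ht.2⟩ (show t • z • a = z • a by
      rw [smul_smul, hcz.eq, mul_smul, ht.2])
  have hpA : PairRank A := ⟨⟨t, ht.2⟩, ⟨z, hza⟩, by rw [← Subgroup.orderOf_coe]; exact ht.1,
    by rw [← Subgroup.orderOf_coe]; exact hz, fun h => hzt (congrArg Subtype.val h).symm, Subtype.ext hcz⟩
  set T' := T.subgroupOf A with hT'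
  have hTA : T ≤ A := hT.trans inf_le_left
  have hT'odd : Odd (Nat.card T') := by
    rw [Nat.card_congr (subgroupOfEquivOfLe hTA).toEquiv]
    exact (hH.odd_pair hab).of_dvd_nat (card_dvd_of_le hT)
  have htr : ∀ s v : A, orderOf s = 2 → orderOf v = 2 → ∃ d ∈ T', d * s * d⁻¹ = v := by
    intro s v hs hv
    obtain ⟨d, hd, e⟩ := hH.trans_of_inverted_le hab hu hJ (s := (s : G)) (t := (v : G))
      ⟨by rwa [Subgroup.orderOf_coe], s.2⟩ ⟨by rwa [Subgroup.orderOf_coe], v.2⟩
    exact ⟨⟨d, hTA hd⟩, hd, Subtype.ext e⟩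
  have hSE : ∀ S : Subgroup A, ¬ Cfsg.IsStronglyEmbedded S := fun S hS =>
    noTransOdd_of_pair hS hpA T' ⟨le_top, hT'odd, fun s v _ hs _ hv => htr s v hs hv⟩
  have huu : ∀ x ∈ T, u * x * u⁻¹ ∈ T := fun x hx => (mem_normalizer_iff.1 huT x).1 hx
  have hsq : ∀ x : G, u * (u * x * u⁻¹) * u⁻¹ = x := fun x => by
    rw [Invol.inv_eq_self hu.1]
    calc u * (u * x * u) * u = u * u * x * (u * u) := by group
      _ = x := by rw [Invol.mul_self_eq_one hu.1, one_mul, mul_one]
  let σ : T' ≃* T' :=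
    { toFun := fun x => ⟨⟨u * x.1.1 * u⁻¹, hTA (huu _ x.2)⟩, huu _ x.2⟩
      invFun := fun x => ⟨⟨u * x.1.1 * u⁻¹, hTA (huu _ x.2)⟩, huu _ x.2⟩
      left_inv := fun x => Subtype.ext (Subtype.ext (hsq _))
      right_inv := fun x => Subtype.ext (Subtype.ext (hsq _))
      map_mul' := fun x y => Subtype.ext (Subtype.ext (by
        show u * (x.1.1 * y.1.1) * u⁻¹ = u * x.1.1 * u⁻¹ * (u * y.1.1 * u⁻¹)
        group)) }
  have hle : centralizer ({u} : Set G) ⊓ T ≤ centralizer ({t} : Set G) ⊓ T := fun x hx =>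
    ⟨mem_centralizer_singleton_iff.2 (hfix x hx.2
      (show Commute u x from (mem_centralizer_singleton_iff.1 hx.1).symm)).eq.symm, hx.2⟩
  have heq := eq_of_le_of_card_ge hle (hH.card_centralizer_inf hab hu hT hJ ht).ge
  have hC : ∀ g : T', σ g = g ↔ Commute (g : A) (⟨t, ht.2⟩ : A) := by
    intro g
    constructor
    · intro h
      have h1 : u * g.1.1 * u⁻¹ = g.1.1 := congrArg (fun y : T' => y.1.1) h
      exact (Subtype.ext (hfix _ g.2 (mul_inv_eq_iff_eq_mul.1 h1)).eq :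
        Commute (⟨t, ht.2⟩ : A) g.1).symm
    · intro h
      have h1 : (g.1.1) ∈ centralizer ({t} : Set G) ⊓ T :=
        ⟨mem_centralizer_singleton_iff.2 (congrArg Subtype.val h.eq), g.2⟩
      rw [← heq] at h1
      refine Subtype.ext (Subtype.ext ?_)
      show u * g.1.1 * u⁻¹ = g.1.1
      rw [mul_inv_eq_iff_eq_mul]
      exact (mem_centralizer_singleton_iff.1 h1.1).symm
  have hall := Parity.commute_of_odd_transitive (σ := σ) hSE hT'odd htr
    (fun g => Subtype.ext (Subtype.ext (hsq _))) (by rw [← Subgroup.orderOf_coe]; exact ht.1) hC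
  intro x s v hs hv hsx hvx
  obtain ⟨g, hg⟩ := exists_smul x a
  have hs' : InvAt a (g * s * g⁻¹) := hg ▸ InvAt.smul ⟨hs, hsx⟩ g
  have hv' : InvAt a (g * v * g⁻¹) := hg ▸ InvAt.smul ⟨hv, hvx⟩ g
  have h := hall ⟨_, hs'.2⟩ ⟨_, hv'.2⟩ (by rw [← Subgroup.orderOf_coe]; exact hs'.1)
    (by rw [← Subgroup.orderOf_coe]; exact hv'.1)
  have h1 : Commute (g * s * g⁻¹) (g * v * g⁻¹) := congrArg Subtype.val h.eq
  have h2 := h1.map (MulAut.conj g⁻¹).toMonoidHom
  simpa [mul_assoc] using h2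

end CfsgLib.Bender.NC
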