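import Cfsg.Agent.Bender.NC.Basic

/-!
Bender's theorem, noncommuting branch: passage from a proper subgroup with commuting involutions to
the quotient by its odd core.
-/

set_option autoImplicit false
set_option linter.unusedSectionVars false
set_option linter.style.haveILetI false

namespace CfsgLib.Bender.NC

open Subgroup
open CfsgLib.FusionLift (cj mem_cj card_cj)
open CfsgLib.Bender.GSide

universe u

variable {G : Type u} [Group G] [Finite G] {H : Subgroup G}

/-- The projection of `M` on `M / O(M)`. -/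
abbrev proj (M : Subgroup G) : M →* M ⧸ Cfsg.oddCore M := QuotientGroup.mk' _

/-- The image in `M / O(M)` of the stabilizer of `c`. -/
def locSt (M : Subgroup G) (c : G ⧸ H) : Subgroup (M ⧸ Cfsg.oddCore M) :=
  ((st c).subgroupOf M).map (proj M)

/-- The point of `M / O(M)` belonging to `n • c`. -/
def locPt (M : Subgroup G) (c : G ⧸ H) (n : M) :
    (M ⧸ Cfsg.oddCore M) ⧸ locSt M c :=
  QuotientGroup.mk (proj M n)

theorem proj_invol {M : Subgroup G} {t : M} (ht : orderOf (t : G) = 2) :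
    orderOf (proj M t) = 2 := by
  have ht' : orderOf t = 2 := by rwa [← Subgroup.orderOf_coe]
  refine Invol.orderOf_eq_two (by rw [← map_mul, Invol.mul_self_eq_one ht', map_one]) fun h => ?_
  have := IsoApps.odd_of_mem_oddCore ((QuotientGroup.eq_one_iff t).1 h)
  rw [ht'] at this
  exact absurd this (by decide)

section Hyp

variable (hH : Hyp H)
include hH

/-- A smaller group. -/
theorem Hyp.card_loc_lt {M : Subgroup G} (hM : M ≠ ⊤) :
    Nat.card (M ⧸ Cfsg.oddCore M) < Nat.card G := by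
  refine lt_of_le_of_lt (Nat.le_of_dvd Nat.card_pos (Subgroup.card_quotient_dvd_card _)) ?_
  exact lt_of_le_of_ne (Nat.le_of_dvd Nat.card_pos (card_subgroup_dvd_card M))
    fun h => hM (eq_top_of_card_eq M h)

theorem Hyp.mem_st_iff {M : Subgroup G} (hp : Core.HasPair M) {c : G ⧸ H} (hc : Centre M c)
    {m : M} : proj M m ∈ locSt M c ↔ (m : G) • c = c := by
  refine ⟨?_, fun h => ⟨m, h, rfl⟩⟩
  rintro ⟨k, hk, hkm⟩
  obtain ⟨o, ho, rfl⟩ : ∃ o ∈ Cfsg.oddCore M, k * o = m :=
    ⟨k⁻¹ * m, QuotientGroup.eq.1 hkm, mul_inv_cancel_left k m⟩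
  have h1 : (o : G) • c = c := hH.oddCore_fix hp hc ⟨o, ho, rfl⟩
  show ((k : G) * o) • c = c
  rw [mul_smul, h1]
  exact hk

/-- Points correspond to the centres. -/
theorem Hyp.smul_locPt_iff {M : Subgroup G} (hp : Core.HasPair M) {c : G ⧸ H} (hc : Centre M c)
    {m n k : M} :
    proj M m • locPt M c n = locPt M c k ↔ (m : G) • (n : G) • c = (k : G) • c := by
  rw [locPt, locPt, MulAction.Quotient.smul_mk, QuotientGroup.eq, smul_eq_mul, ← map_mul,
    ← map_inv, ← map_mul, hH.mem_st_iff hp hc, Subgroup.coe_mul, Subgroup.coe_inv,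
    Subgroup.coe_mul, mul_smul ((m : G) * (n : G))⁻¹, inv_smul_eq_iff, mul_smul, eq_comm]

theorem Hyp.locPt_eq_iff {M : Subgroup G} (hp : Core.HasPair M) {c : G ⧸ H} (hc : Centre M c)
    {n k : M} : locPt M c n = locPt M c k ↔ (n : G) • c = (k : G) • c := by
  have h := hH.smul_locPt_iff hp hc (m := 1) (n := n) (k := k)
  rwa [map_one, one_smul, Subgroup.coe_one, one_smul] at h

/-- The centres of `M` form one orbit. -/
theorem Hyp.exists_of_centre {M : Subgroup G} {c d : G ⧸ H} (hc : Centre M c)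
    (hMc : ¬ M ≤ st c) (hd : Centre M d) : ∃ m : M, (m : G) • c = d := by
  obtain ⟨t, ht, htc⟩ := id hc
  obtain ⟨s, hs, hsd⟩ := hd
  obtain ⟨g, hg⟩ := isConj_iff.1 (StrongEmbed.isConj_of_invols (hH.se_sub hc hMc)
    (a := (⟨t, ht⟩ : M)) (b := ⟨s, hs⟩) (by rw [Subgroup.orderOf_mk, htc.1])
    (by rw [Subgroup.orderOf_mk, hsd.1]))
  have hg' : (g : G) * t * (g : G)⁻¹ = s := congrArg Subtype.val hg
  refine ⟨g, hH.centre_unique hsd ?_⟩
  rw [← hg']
  exact (htc.smul (g : G)).2

/-- The quotient by the odd core has the hypotheses of the commuting branch. -/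
theorem Hyp.loc_hyp {M : Subgroup G} (hM : M ≠ ⊤) (hp : Core.HasPair M) {c : G ⧸ H}
    (hc : Centre M c) (hMc : ¬ M ≤ st c) : Commuting.Hyp (locSt M c) := by
  obtain ⟨t, ht, ht2, htc⟩ := id hc
  have hse : Cfsg.IsStronglyEmbedded (locSt M c) := by
    refine ⟨fun h => hMc fun x hx => ?_, ?_, fun g hg => ?_⟩
    · exact (hH.mem_st_iff hp hc (m := ⟨x, hx⟩)).1 (h ▸ mem_top _)
    · have h2 : orderOf (proj M ⟨t, ht⟩) ∣ Nat.card (locSt M c) :=
        Subgroup.orderOf_dvd_natCard _ ⟨⟨t, ht⟩, htc, rfl⟩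
      have h3 : orderOf (proj M ⟨t, ht⟩) = 2 := proj_invol (t := ⟨t, ht⟩) ht2
      exact even_iff_two_dvd.2 ((dvd_of_eq h3.symm).trans h2)
    · obtain ⟨m, rfl⟩ := QuotientGroup.mk'_surjective (Cfsg.oddCore M) g
      have hmc : (m : G) • c ≠ c := fun h => hg ((hH.mem_st_iff hp hc).2 h)
      have hodd : Odd (Nat.card ↥((st c ⊓ st ((m : G) • c)).subgroupOf M)) := by
        refine (hH.odd_pair hmc.symm).of_dvd_nat ?_
        rw [← card_map_of_injective M.subtype_injective]
        exact card_dvd_of_le (map_comap_le _ _)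
      refine hodd.of_dvd_nat
        (dvd_trans (card_dvd_of_le ?_) (card_map_dvd ((st c ⊓ st ((m : G) • c)).subgroupOf M) (proj M)))
      intro x hx
      obtain ⟨k, rfl⟩ := QuotientGroup.mk'_surjective (Cfsg.oddCore M) x
      obtain ⟨h1, y, hy, hyk⟩ := hx
      refine ⟨k, ⟨(hH.mem_st_iff hp hc).1 h1, ?_⟩, rfl⟩
      have e : proj M (m⁻¹ * k * m) = y := by
        rw [map_mul, map_mul, map_inv, ← hyk]
        simp [mul_assoc]
      have h2 : ((m⁻¹ * k * m : M) : G) • c = c := (hH.mem_st_iff hp hc).1 (e ▸ hy)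
      rw [Subgroup.coe_mul, Subgroup.coe_mul, Subgroup.coe_inv, mul_smul, mul_smul,
        inv_smul_eq_iff] at h2
      exact h2
  have hpr : PairRank (M ⧸ Cfsg.oddCore M) := by
    obtain ⟨z, hz, hz2, hzt, hcz⟩ := hp.exists_partner ht ht2
    refine ⟨proj M ⟨t, ht⟩, proj M ⟨z, hz⟩, proj_invol ht2, proj_invol hz2, fun h => ?_,
      (show Commute (⟨t, ht⟩ : M) ⟨z, hz⟩ from Subtype.ext hcz).map _⟩
    have h1 := IsoApps.odd_of_mem_oddCore (QuotientGroup.eq.1 h)
    rw [← Subgroup.orderOf_coe, Subgroup.coe_mul, Subgroup.coe_inv, Invol.inv_eq_self ht2,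
      Invol.orderOf_eq_two ?_ fun h' => hzt ?_] at h1
    · exact absurd h1 (by decide)
    · rw [hcz.symm.mul_mul_mul_comm, Invol.mul_self_eq_one ht2, Invol.mul_self_eq_one hz2, one_mul]
    · have h2 : t = z := by rw [eq_inv_of_mul_eq_one_left h', Invol.inv_eq_self hz2]
      exact h2.symm
  exact ⟨hse, hpr, LocalB.oddCore_quotient,
    hH.comm _ (hH.card_loc_lt hM) _ hse LocalB.oddCore_quotient hpr⟩

/-- The quotient by the odd core has a regular normal 2-subgroup in its point stabilizer. -/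
theorem Hyp.loc_shape {M : Subgroup G} (hM : M ≠ ⊤) (hp : Core.HasPair M) {c : G ⧸ H}
    (hc : Centre M c) (hMc : ¬ M ≤ st c) : Commuting.Shape (locSt M c) :=
  hH.shape _ (hH.card_loc_lt hM) _ (hH.loc_hyp hM hp hc hMc)

end Hyp

end CfsgLib.Bender.NC
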