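import Cfsg.Agent.Bender.NC.WDefs
import Cfsg.Agent.Bender.NC.Local
import Cfsg.Agent.Coprime.Sylow

/-!
Bender's theorem, noncommuting branch, the case in which swappers invert `W`: an element of odd
order fixing the point of an involution and a second point is not inverted by it.
-/

set_option autoImplicit false
set_option linter.unusedSectionVars false
set_option linter.style.haveILetI false

namespace CfsgLib.Bender.NC

open Subgroup
open CfsgLib.FusionLift (cj mem_cj card_cj)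
open CfsgLib.Bender.GSide

universe u

variable {G : Type u} [Group G] [Finite G] {H : Subgroup G}

theorem inverted_commutator {v x : G} (hv : orderOf v = 2) :
    v * (x⁻¹ * (v * x * v⁻¹)) * v⁻¹ = (x⁻¹ * (v * x * v⁻¹))⁻¹ := by
  rw [mul_inv_rev, inv_inv, mul_inv_rev, mul_inv_rev, inv_inv, Invol.inv_eq_self hv]
  calc v * (x⁻¹ * (v * x * v)) * v = v * x⁻¹ * v * x * (v * v) := by group
    _ = v * (x⁻¹ * v) * x := by rw [Invol.mul_self_eq_one hv]; group

/-- An involution centralizes the `r`-subgroups it normalizes that fix its point. -/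
theorem RealFreeAt.centralizes {r : ℕ} (h : RealFreeAt H r) {S : Subgroup G} (hS : IsPGroup r S)
    {c : G ⧸ H} (hSc : S ≤ st c) {v : G} (hv : InvAt c v)
    (hvS : v ∈ normalizer (S : Set G)) : v ∈ centralizer (S : Set G) := by
  refine mem_centralizer_iff.2 fun x hx => ?_
  have hy : x⁻¹ * (v * x * v⁻¹) ∈ S := mul_mem (inv_mem hx) ((mem_normalizer_iff.1 hvS x).1 hx)
  obtain ⟨k, hk⟩ := hS ⟨_, hy⟩
  have h1 := h c v _ hv (hSc hy) ⟨k, congrArg Subtype.val hk⟩ (inverted_commutator hv.1)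
  rw [inv_mul_eq_one] at h1
  exact mul_inv_eq_iff_eq_mul.1 h1.symm |>.symm

/-- An involution normalizing a subgroup of odd order fixing its point centralizes a conjugate of
each `r`-subgroup in it. -/
theorem RealFreeAt.exists_centralized {r : ℕ} [Fact r.Prime] (h : RealFreeAt H r)
    {A W : Subgroup G} (hA : Odd (Nat.card A)) {c : G ⧸ H} (hAc : A ≤ st c) {v : G} (hv : InvAt c v)
    (hvA : v ∈ normalizer (A : Set G)) (hW : IsPGroup r W) (hWA : W ≤ A) :
    ∃ g ∈ A, ∀ w ∈ W, Commute v (g * w * g⁻¹) := by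
  have hcop : (Nat.card (zpowers v)).Coprime (Nat.card A) := by
    rw [Nat.card_zpowers, hv.1]; exact Nat.coprime_two_left.2 hA
  obtain ⟨P, hP⟩ := CoprimeAct.exists_invariant_sylow (zpowers_le.2 hvA) hcop
    (Or.inr (OddEnd.odd_solvable A hA)) r
  obtain ⟨Q, hQ⟩ := IsPGroup.exists_le_sylow (P := W.subgroupOf A)
    (hW.of_equiv (subgroupOfEquivOfLe hWA).symm)
  obtain ⟨g, hg⟩ := MulAction.exists_smul_eq A Q P
  have hvP : v ∈ centralizer ((P : Subgroup A).map A.subtype : Set G) :=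
    h.centralizes (P.isPGroup'.map _) ((map_subtype_le _).trans hAc) hv (hP (mem_zpowers v))
  refine ⟨g, g.2, fun w hw => (mem_centralizer_iff.1 hvP _ ?_).symm⟩
  refine ⟨g * ⟨w, hWA hw⟩ * g⁻¹, ?_, rfl⟩
  rw [← hg]
  exact Subgroup.smul_mem_pointwise_smul _ (MulAut.conj g) _ (hQ (show (⟨w, hWA hw⟩ : A) ∈ _ from hw))

/-- An element inverted by a swapper centralizes a subgroup inverted by all swappers. -/
theorem commute_of_inverted (hH : Hyp H) {a b : G ⧸ H} (hab : a ≠ b) {u x : G} (hu : Swap a b u)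
    (hx : Inverted a b u x) {W : Subgroup G}
    (hW : ∀ v, Swap a b v → ∀ w ∈ W, v * w * v⁻¹ = w⁻¹) {w : G} (hw : w ∈ W) : Commute x w := by
  have h1 := hW _ (hH.swap_mul hab hu hx) w hw
  rw [show x * u * w * (x * u)⁻¹ = x * (u * w * u⁻¹) * x⁻¹ by group, hW u hu w hw,
    ← conj_inv, inv_inj, mul_inv_eq_iff_eq_mul] at h1
  exact h1

section Hyp

variable (hH : Hyp H) {r : ℕ} (hα : Alpha H r)
include hH hα

/-- An element centralizing `W` is not inverted by an involution at the first point. -/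
theorem Hyp.eq_one_of_inverted_at {a b : G ⧸ H} {W : Subgroup G} (hW : Good H r a b W) {x t : G}
    (hx : x ∈ st a ⊓ st b) (hxW : ∀ w ∈ W, Commute x w) (ht : InvAt a t)
    (hinv : t * x * t⁻¹ = x⁻¹) : x = 1 := by
  by_contra hx1
  haveI : Fact r.Prime := ⟨hW.prime⟩
  have hodd := hH.odd_of_mem hW.ne hx
  have hne : b ≠ t • b := fun h => hW.ne (hH.centre_unique ht h.symm).symm
  have hswap : Swap b (t • b) t := ⟨ht.1, rfl⟩
  have hxb' : x • t • b = t • b := by
    have h1 : x⁻¹ • b = b := inv_smul_eq_iff.2 (hx.2 : x • b = b).symm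
    rw [← hinv, mul_smul, mul_smul, smul_eq_iff_eq_inv_smul, Invol.inv_eq_self ht.1] at h1
    exact h1
  obtain ⟨W', hW', hW'i⟩ := hα b (t • b) hne
  have hxW' : ∀ w ∈ W', Commute x w := fun w hw =>
    commute_of_inverted hH hne hswap ⟨mem_inf.2 ⟨hx.2, hxb'⟩, hinv⟩ hW'i hw
  have hno : ∀ z : G, orderOf z = 2 → ¬ Commute z x := by
    intro z hz hzx
    obtain ⟨c, hc⟩ := StrongEmbed.exists_fix hH.se hz
    obtain ⟨hN, htc⟩ := hH.normalizer_le_of_inverted hodd hx1 ht.1 hinv ⟨hz, hc⟩ hzx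
    obtain rfl := hH.centre_unique ht htc
    have hle : W' ≤ st c := fun w hw => hN (centralizer_le_normalizer _ (by
      rw [mem_centralizer_iff]
      rintro _ ⟨i, rfl⟩
      exact ((hxW' w hw).zpow_left i).eq))
    rcases hW'.fix c hle with h | h
    · exact hW.ne h
    · exact hW.ne (MulAction.injective t (ht.2.trans h))
  set A := centralizer ({x} : Set G) ⊓ st a with hA
  have hAodd : Odd (Nat.card A) := by
    by_contra hev
    obtain ⟨z, hz⟩ := exists_prime_orderOf_dvd_card' (G := A) 2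
      (even_iff_two_dvd.1 (Nat.not_odd_iff_even.1 hev))
    rw [← Subgroup.orderOf_coe] at hz
    exact hno _ hz (mem_centralizer_singleton_iff.1 z.2.1)
  have htA : t ∈ normalizer (A : Set G) := by
    refine mem_norm_iff.2 (cj_eq_of_le ?_ le_rfl)
    rintro _ ⟨y, ⟨hy1, hy2⟩, rfl⟩
    refine ⟨mem_centralizer_singleton_iff.2 ?_, ?_⟩
    · have h1 : Commute y x⁻¹ := (show Commute y x from mem_centralizer_singleton_iff.1 hy1).inv_right
      have h2 := h1.map (MulAut.conj t).toMonoidHom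
      have h3 : t * x⁻¹ * t⁻¹ = x := by rw [← conj_inv, hinv, inv_inv]
      have h4 : Commute (t * y * t⁻¹) (t * x⁻¹ * t⁻¹) := h2
      rw [h3] at h4
      exact h4
    · show (t * y * t⁻¹) • a = a
      rw [mul_smul, mul_smul, inv_smul_eq_iff.2 ht.2.symm, show y • a = a from hy2, ht.2]
  have hWA : W ≤ A := le_inf
    (fun w hw => mem_centralizer_singleton_iff.2 (hxW w hw).eq.symm)
    (hW.le.trans inf_le_left)
  obtain ⟨g, -, hg⟩ := hW.realFree.exists_centralized hAodd inf_le_right ht htA hW.isPGroup hWA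
  refine hW.no_invol (g⁻¹ * t * g) (by
    have h1 := Invol.orderOf_conj_eq g⁻¹ t
    rw [inv_inv] at h1
    rw [h1, ht.1]) (mem_centralizer_iff.2 fun w hw => ?_)
  calc w * (g⁻¹ * t * g) = g⁻¹ * (g * w * g⁻¹ * t) * g := by group
    _ = g⁻¹ * (t * (g * w * g⁻¹)) * g := by rw [(hg w hw).eq]
    _ = g⁻¹ * t * g * w := by group

/-- An element of odd order fixing two points is not inverted by an involution at one of them. -/
theorem Hyp.eq_one_of_inverted_fix {c d : G ⧸ H} (hcd : c ≠ d) {x v : G} (hxc : x • c = c)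
    (hxd : x • d = d) (hv : InvAt c v) (hinv : v * x * v⁻¹ = x⁻¹) : x = 1 := by
  by_contra hx1
  have hne : d ≠ v • d := fun h => hcd (hH.centre_unique hv h.symm).symm
  have hfix : ∀ q : G ⧸ H, x • q = q → x • v • q = v • q := fun q hq => by
    have h1 : x⁻¹ • q = q := inv_smul_eq_iff.2 hq.symm
    rw [← hinv, mul_smul, mul_smul, smul_eq_iff_eq_inv_smul, Invol.inv_eq_self hv.1] at h1
    exact h1
  obtain ⟨W', hW', hW'i⟩ := hα d (v • d) hne
  have hxW' : ∀ w ∈ W', Commute x w := fun w hw =>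
    commute_of_inverted hH hne ⟨hv.1, rfl⟩ ⟨mem_inf.2 ⟨hxd, hfix d hxd⟩, hinv⟩ hW'i hw
  obtain ⟨w, hw, hwc⟩ : ∃ w ∈ W', w • c ≠ c := by
    by_contra hcon
    push Not at hcon
    rcases hW'.fix c hcon with h | h
    · exact hcd h
    · exact hcd (MulAction.injective v (hv.2.trans h))
  have hxp : x • w • c = w • c := by rw [smul_smul, (hxW' w hw).eq, mul_smul, hxc]
  have hp : InvAt (w • c) (w * v * w⁻¹) := hv.smul w
  have hne2 : w • c ≠ v • w • c := fun h => hwc (hH.centre_unique hv h.symm)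
  obtain ⟨W'', hW'', hW''i⟩ := hα (w • c) (v • w • c) hne2
  have hmem : x ∈ st (w • c) ⊓ st (v • w • c) := mem_inf.2 ⟨hxp, hfix _ hxp⟩
  refine hx1 (hH.eq_one_of_inverted_at hα hW'' hmem
    (fun y hy => commute_of_inverted hH hne2 ⟨hv.1, rfl⟩ ⟨hmem, hinv⟩ hW''i hy) hp ?_)
  have hc1 : Commute w x := (hxW' w hw).symm
  calc w * v * w⁻¹ * x * (w * v * w⁻¹)⁻¹ = w * v * (w⁻¹ * x * w) * v⁻¹ * w⁻¹ := by group
    _ = w * (v * x * v⁻¹) * w⁻¹ := by
        rw [show w⁻¹ * x * w = x by rw [mul_assoc, ← hc1.eq, inv_mul_cancel_left]]; group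
    _ = x⁻¹ := by rw [hinv, hc1.inv_right.eq, mul_inv_cancel_right]

/-- In a subgroup with commuting involutions these centralize its odd core. -/
theorem Hyp.commute_core {M : Subgroup G} (hp : Core.HasPair M) {c : G ⧸ H}
    (hc : Centre M c) (hMc : ¬ M ≤ st c) {v o : G} (hvM : v ∈ M) (hv : orderOf v = 2)
    (ho : o ∈ (Cfsg.oddCore M).map M.subtype) : Commute v o := by
  obtain ⟨p, hp'⟩ := StrongEmbed.exists_fix hH.se hv
  have hcp : Centre M p := ⟨v, hvM, hv, hp'⟩
  obtain ⟨q, hq, hqp⟩ : ∃ q, Centre M q ∧ p ≠ q := by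
    by_cases h : p = c
    · obtain ⟨m, hm, hmc⟩ := SetLike.not_le_iff_exists.1 hMc
      exact ⟨m • c, hc.smul hm, fun e => hmc (e.symm.trans h)⟩
    · exact ⟨c, hc, h⟩
  have hy : o⁻¹ * (v * o * v⁻¹) ∈ (Cfsg.oddCore M).map M.subtype :=
    mul_mem (inv_mem ho) ((mem_normalizer_iff.1 (le_normalizer_core M hvM) o).1 ho)
  have h1 := hH.eq_one_of_inverted_fix hα hqp (hH.oddCore_fix hp hcp hy)
    (hH.oddCore_fix hp hq hy) ⟨hv, hp'⟩ (inverted_commutator hv)
  rw [inv_mul_eq_one] at h1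
  exact mul_inv_eq_iff_eq_mul.1 h1.symm

/-- Involutions in one coset of the odd core are equal. -/
theorem Hyp.eq_of_proj_eq {M : Subgroup G} (hp : Core.HasPair M) {c : G ⧸ H}
    (hc : Centre M c) (hMc : ¬ M ≤ st c) {v w : M} (hv : orderOf (v : G) = 2)
    (hw : orderOf (w : G) = 2) (h : proj M v = proj M w) : v = w := by
  have ho : v⁻¹ * w ∈ Cfsg.oddCore M := QuotientGroup.eq.1 h
  set o : G := (v : G)⁻¹ * w with hodef
  have hcm : Commute (v : G) o := hH.commute_core hα hp hc hMc v.2 hv ⟨_, ho, rfl⟩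
  have h2 : o * o = 1 := by
    have e : (w : G) = v * o := by rw [hodef, mul_inv_cancel_left]
    have h3 := Invol.mul_self_eq_one hw
    rw [e, hcm.symm.mul_mul_mul_comm, Invol.mul_self_eq_one hv, one_mul] at h3
    exact h3
  obtain ⟨l, hl⟩ := IsoApps.odd_of_mem_oddCore ho
  have h4 := pow_orderOf_eq_one (v⁻¹ * w)
  rw [hl, pow_succ, pow_mul, show (v⁻¹ * w) ^ 2 = 1 from Subtype.ext (by rw [sq]; exact h2),
    one_pow, one_mul, inv_mul_eq_one] at h4
  exact h4

/-- A Sylow subgroup, for a prime dividing the number of involutions, is normalized by no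
involution at the first point. -/
theorem Hyp.not_mem_normalizer {q : ℕ} [Fact q.Prime] (hq : q ∣ Commuting.numInv H) {a b : G ⧸ H}
    (hab : a ≠ b) {R : Subgroup G} (hR : Syl q (st a ⊓ st b) R) {t : G} (ht : InvAt a t) :
    t ∉ normalizer (R : Set G) := by
  intro htR
  have htc : ∀ x ∈ R, Commute t x := by
    intro x hx
    have hy : x⁻¹ * (t * x * t⁻¹) ∈ R := mul_mem (inv_mem hx) ((mem_normalizer_iff.1 htR x).1 hx)
    have h1 := hH.eq_one_of_inverted_fix hα hab (hR.1 hy).1 (hR.1 hy).2 ht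
      (inverted_commutator ht.1)
    rw [inv_mul_eq_one] at h1
    exact mul_inv_eq_iff_eq_mul.1 h1.symm
  have h := card_orbit_mul (st a ⊓ st b) t (fun x => orderOf x = 2 ∧ x • a = a) fun x =>
    ⟨fun hx => (transOdd_pair hH.se hab).2.2 t x ht.2 ht.1 hx.2 hx.1, by
      rintro ⟨k, hk, rfl⟩
      have h := ht.smul k
      rwa [show k • a = a from hk.1] at h⟩
  rw [StrongEmbed.card_fix a, show Nat.card {t : G // orderOf t = 2 ∧ t ∈ H} =
    Commuting.numInv H from rfl] at h
  have hle : R ≤ centralizer ({t} : Set G) ⊓ (st a ⊓ st b) :=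
    le_inf (fun x hx => mem_centralizer_singleton_iff.2 (htc x hx).eq.symm) hR.1
  refine syl_not_dvd hR ?_
  obtain ⟨e, he⟩ := card_dvd_of_le hle
  have h1 : R.relIndex (st a ⊓ st b) * Nat.card R = Nat.card ↥(st a ⊓ st b) := by
    rw [← relIndex_bot_left R, ← relIndex_bot_left (st a ⊓ st b), mul_comm]
    exact relIndex_mul_relIndex ⊥ R _ bot_le hR.1
  obtain ⟨l, hl⟩ := hq
  refine ⟨l * e, Nat.eq_of_mul_eq_mul_right (Nat.card_pos (α := R)) ?_⟩
  rw [h1, ← h, he, hl]
  ring

/-- Without commuting involutions no subgroup contains `W`, its swapper and an involution at the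
first point. -/
theorem Hyp.false_of_not_pair {a b : G ⧸ H} {W : Subgroup G} (hW : Good H r a b W)
    (hinv : ∀ v, Swap a b v → ∀ w ∈ W, v * w * v⁻¹ = w⁻¹) {M : Subgroup G}
    (hp : ¬ Core.HasPair M) (hWM : W ≤ M) {u t : G} (hu : Swap a b u) (huM : u ∈ M)
    (ht : InvAt a t) (htM : t ∈ M) : False := by
  haveI : Fact r.Prime := ⟨hW.prime⟩
  set O := (Cfsg.oddCore M).map M.subtype with hO
  have hWO : W ≤ O := fun w hw => mem_oddCore_of_not_pair hp huM hu.1 (hWM hw)
    (hH.odd_of_mem hW.ne (hW.le hw)) (hinv u hu w hw)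
  have htA : t ∈ normalizer ((O ⊓ st a : Subgroup G) : Set G) := by
    refine mem_norm_iff.2 (cj_eq_of_le ?_ le_rfl)
    rintro _ ⟨y, ⟨hy1, hy2⟩, rfl⟩
    refine ⟨(mem_normalizer_iff.1 (le_normalizer_core M htM) y).1 hy1, ?_⟩
    show (t * y * t⁻¹) • a = a
    rw [mul_smul, mul_smul, inv_smul_eq_iff.2 ht.2.symm, show y • a = a from hy2, ht.2]
  obtain ⟨g, -, hg⟩ := hW.realFree.exists_centralized
    ((odd_core M).of_dvd_nat (card_dvd_of_le inf_le_left)) inf_le_right ht htA hW.isPGroup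
    (le_inf hWO (hW.le.trans inf_le_left))
  refine hW.no_invol (g⁻¹ * t * g) (by
    have h1 := Invol.orderOf_conj_eq g⁻¹ t
    rw [inv_inv] at h1
    rw [h1, ht.1]) (mem_centralizer_iff.2 fun w hw => ?_)
  calc w * (g⁻¹ * t * g) = g⁻¹ * (g * w * g⁻¹ * t) * g := by group
    _ = g⁻¹ * (t * (g * w * g⁻¹)) * g := by rw [(hg w hw).eq]
    _ = g⁻¹ * t * g * w := by group

end Hyp

end CfsgLib.Bender.NC
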