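import Cfsg.Agent.Bender.NC.WDefs
import Cfsg.Agent.Bender.NC.Local
import Cfsg.Agent.Bender.NC.Pairing
import Cfsg.Agent.Bender.NC.Apply
import Cfsg.Agent.Bender.NC.Inverted

/-!
Bender's theorem, noncommuting branch, the case in which the swapper `u` fixes a nontrivial element
of the span `U` of `W` and its conjugate under `u`: in the normalizer `M` of the fixed subgroup all
involutions centralize the odd core, so the special involution of `M / O(M)` lifts to an involution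
with the centralizer of `u` in the two-point stabilizer, and the parity lemma applies.
-/

set_option autoImplicit false
set_option linter.unusedSectionVars false
set_option linter.style.haveILetI false

namespace CfsgLib.Bender.NC

open Subgroup
open CfsgLib.FusionLift (cj mem_cj card_cj)
open CfsgLib.Bender.GSide

universe u

variable {G : Type u} [Group G] [Finite G] {H : Subgroup G}

/-- An involution stabilizing a chain `O ≥ Z ≥ 1` of odd order centralizes `O`. -/
theorem commute_of_chain {O Z : Subgroup G} (hZO : Z ≤ O) (hO : Odd (Nat.card O)) {v : G}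
    (hv : orderOf v = 2) (hvZ : ∀ z ∈ Z, Commute v z) {o : G}
    (h : v * o * v⁻¹ * o⁻¹ ∈ Z) : Commute v o := by
  set z := v * o * v⁻¹ * o⁻¹ with hz
  have h1 : v * z * v⁻¹ = z⁻¹ := by
    rw [hz, mul_inv_rev, mul_inv_rev, mul_inv_rev, inv_inv, inv_inv, Invol.inv_eq_self hv]
    calc v * (v * o * v * o⁻¹) * v = v * v * (o * (v * (o⁻¹ * v))) := by group
      _ = o * (v * (o⁻¹ * v)) := by rw [Invol.mul_self_eq_one hv, one_mul]
  have h2 : z = 1 :=
    eq_one_of_inverted (hO.of_dvd_nat (Subgroup.orderOf_dvd_natCard O (hZO h))) h1 (hvZ z h)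
  rw [hz, mul_inv_eq_one] at h2
  exact mul_inv_eq_iff_eq_mul.1 h2

/-- Two involutions differing by an element of odd order centralized by one of them are equal. -/
theorem eq_of_commute_quot {v w : G} (hv : orderOf v = 2) (hw : orderOf w = 2)
    (hodd : Odd (orderOf (v⁻¹ * w))) (hc : Commute v (v⁻¹ * w)) : v = w := by
  set o := v⁻¹ * w with ho
  have h2 : o ^ 2 = 1 := by
    have h3 := Invol.mul_self_eq_one hw
    have e : w = v * o := by rw [ho, mul_inv_cancel_left]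
    rw [e, hc.symm.mul_mul_mul_comm, Invol.mul_self_eq_one hv, one_mul] at h3
    rw [sq]; exact h3
  obtain ⟨l, hl⟩ := hodd
  have h4 := pow_orderOf_eq_one o
  rw [hl, pow_succ, pow_mul, h2, one_pow, one_mul, ho, inv_mul_eq_one] at h4
  exact h4

/-- An involution at `a` centralized by the common centralizer of a swapper and the two-point
stabilizer, in a group with the shape of the commuting branch. -/
theorem exists_special_invol (hse : Cfsg.IsStronglyEmbedded H) (hS : Commuting.Shape H)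
    {a b : G ⧸ H} (hab : a ≠ b) {u : G} (hu : Swap a b u) :
    ∃ s, InvAt a s ∧ ∀ x : G, x • a = a → x • b = b → Commute x u → Commute x s := by
  obtain ⟨e, he⟩ := StrongEmbed.exists_fix hse hu.1
  have hea : e ≠ a := fun h => hab (by rw [← hu.2, ← h, he])
  obtain ⟨T, hTa, hnorm, hT2, htr⟩ := shape_at hS a
  obtain ⟨w, hw, hwb⟩ := htr b e hab.symm hea
  have hub : u • b = a := GSide.swap_back hu.1 hu.2
  have hwe : w⁻¹ • e = b := inv_smul_eq_iff.2 hwb.symm
  refine ⟨u * (w⁻¹ * u * w⁻¹⁻¹) * u⁻¹, ?_, fun x hxa hxb hxu => ?_⟩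
  · have h := ((show InvAt e u from ⟨hu.1, he⟩).smul w⁻¹).smul u
    rwa [hwe, hub] at h
  have hxe : x • e = e :=
    StrongEmbed.fix_unique hse hu.1 (by rw [smul_smul, ← hxu.eq, mul_smul, he]) he
  have hxw : x * w * x⁻¹ = w := by
    have hy : w⁻¹ * (x * w * x⁻¹) ∈ T := mul_mem (inv_mem hw) (hnorm x hxa w hw)
    have hfb : (w⁻¹ * (x * w * x⁻¹)) • b = b := by
      rw [mul_smul, mul_smul, mul_smul, inv_smul_eq_iff.2 hxb.symm, hwb, hxe, hwe]
    obtain ⟨i, hi⟩ := hT2 ⟨_, hy⟩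
    have hodd := (odd_pair hse hab).of_dvd_nat
      (Subgroup.orderOf_dvd_natCard (st a ⊓ st b) (⟨hTa hy, hfb⟩ : _ ∈ st a ⊓ st b))
    have h1 : w⁻¹ * (x * w * x⁻¹) = 1 := orderOf_eq_one_iff.1
      (Nat.eq_one_of_dvd_coprimes ((Nat.coprime_two_left.2 hodd).pow_left i)
        (orderOf_dvd_of_pow_eq_one (congrArg Subtype.val hi)) dvd_rfl)
    exact (inv_mul_eq_one.1 h1).symm
  have hxw' : Commute x w := mul_inv_eq_iff_eq_mul.1 hxw
  exact (hxu.mul_right ((hxw'.inv_right.mul_right hxu).mul_right hxw'.inv_right.inv_right)).mul_right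
    hxu.inv_right

section Hyp

variable (hH : Hyp H)
include hH

/-- Without commuting involutions a subgroup with `W` in its odd core has no involution at `a`. -/
theorem Hyp.false_of_le_core {r : ℕ} {a b : G ⧸ H} {W : Subgroup G} (hW : Good H r a b W)
    {M : Subgroup G} (hWO : W ≤ (Cfsg.oddCore M).map M.subtype) {t : G} (ht : InvAt a t)
    (htM : t ∈ M) : False := by
  haveI : Fact r.Prime := ⟨hW.prime⟩
  set O := (Cfsg.oddCore M).map M.subtype with hO
  have htA : t ∈ normalizer ((O ⊓ st a : Subgroup G) : Set G) := by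
    refine mem_norm_iff.2 (cj_eq_of_le ?_ le_rfl)
    rintro _ ⟨y, ⟨hy1, hy2⟩, rfl⟩
    refine ⟨(mem_normalizer_iff.1 (le_normalizer_core M htM) y).1 hy1, ?_⟩
    show (t * y * t⁻¹) • a = a
    rw [mul_smul, mul_smul, inv_smul_eq_iff.2 ht.2.symm, show y • a = a from hy2, ht.2]
  obtain ⟨g, -, hg⟩ := hW.realFree.exists_centralized
    ((odd_core M).of_dvd_nat (card_dvd_of_le inf_le_left)) inf_le_right ht htA hW.isPGroup
    (le_inf hWO (hW.le.trans inf_le_left))
  refine hW.no_invol (g⁻¹ * t * g) (by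
    have h1 := Invol.orderOf_conj_eq g⁻¹ t
    rw [inv_inv] at h1
    rw [h1, ht.1]) (mem_centralizer_iff.2 fun w hw => ?_)
  calc w * (g⁻¹ * t * g) = g⁻¹ * (g * w * g⁻¹ * t) * g := by group
    _ = g⁻¹ * (t * (g * w * g⁻¹)) * g := by rw [(hg w hw).eq]
    _ = g⁻¹ * t * g * w := by group

/-- The case in which the swapper does not invert `W`. The argument `hTR` is the statement that a
Sylow subgroup of the centralizer of the swapper centralizes an involution at `a`. -/
theorem Hyp.invComm_of_beta {r : ℕ} {a b : G ⧸ H} {W : Subgroup G} (hW : Good H r a b W) {u : G}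
    (hu : Swap a b u) (hne : ∃ w ∈ W, u * w * u⁻¹ ≠ w⁻¹)
    (hTR : ∀ Q : Subgroup G, Syl r (centralizer ({u} : Set G) ⊓ (st a ⊓ st b)) Q →
      ∃ t, InvAt a t ∧ t ∈ centralizer (Q : Set G)) :
    Core.CSix.InvolComm H := by
  classical
  haveI : Fact r.Prime := ⟨hW.prime⟩
  have hab : a ≠ b := hW.ne
  set D := st a ⊓ st b with hD
  have hui : u⁻¹ = u := Invol.inv_eq_self hu.1
  obtain ⟨e, he⟩ := StrongEmbed.exists_fix hH.se hu.1
  -- the span `U` of `W` and its conjugate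
  set W' := cj u W with hW'
  have hW'g : Good H r b a W' := by
    have h := hW.smul u
    rwa [hu.2, hu.symm.2] at h
  have hW'D : W' ≤ D := hW'g.le.trans (inf_comm _ _).le
  have hW'n : D ≤ normalizer (W' : Set G) := (inf_comm _ _).le.trans hW'g.normal
  have hWW' : W' ≤ centralizer (W : Set G) := by
    by_cases hbot : W ⊓ W' = ⊥
    · intro x hx
      refine mem_centralizer_iff.2 fun w hw => ?_
      have h1 : w * x * w⁻¹ * x⁻¹ ∈ W ⊓ W' := by
        have h2 : w * x * w⁻¹ * x⁻¹ ∈ W' :=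
          mul_mem ((mem_normalizer_iff.1 (hW'n (hW.le hw)) x).1 hx) (inv_mem hx)
        refine ⟨?_, h2⟩
        rw [mul_assoc, mul_assoc, ← mul_assoc x]
        exact mul_mem hw ((mem_normalizer_iff.1 (hW.normal (hW'D hx)) _).1 (inv_mem hw))
      rw [hbot, mem_bot, mul_inv_eq_one, mul_inv_eq_iff_eq_mul] at h1
      exact h1
    · have h1 : W ⊓ W' = W := hW.minimal _ inf_le_left hbot fun d hd => by
        rw [mem_norm_iff]
        refine cj_eq_of_le (cj_le_iff.2 fun x hx => ⟨?_, ?_⟩) le_rfl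
        · exact (mem_normalizer_iff.1 (hW.normal hd) x).1 hx.1
        · exact (mem_normalizer_iff.1 (hW'n hd) x).1 hx.2
      have h2 : W = W' := eq_of_le_of_card_ge (inf_eq_left.1 h1) (by rw [hW', card_cj])
      rw [← h2]
      exact fun x hx => mem_centralizer_iff.2 fun w hw => hW.comm w hw x hx
  set U := W ⊔ W' with hU
  have hWW : W ≤ centralizer (W : Set G) := fun x hx =>
    mem_centralizer_iff.2 fun w hw => hW.comm w hw x hx
  have hW'W' : W' ≤ centralizer (W' : Set G) := fun x hx =>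
    mem_centralizer_iff.2 fun w hw => hW'g.comm w hw x hx
  have hUU : U ≤ centralizer (U : Set G) := sup_le
    (le_centralizer_iff.1 (sup_le hWW hWW'))
    (le_centralizer_iff.1 (sup_le (le_centralizer_iff.1 hWW') hW'W'))
  have hUc : ∀ x ∈ U, ∀ y ∈ U, Commute x y := fun x hx y hy => mem_centralizer_iff.1 (hUU hy) x hx
  have hUD : U ≤ D := sup_le hW.le hW'D
  have hUn : D ≤ normalizer (U : Set G) := fun d hd => by
    rw [mem_norm_iff]
    show (W ⊔ W').map _ = _
    rw [Subgroup.map_sup]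
    exact congrArg₂ (· ⊔ ·) (mem_norm_iff.1 (hW.normal hd)) (mem_norm_iff.1 (hW'n hd))
  have hUp : IsPGroup r U :=
    hW.isPGroup.to_sup_of_normal_left' hW'g.isPGroup (hW'D.trans hW.normal)
  have huU : ∀ x ∈ U, u * x * u⁻¹ ∈ U := by
    intro x hx
    have h : cj u U ≤ U := by
      show (W ⊔ W').map _ ≤ _
      rw [Subgroup.map_sup]
      refine sup_le le_sup_right ((show cj u W' = W from ?_).le.trans le_sup_left)
      rw [hW', cj_cj, Invol.mul_self_eq_one hu.1, cj_one]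
    exact h ⟨x, hx, rfl⟩
  have hfree : ∀ z ∈ U, u * z * u⁻¹ = z⁻¹ → z • e = e → z = 1 := fun z hz hinv hze => by
    obtain ⟨k, hk⟩ := hUp ⟨z, hz⟩
    exact hW.realFree e u z ⟨hu.1, he⟩ hze ⟨k, congrArg Subtype.val hk⟩ hinv
  -- the fixed subgroup
  set P := centralizer ({u} : Set G) ⊓ U with hP
  have hPU : P ≤ U := inf_le_right
  have hPD : P ≤ D := hPU.trans hUD
  have hmemP : ∀ x ∈ U, u * x * u⁻¹ = x → x ∈ P := fun x hx h =>
    ⟨mem_centralizer_singleton_iff.2 (mul_inv_eq_iff_eq_mul.1 h).symm, hx⟩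
  have hcj2 : ∀ x : G, u * (u * x * u⁻¹) * u⁻¹ = x := fun x => by
    calc u * (u * x * u⁻¹) * u⁻¹ = (u * u) * x * (u * u)⁻¹ := by group
      _ = x := by rw [Invol.mul_self_eq_one hu.1]; group
  have hprod : ∀ x ∈ U, x * (u * x * u⁻¹) ∈ P := fun x hx => hmemP _ (mul_mem hx (huU x hx)) (by
    rw [show u * (x * (u * x * u⁻¹)) * u⁻¹ = u * x * u⁻¹ * (u * (u * x * u⁻¹) * u⁻¹) by group,
      hcj2]
    exact (hUc _ (huU x hx) _ hx).eq)
  obtain ⟨w₀, hw₀, hw₀'⟩ := hne
  have hPne : P ≠ ⊥ := fun h => hw₀' (by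
    have h1 := hprod w₀ ((le_sup_left : W ≤ U) hw₀)
    rw [h, mem_bot] at h1
    exact eq_inv_of_mul_eq_one_right h1)
  set M := normalizer (P : Set G) with hM
  have hMtop : M ≠ ⊤ := hH.normalizer_ne_top hPne (hPD.trans inf_le_left)
  have huM : u ∈ M := mem_norm_iff.2 (cj_eq_of_le (cj_le_iff.2 fun x hx => by
    rwa [← (mem_centralizer_singleton_iff.1 hx.1), mul_inv_cancel_right]) le_rfl)
  have hUM : U ≤ M := fun x hx => centralizer_le_normalizer _
    (mem_centralizer_iff.2 fun z hz => (hUc z (hPU hz) x hx).eq)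
  obtain ⟨Q, hPQ, hQ⟩ := exists_syl (r := r) (X := P)
    (D := centralizer ({u} : Set G) ⊓ D) (inf_le_inf_left _ hUD) (hUp.to_le hPU)
  obtain ⟨t, ht, htQ⟩ := hTR Q hQ
  have htM : t ∈ M := centralizer_le_normalizer _ (centralizer_le (fun _ hz => hPQ hz) htQ)
  have hca : Centre M a := ⟨t, htM, ht⟩
  have hMa : ¬ M ≤ st a := fun h => hab ((h huM : u • a = a).symm.trans hu.2)
  set O := (Cfsg.oddCore M).map M.subtype with hO
  have hOn := le_normalizer_core M
  have hPO : P ≤ O := le_core le_normalizer le_rfl ((hH.odd_pair hab).of_dvd_nat (card_dvd_of_le hPD))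
  have hinvk : ∀ x : G, u * (x⁻¹ * (u * x * u⁻¹)) * u⁻¹ = (x⁻¹ * (u * x * u⁻¹))⁻¹ := fun x =>
    inverted_commutator hu.1
  by_cases hp : Core.HasPair M
  swap
  · exfalso
    refine hH.false_of_le_core hW (M := M) (fun x hx => ?_) ht htM
    have hxU : x ∈ U := (le_sup_left : W ≤ U) hx
    have h1 : x * (u * x * u⁻¹) ∈ O := hPO (hprod x hxU)
    have hkU : x⁻¹ * (u * x * u⁻¹) ∈ U := mul_mem (inv_mem hxU) (huU x hxU)
    have h2 : x⁻¹ * (u * x * u⁻¹) ∈ O := mem_oddCore_of_not_pair hp huM hu.1 (hUM hkU)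
      (hH.odd_of_mem hab (hUD hkU)) (hinvk x)
    have h3 : x ^ 2 ∈ O := by
      have h4 := mul_mem h1 (inv_mem h2)
      rw [show x * (u * x * u⁻¹) * (x⁻¹ * (u * x * u⁻¹))⁻¹ = x ^ 2 by rw [sq]; group] at h4
      exact h4
    obtain ⟨n, hn⟩ := exists_pow_eq_self_of_coprime (x := x) (n := 2)
      (Nat.coprime_two_left.2 (hH.odd_of_mem hab (hUD hxU)))
    exact hn ▸ pow_mem h3 n
  -- the odd core fixes all centres
  have hOfix : ∀ c : G ⧸ H, Centre M c → ∀ o ∈ O, o • c = c := fun c hc o ho =>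
    hH.oddCore_fix hp hc ho
  have hOD : O ≤ D := fun o ho =>
    ⟨hOfix a hca o ho, hu.2 ▸ hOfix (u • a) (hca.smul huM) o ho⟩
  have hUO : ∀ x ∈ U, x ∈ O → x ∈ P := by
    intro x hx hxO
    have hz : x⁻¹ * (u * x * u⁻¹) = 1 := hfree _ (mul_mem (inv_mem hx) (huU x hx)) (hinvk x)
      (hOfix e ⟨u, huM, hu.1, he⟩ _
        (mul_mem (inv_mem hxO) ((mem_normalizer_iff.1 (hOn huM) x).1 hxO)))
    exact hmemP x hx (inv_mul_eq_one.1 hz).symm
  -- the stabilizer of the chain `O ≥ P ≥ 1`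
  have hPn : ∀ g ∈ M, ∀ z ∈ P, g * z * g⁻¹ ∈ P := fun g hg z hz => (mem_normalizer_iff.1 hg z).1 hz
  let A : Subgroup G :=
    { carrier := {m | m ∈ M ∧ (∀ z ∈ P, Commute m z) ∧ ∀ o ∈ O, m * o * m⁻¹ * o⁻¹ ∈ P}
      one_mem' := ⟨one_mem _, fun z _ => Commute.one_left z, fun o _ => by simp⟩
      mul_mem' := by
        rintro m n ⟨hm, hmz, hmo⟩ ⟨hn, hnz, hno⟩
        refine ⟨mul_mem hm hn, fun z hz => (hmz z hz).mul_left (hnz z hz), fun o ho => ?_⟩
        rw [show m * n * o * (m * n)⁻¹ * o⁻¹ =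
          m * (n * o * n⁻¹ * o⁻¹) * m⁻¹ * (m * o * m⁻¹ * o⁻¹) by group]
        exact mul_mem (hPn m hm _ (hno o ho)) (hmo o ho)
      inv_mem' := by
        rintro m ⟨hm, hmz, hmo⟩
        refine ⟨inv_mem hm, fun z hz => (hmz z hz).inv_left, fun o ho => ?_⟩
        have h1 := hmo _ ((mem_normalizer_iff.1 (hOn (inv_mem hm)) o).1 ho)
        have h2 := inv_mem h1
        rwa [show (m * (m⁻¹ * o * m⁻¹⁻¹) * m⁻¹ * (m⁻¹ * o * m⁻¹⁻¹)⁻¹)⁻¹ =
          m⁻¹ * o * m⁻¹⁻¹ * o⁻¹ by group] at h2 }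
  have hAn : ∀ g ∈ M, ∀ m ∈ A, g * m * g⁻¹ ∈ A := by
    rintro g hg m ⟨hm, hmz, hmo⟩
    refine ⟨mul_mem (mul_mem hg hm) (inv_mem hg), fun z hz => ?_, fun o ho => ?_⟩
    · have h1 := Core.CSix.conj_commute (g := g) (hmz _ (hPn g⁻¹ (inv_mem hg) z hz))
      simpa [mul_assoc] using h1
    · have h1 := hPn g hg _ (hmo _ ((mem_normalizer_iff.1 (hOn (inv_mem hg)) o).1 ho))
      rwa [show g * (m * (g⁻¹ * o * g⁻¹⁻¹) * m⁻¹ * (g⁻¹ * o * g⁻¹⁻¹)⁻¹) * g⁻¹ =
        g * m * g⁻¹ * o * (g * m * g⁻¹)⁻¹ * o⁻¹ by group] at h1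
  have hAeven : ¬ Odd (Nat.card A) := by
    intro hodd
    obtain ⟨w, hw, hwu⟩ : ∃ w ∈ W, ¬ Commute u w := by
      by_contra hcon
      push Not at hcon
      exact hW.no_invol u hu.1 (mem_centralizer_iff.2 fun w hw => (hcon w hw).eq.symm)
    have hwU : w ∈ U := (le_sup_left : W ≤ U) hw
    set k := w⁻¹ * (u * w * u⁻¹) with hk
    have hkU : k ∈ U := mul_mem (inv_mem hwU) (huU w hwU)
    have hkA : k ∈ A := ⟨hUM hkU, fun z hz => hUc k hkU z (hPU hz), fun o ho => hUO _ (by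
        rw [mul_assoc, mul_assoc, ← mul_assoc o]
        exact mul_mem hkU ((mem_normalizer_iff.1 (hUn (hOD ho)) _).1 (inv_mem hkU)))
      (mul_mem ((mem_normalizer_iff.1 (hOn (hUM hkU)) o).1 ho) (inv_mem ho))⟩
    have hkO : k ∈ O := le_core (M := M) (X := A) (fun m hm => hm.1)
      (fun g hg => mem_norm_iff.2 (cj_eq_of_le (cj_le_iff.2 (hAn g hg)) le_rfl)) hodd hkA
    have hk1 := hfree k hkU (hinvk w) (hOfix e ⟨u, huM, hu.1, he⟩ k hkO)
    rw [hk, inv_mul_eq_one, eq_mul_inv_iff_mul_eq] at hk1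
    exact hwu hk1.symm
  -- all involutions of `M` centralize the odd core
  have hcen : ∀ v ∈ M, orderOf v = 2 → ∀ o ∈ O, Commute v o := by
    intro v hv hv2 o ho
    obtain ⟨i, hi⟩ := exists_prime_orderOf_dvd_card' (G := A) 2
      (even_iff_two_dvd.1 (Nat.not_odd_iff_even.1 hAeven))
    obtain ⟨g, hg⟩ := isConj_iff.1 (StrongEmbed.isConj_of_invols (hH.se_sub hca hMa)
      (a := (⟨i, i.2.1⟩ : M)) (b := ⟨v, hv⟩)
      (by rw [Subgroup.orderOf_mk, Subgroup.orderOf_coe, hi]) (by rw [Subgroup.orderOf_mk, hv2]))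
    have hvA : v ∈ A := by
      have h1 := hAn g g.2 i i.2
      rwa [show (g : G) * i * (g : G)⁻¹ = v from congrArg Subtype.val hg] at h1
    exact commute_of_chain hPO (odd_core M) hv2 hvA.2.1 (hvA.2.2 o ho)
  -- the special involution of `M / O(M)` and its lift
  have hC := hH.loc_hyp hMtop hp hca hMa
  have hS := hH.loc_shape hMtop hp hca hMa
  have hswap : Swap (locPt M a 1) (locPt M a ⟨u, huM⟩) (proj M ⟨u, huM⟩) :=
    ⟨proj_invol hu.1, (hH.smul_locPt_iff hp hca).2 (by rw [Subgroup.coe_one, one_smul])⟩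
  have hlab : locPt M a (1 : M) ≠ locPt M a ⟨u, huM⟩ := fun h => hab (by
    have h1 := (hH.locPt_eq_iff hp hca).1 h
    rwa [Subgroup.coe_one, one_smul, Subgroup.coe_mk, hu.2] at h1)
  obtain ⟨s, hs, hsX⟩ := exists_special_invol hC.se hS hlab hswap
  obtain ⟨m, hm⟩ := QuotientGroup.mk'_surjective (Cfsg.oddCore M) s
  change proj M m = s at hm
  have hm2 : m ^ 2 ∈ Cfsg.oddCore M := by
    rw [← QuotientGroup.eq_one_iff]
    show proj M (m ^ 2) = 1
    rw [map_pow, hm, sq, Invol.mul_self_eq_one hs.1]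
  obtain ⟨l, hl⟩ := IsoApps.odd_of_mem_oddCore hm2
  set v := m ^ orderOf (m ^ 2) with hvdef
  have hvs : proj M v = s := by
    rw [hvdef, map_pow, hm, hl, pow_succ, pow_mul, sq, Invol.mul_self_eq_one hs.1, one_pow, one_mul]
  have hv2 : orderOf v = 2 := by
    refine Invol.orderOf_eq_two ?_ fun h => Invol.ne_one hs.1 (by rw [← hvs, h, map_one])
    rw [← sq, hvdef, ← pow_mul, mul_comm, pow_mul, pow_orderOf_eq_one]
  have hva : InvAt a (v : G) := by
    refine ⟨by rw [Subgroup.orderOf_coe, hv2], ?_⟩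
    have h1 := hs.2
    rw [← hvs, hH.smul_locPt_iff hp hca] at h1
    simpa using h1
  have hui' : u⁻¹ = u := hui
  have huD : u ∈ normalizer (D : Set G) := by
    refine mem_norm_iff.2 (cj_eq_of_le (cj_le_iff.2 fun x hx => ⟨?_, ?_⟩) le_rfl)
    · show (u * x * u⁻¹) • a = a
      rw [mul_smul, mul_smul, hui', hu.2, show x • b = b from hx.2, hu.symm.2]
    · show (u * x * u⁻¹) • b = b
      rw [mul_smul, mul_smul, hui', hu.symm.2, show x • a = a from hx.1, hu.2]
  refine hH.involComm_of_fixes hab hu le_rfl huD (fun x hx => hx.1) hva fun x hxD hux => ?_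
  have hxu : Commute x u := hux.symm
  have hxM : x ∈ M := mem_norm_iff.2 (cj_eq_of_le (cj_le_iff.2 fun z hz => ?_) le_rfl)
  swap
  · exact ⟨mem_centralizer_singleton_iff.2
      ((hxu.mul_left (mem_centralizer_singleton_iff.1 hz.1 : Commute z u)).mul_left hxu.inv_left).eq,
      (mem_normalizer_iff.1 (hUn hxD) z).1 hz.2⟩
  have hsx : Commute (proj M ⟨x, hxM⟩) s := hsX _
    ((hH.smul_locPt_iff hp hca).2 (by rw [Subgroup.coe_one, one_smul]; exact hxD.1))
    ((hH.smul_locPt_iff hp hca).2 (by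
      show x • u • a = u • a
      rw [hu.2]; exact hxD.2))
    ((show Commute (⟨x, hxM⟩ : M) ⟨u, huM⟩ from Subtype.ext hxu.eq).map _)
  set g : M := ⟨x, hxM⟩
  have hconj : proj M v = proj M (g * v * g⁻¹) := by
    rw [map_mul, map_mul, map_inv, hvs, hsx.eq, mul_inv_cancel_right]
  have ho : v⁻¹ * (g * v * g⁻¹) ∈ Cfsg.oddCore M := QuotientGroup.eq.1 hconj
  have heq := eq_of_commute_quot (v := (v : G)) (w := x * v * x⁻¹) hva.1
    (by rw [Invol.orderOf_conj_eq, hva.1])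
    (by
      have h1 := IsoApps.odd_of_mem_oddCore ho
      rwa [← Subgroup.orderOf_coe] at h1)
    (hcen v v.2 hva.1 _ ⟨_, ho, rfl⟩)
  exact (mul_inv_eq_iff_eq_mul.1 heq.symm).symm

end Hyp

end CfsgLib.Bender.NC
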