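import Cfsg.Agent.Bender.NC.Claim
import Cfsg.Agent.Bender.NC.Beta

/-!
Bender's theorem, noncommuting branch: conclusion of the case in which the swappers invert `W`, and
of the whole branch given the subgroup `W`.
-/

set_option autoImplicit false
set_option linter.unusedSectionVars false
set_option linter.style.haveILetI false

namespace CfsgLib.Bender.NC

open Subgroup
open CfsgLib.FusionLift (cj mem_cj card_cj)
open CfsgLib.Bender.GSide

universe u

variable {G : Type u} [Group G] [Finite G] {H : Subgroup G}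

/-- The centre of `O_q(X)` is a nontrivial abelian `q`-subgroup normalized by `X`. -/
theorem exists_abelian_normal {X : Subgroup G} (hs : Group.IsSolvable X) (hne : X ≠ ⊥) :
    ∃ (q : ℕ) (U : Subgroup G), q.Prime ∧ U ≤ X ∧ U ≠ ⊥ ∧ IsPGroup q U ∧
      (∀ x ∈ U, ∀ y ∈ U, x * y = y * x) ∧ X ≤ normalizer (U : Set G) := by
  haveI := hs
  haveI := (nontrivial_iff_ne_bot X).2 hne
  obtain ⟨q, hq, hq1⟩ := CfsgLib.Turull.exists_pCore_ne_bot hs
  haveI : Fact q.Prime := ⟨hq⟩
  set O := Cfsg.pCore q X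
  haveI hOn : O.Normal := CfsgLib.Solvable.pCore_normal q
  have hOp : IsPGroup q O := CfsgLib.Solvable.isPGroup_pCore q
  haveI := hOp.isNilpotent
  haveI := (nontrivial_iff_ne_bot O).2 hq1
  set Z := (center O).map O.subtype
  haveI hZn : Z.Normal := ConjAct.normal_of_characteristic_of_normal
  refine ⟨q, Z.map X.subtype, hq, map_subtype_le _, ?_, ?_, ?_, ?_⟩
  · rw [Ne, map_eq_bot_iff_of_injective _ X.subtype_injective,
      map_eq_bot_iff_of_injective _ O.subtype_injective]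
    exact Group.IsNilpotent.center_ne_bot O
  · exact (hOp.to_subgroup _ |>.map _).map _
  · rintro _ ⟨_, ⟨x, hx, rfl⟩, rfl⟩ _ ⟨_, ⟨y, hy, rfl⟩, rfl⟩
    rw [← map_mul, ← map_mul, ← map_mul, ← map_mul, mem_center_iff.1 hy x]
  · intro g hg
    refine mem_norm_iff.2 (cj_eq_of_le (cj_le_iff.2 ?_) le_rfl)
    rintro _ ⟨x, hx, rfl⟩
    exact ⟨_, hZn.conj_mem x hx ⟨g, hg⟩, rfl⟩

section Hyp

variable (hH : Hyp H) {r : ℕ} (hα : Alpha H r)
include hH hα

/-- The case in which the swappers invert `W`. -/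
theorem Hyp.involComm_of_alpha (hZ : ZPairStmt H) {a b : G ⧸ H} {W : Subgroup G}
    (hW : Good H r a b W)
    (hinv : ∀ v, Swap a b v → ∀ w ∈ W, v * w * v⁻¹ = w⁻¹) {u : G} (hu : Swap a b u)
    (hTR : ∀ Q : Subgroup G, Syl r (centralizer ({u} : Set G) ⊓ (st a ⊓ st b)) Q →
      ∃ t, InvAt a t ∧ t ∈ centralizer (Q : Set G)) :
    Core.CSix.InvolComm H := by
  set E := (st a ⊓ st b) ⊓ centralizer (W : Set G) with hE
  have hED : E ≤ st a ⊓ st b := inf_le_left
  have huW : u ∈ normalizer (W : Set G) := mem_norm_iff.2 (cj_eq_of_le (cj_le_iff.2 fun w hw => by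
    rw [hinv u hu w hw]; exact inv_mem hw) le_rfl)
  have huE : u ∈ normalizer (E : Set G) := by
    refine mem_norm_iff.2 (cj_eq_of_le (cj_le_iff.2 fun x hx => ?_) le_rfl)
    refine ⟨(mem_normalizer_iff.1 (hH.swap_normalizes hu) x).1 hx.1,
      mem_centralizer_iff.2 fun w hw => ?_⟩
    have hw' : u⁻¹ * w * u ∈ W := by
      have := (mem_normalizer_iff.1 (inv_mem huW) w).1 hw
      rwa [inv_inv] at this
    calc w * (u * x * u⁻¹) = u * ((u⁻¹ * w * u) * x) * u⁻¹ := by group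
      _ = u * (x * (u⁻¹ * w * u)) * u⁻¹ := by rw [mem_centralizer_iff.1 hx.2 _ hw']
      _ = u * x * u⁻¹ * w := by group
  have hJ : ∀ x, Inverted a b u x → x ∈ E := fun x hx => ⟨hx.1, mem_centralizer_iff.2 fun w hw =>
    (commute_of_inverted hH hW.ne hu hx hinv hw).eq.symm⟩
  suffices h : ∃ t, InvAt a t ∧ ∀ x ∈ E, Commute u x → Commute t x by
    obtain ⟨t, ht, hfix⟩ := h
    exact hH.involComm_of_fixes hW.ne hu hED huE hJ ht hfix
  set X := centralizer ({u} : Set G) ⊓ E with hX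
  have hXmem : ∀ x ∈ E, Commute u x → x ∈ X := fun x hx h =>
    ⟨mem_centralizer_singleton_iff.2 h.eq.symm, hx⟩
  by_cases hX1 : X = ⊥
  · obtain ⟨t₀, ht₀, ht₀H⟩ := StrongEmbed.exists_invol hH.se
    obtain ⟨g, hg⟩ := exists_smul (QuotientGroup.mk 1 : G ⧸ H) a
    refine ⟨g * t₀ * g⁻¹, hg ▸ InvAt.smul ⟨ht₀H, StrongEmbed.smul_mk_one_iff.2 ht₀⟩ g,
      fun x hx h => ?_⟩
    have h1 := hXmem x hx h
    rw [hX1, mem_bot] at h1
    rw [h1]
    exact Commute.one_right _
  have hXodd : Odd (Nat.card X) := (hH.odd_pair hW.ne).of_dvd_nat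
    (card_dvd_of_le (inf_le_right.trans hED))
  obtain ⟨q, U, hq, hUX, hUne, hU, hUab, hXU⟩ :=
    exists_abelian_normal (OddEnd.odd_solvable X hXodd) hX1
  haveI : Fact q.Prime := ⟨hq⟩
  obtain ⟨t, ht, htU⟩ := hH.exists_centralizing hα hZ hW hinv hu hTR hUne hU hUab hUX
  set M := normalizer (U : Set G) with hM
  have hUa : U ≤ st a := (hUX.trans (inf_le_right.trans hED)).trans inf_le_left
  have hMtop : M ≠ ⊤ := hH.normalizer_ne_top hUne hUa
  have huM : u ∈ M := centralizer_le_normalizer _ (mem_centralizer_iff.2 fun x hx =>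
    mem_centralizer_singleton_iff.1 (hUX hx).1)
  have hWM : W ≤ M := (le_centralizer_iff.1
    (hUX.trans (inf_le_right.trans inf_le_right))).trans (centralizer_le_normalizer _)
  have htM : t ∈ M := centralizer_le_normalizer _ htU
  have hca : Centre M a := ⟨t, htM, ht⟩
  have hMa : ¬ M ≤ st a := fun h => hW.ne ((h huM : u • a = a).symm.trans hu.2)
  have hp : Core.HasPair M := by
    by_contra hp
    exact hH.false_of_not_pair hα hW hinv hp hWM hu huM ht htM
  have hC := hH.loc_hyp hMtop hp hca hMa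
  have hS := hH.loc_shape hMtop hp hca hMa
  have hswap : Swap (locPt M a 1) (locPt M a ⟨u, huM⟩) (proj M ⟨u, huM⟩) :=
    ⟨proj_invol hu.1, (hH.smul_locPt_iff hp hca).2 (by rw [Subgroup.coe_one, one_smul])⟩
  have hne : locPt M a (1 : M) ≠ locPt M a ⟨u, huM⟩ := fun h => hW.ne (by
    have h1 := (hH.locPt_eq_iff hp hca).1 h
    rwa [Subgroup.coe_one, one_smul, Subgroup.coe_mk, hu.2] at h1)
  obtain ⟨s, hs, hsX⟩ := exists_special_invol hC.se hS hne hswap
  obtain ⟨v, hv, rfl⟩ := exists_lift_invol hs.1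
  have hva : InvAt a (v : G) := by
    refine ⟨by rwa [Subgroup.orderOf_coe], ?_⟩
    have h1 := hs.2
    change proj M v • locPt M a 1 = locPt M a 1 at h1
    rw [hH.smul_locPt_iff hp hca] at h1
    simpa using h1
  refine ⟨v, hva, fun x hx hux => ?_⟩
  have hxM : x ∈ M := hXU (hXmem x hx hux)
  set g : M := ⟨x, hxM⟩
  have hsx : Commute (proj M g) (proj M v) := hsX _
    ((hH.smul_locPt_iff hp hca).2 (by rw [Subgroup.coe_one, one_smul]; exact hx.1.1))
    ((hH.smul_locPt_iff hp hca).2 (by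
      show x • u • a = u • a
      rw [hu.2]; exact hx.1.2))
    ((show Commute g ⟨u, huM⟩ from Subtype.ext hux.eq.symm).map _)
  have h := hH.eq_of_proj_eq hα hp hca hMa (v := g * v * g⁻¹) (w := v)
    (by rw [show ((g * v * g⁻¹ : M) : G) = x * v * x⁻¹ from rfl, Invol.orderOf_conj_eq, hva.1])
    hva.1 (by rw [map_mul, map_mul, map_inv, hsx.eq, mul_inv_cancel_right])
  exact (mul_inv_eq_iff_eq_mul.1 (congrArg Subtype.val h)).symm

end Hyp

/-- The noncommuting branch, given the subgroup `W`. -/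
theorem Hyp.involComm_of_good (hH : Hyp H) {r : ℕ} (hZ : Alpha H r → ZPairStmt H) {a b : G ⧸ H}
    {W : Subgroup G} (hW : Good H r a b W)
    (hTR : ∀ u, Swap a b u → ∀ Q : Subgroup G,
      Syl r (centralizer ({u} : Set G) ⊓ (st a ⊓ st b)) Q →
        ∃ t, InvAt a t ∧ t ∈ centralizer (Q : Set G)) :
    Core.CSix.InvolComm H := by
  by_cases hne : ∃ v, Swap a b v ∧ ∃ w ∈ W, v * w * v⁻¹ ≠ w⁻¹
  · obtain ⟨v, hv, hw⟩ := hne
    exact hH.invComm_of_beta hW hv hw (hTR v hv)
  push Not at hne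
  obtain ⟨u, hu, hua⟩ := StrongEmbed.exists_swap hH.se hW.ne
  exact hH.involComm_of_alpha (hW.alpha hH hne) (hZ (hW.alpha hH hne)) hW hne ⟨hu, hua⟩
    (hTR u ⟨hu, hua⟩)

end CfsgLib.Bender.NC
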