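import Cfsg.Agent.Bender.NC.Defs
import Cfsg.Agent.Bender.CoreLemmas

/-!
Bender's theorem, noncommuting branch: inverted elements of two-point stabilizers, transitive
subgroups and Sylow subgroups fixing exactly two points.
-/

set_option autoImplicit false
set_option linter.unusedSectionVars false
set_option linter.style.haveILetI false

namespace CfsgLib.Bender.NC

open Subgroup
open CfsgLib.FusionLift (cj mem_cj card_cj)
open CfsgLib.Bender.GSide

universe u

variable {G : Type u} [Group G] [Finite G] {H : Subgroup G}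

/-- An element of odd order inverted by an involution is the square of an inverted power. -/
theorem exists_sqrt {x u : G} (hx : Odd (orderOf x)) (h : u * x * u⁻¹ = x⁻¹) :
    ∃ y ∈ zpowers x, y * y = x ∧ u * y * u⁻¹ = y⁻¹ := by
  obtain ⟨l, hl⟩ := hx
  refine ⟨x ^ (l + 1), pow_mem (mem_zpowers x) _, ?_, ?_⟩
  · rw [← pow_add, show l + 1 + (l + 1) = orderOf x + 1 by omega, pow_succ, pow_orderOf_eq_one,
      one_mul]
  · rw [← conj_pow, h, inv_pow]

/-- An element of odd order inverted and centralized is trivial. -/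
theorem eq_one_of_inverted {x v : G} (hx : Odd (orderOf x)) (h : v * x * v⁻¹ = x⁻¹)
    (hc : Commute v x) : x = 1 :=
  Core.eq_one_of_inverted_commute hx h hc

theorem odd_zpowers {x : G} (hx : Odd (orderOf x)) : Odd (Nat.card (zpowers x)) := by
  rwa [Nat.card_zpowers]

theorem inverted_mem_normalizer {x v : G} (h : v * x * v⁻¹ = x⁻¹) :
    v ∈ normalizer (zpowers x : Set G) := by
  rw [mem_normalizer_iff_map_conj_eq, MonoidHom.map_zpowers]
  show zpowers (v * x * v⁻¹) = zpowers x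
  rw [h, zpowers_inv]

/-- Witt's lemma: a Sylow subgroup of a point stabilizer in `K` has its normalizer in `K` transitive
on its fixed points in one orbit of `K`. -/
theorem exists_norm_move {r : ℕ} [Fact r.Prime] {K Q : Subgroup G} {p q : G ⧸ H}
    (hQ : Syl r (K ⊓ st p) Q) (hQq : Q ≤ st q) {g : G} (hg : g ∈ K) (hgp : g • p = q) :
    ∃ n ∈ K, n ∈ normalizer (Q : Set G) ∧ n • p = q := by
  have hle : cj g⁻¹ Q ≤ K ⊓ st p := by
    refine le_inf ?_ ?_
    · rintro _ ⟨x, hx, rfl⟩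
      have hxK : x ∈ K := (hQ.1 hx).1
      exact mul_mem (mul_mem (inv_mem hg) hxK) (inv_mem (inv_mem hg))
    · have := le_st_smul (g := g⁻¹) hQq
      rwa [← hgp, inv_smul_smul] at this
  obtain ⟨d, hd, hdQ⟩ := syl_conj hQ hle (hQ.2.1.map _)
  rw [cj_cj] at hdQ
  refine ⟨(d * g⁻¹)⁻¹, inv_mem (mul_mem hd.1 (inv_mem hg)),
    inv_mem (mem_norm_iff.2 (cj_eq_of_le hdQ le_rfl)), ?_⟩
  rw [mul_inv_rev, inv_inv, mul_smul, inv_smul_eq_iff.2 (hd.2 : d • p = p).symm, hgp]

/-- Without commuting involutions an element of odd order inverted by an involution of `M` lies in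
the odd core of `M`. -/
theorem mem_oddCore_of_not_pair {M : Subgroup G} (hp : ¬ Core.HasPair M) {u x : G} (hu : u ∈ M)
    (hu2 : orderOf u = 2) (hx : x ∈ M) (hodd : Odd (orderOf x)) (hinv : u * x * u⁻¹ = x⁻¹) :
    x ∈ (Cfsg.oddCore M).map M.subtype := by
  refine ⟨⟨x, hx⟩, IsoApps.mem_oddCore_of_inverted (Core.isolated hp hu hu2) ?_ (Subtype.ext hinv),
    rfl⟩
  rwa [← Subgroup.orderOf_coe]

/-- The odd core of `M`, as a subgroup of `G`, is normalized by `M`. -/
theorem le_normalizer_core (M : Subgroup G) :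
    M ≤ normalizer (((Cfsg.oddCore M).map M.subtype : Subgroup G) : Set G) := fun w hw =>
  mem_norm_iff.2 (cj_eq_of_le (by
    rintro _ ⟨_, ⟨o, ho, rfl⟩, rfl⟩
    exact ⟨⟨w, hw⟩ * o * ⟨w, hw⟩⁻¹, (Solvable.pPrimeCore_normal 2).conj_mem o ho _, rfl⟩) le_rfl)

/-- An odd order subgroup of `M` normalized by `M` lies in its odd core. -/
theorem le_core {M X : Subgroup G} (hXM : X ≤ M) (hn : M ≤ normalizer (X : Set G))
    (hX : Odd (Nat.card X)) : X ≤ (Cfsg.oddCore M).map M.subtype := by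
  haveI : (X.subgroupOf M).Normal := (normal_subgroupOf_iff_le_normalizer hXM).2 hn
  have h : X.subgroupOf M ≤ Cfsg.oddCore M := Core.le_oddCore inferInstance
    (by rwa [Nat.card_congr (subgroupOfEquivOfLe hXM).toEquiv])
  rw [← map_subgroupOf_eq_of_le hXM]
  exact map_mono h

theorem odd_core (M : Subgroup G) : Odd (Nat.card ((Cfsg.oddCore M).map M.subtype)) := by
  rw [card_map_of_injective M.subtype_injective]; exact IsoApps.odd_oddCore

/-- An element of `M` fixing a point which is no centre of `M` has odd order. -/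
theorem odd_of_no_centre {M : Subgroup G} {p : G ⧸ H} (hnc : ¬ Centre M p) {y : G} (hy : y ∈ M)
    (hyp : y • p = p) : Odd (orderOf y) := by
  by_contra hev
  rw [Nat.not_odd_iff_even, even_iff_two_dvd] at hev
  obtain ⟨l, hl⟩ := hev
  have hpos := (isOfFinOrder_of_finite y).orderOf_pos
  have hl0 : l ≠ 0 := by rintro rfl; omega
  have hv : orderOf (y ^ l) = 2 := by
    rw [orderOf_pow' y hl0, hl, Nat.gcd_eq_right (dvd_mul_left l 2),
      Nat.mul_div_cancel _ (Nat.pos_of_ne_zero hl0)]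
  exact hnc ⟨y ^ l, pow_mem hy l, hv, pow_mem (show y ∈ st p from hyp) l⟩

section Hyp

variable (hH : Hyp H)
include hH

theorem Hyp.odd_pair {a b : G ⧸ H} (hab : a ≠ b) : Odd (Nat.card ↥(st a ⊓ st b)) :=
  GSide.odd_pair hH.se hab

theorem Hyp.odd_of_mem {a b : G ⧸ H} (hab : a ≠ b) {x : G} (hx : x ∈ st a ⊓ st b) :
    Odd (orderOf x) :=
  (hH.odd_pair hab).of_dvd_nat (Subgroup.orderOf_dvd_natCard _ hx)

theorem Hyp.numInv_pos : 0 < Nat.card {t : G // orderOf t = 2 ∧ t ∈ H} := by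
  obtain ⟨t, ht, ht2⟩ := StrongEmbed.exists_invol hH.se
  haveI : Nonempty {t : G // orderOf t = 2 ∧ t ∈ H} := ⟨⟨t, ht2, ht⟩⟩
  exact Nat.card_pos

theorem Hyp.centre_unique {t : G} {a c : G ⧸ H} (ht : InvAt a t) (hc : t • c = c) : c = a :=
  StrongEmbed.fix_unique hH.se ht.1 hc ht.2

theorem Hyp.invAt_ne {a b : G ⧸ H} {t : G} (ht : InvAt a t) (hab : a ≠ b) : t • b ≠ b :=
  fun h => hab (hH.centre_unique ht h).symm

theorem Hyp.swap_centre {a b e : G ⧸ H} {u : G} (hu : Swap a b u) (hab : a ≠ b)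
    (he : u • e = e) : e ≠ a ∧ e ≠ b :=
  ⟨fun h => hab (by rw [← hu.2, ← h, he]), fun h => hab (by
    have h1 := hu.symm.2
    rw [← h, he] at h1
    rw [← h]; exact h1.symm)⟩

/-- An element inverted by an involution and centralized by one: its normalizer fixes the point of
the second, and so does the first. -/
theorem Hyp.normalizer_le_of_inverted {j v z : G} {c : G ⧸ H} (hj : Odd (orderOf j)) (hj1 : j ≠ 1)
    (hv : orderOf v = 2) (hvj : v * j * v⁻¹ = j⁻¹) (hz : InvAt c z) (hzj : Commute z j) :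
    normalizer (zpowers j : Set G) ≤ st c ∧ v • c = c := by
  set N := normalizer (zpowers j : Set G)
  have hzN : z ∈ N := centralizer_le_normalizer _ (by
    rw [mem_centralizer_iff]
    rintro _ ⟨i, rfl⟩
    exact (hzj.zpow_right i).eq.symm)
  have hvN : v ∈ N := inverted_mem_normalizer hvj
  suffices h : N ≤ st c from ⟨h, h hvN⟩
  by_contra hN
  have hse := hH.se_sub (M := N) ⟨z, hzN, hz⟩ hN
  obtain ⟨g, hg⟩ := isConj_iff.1 (StrongEmbed.isConj_of_invols hse
    (a := (⟨z, hzN⟩ : N)) (b := ⟨v, hvN⟩)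
    (by rw [Subgroup.orderOf_mk, hz.1]) (by rw [Subgroup.orderOf_mk, hv]))
  have hg' : (g : G) * z * (g : G)⁻¹ = v := congrArg Subtype.val hg
  have hgj : (g : G)⁻¹ * j * g ∈ zpowers j := by
    have := (mem_normalizer_iff.1 (inv_mem g.2) j).1 (mem_zpowers j)
    simpa using this
  obtain ⟨i, hi⟩ := hgj
  have hc : Commute v j := by
    have h1 : Commute z ((g : G)⁻¹ * j * g) := hi ▸ hzj.zpow_right i
    have h2 := h1.map (MulAut.conj (g : G)).toMonoidHom
    simpa [hg', mul_assoc] using h2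
  exact hj1 (eq_one_of_inverted hj hvj hc)

/-- An element fixing `a` and `b` inverted by a swapper is centralized by no involution at `a`. -/
theorem Hyp.not_commute_of_inverted {a b : G ⧸ H} (hab : a ≠ b) {u x : G} (hu : Swap a b u)
    (hx : Inverted a b u x) (hx1 : x ≠ 1) {t : G} (ht : InvAt a t) : ¬ Commute t x := fun hc =>
  hab (((hH.normalizer_le_of_inverted (hH.odd_of_mem hab hx.1) hx1 hu.1 hx.2 ht hc).2).symm.trans
    hu.2)

/-- An inverted element times the swapper is a swapper. -/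
theorem Hyp.swap_mul {a b : G ⧸ H} (hab : a ≠ b) {u x : G} (hu : Swap a b u)
    (hx : Inverted a b u x) : Swap a b (x * u) := by
  refine ⟨Invol.orderOf_eq_two ?_ fun h => ?_, ?_⟩
  · have h2 := hx.2
    rw [Invol.inv_eq_self hu.1] at h2
    calc x * u * (x * u) = x * (u * x * u) := by group
      _ = 1 := by rw [h2, mul_inv_cancel]
  · have hxu : x = u := by rw [eq_inv_of_mul_eq_one_left h, Invol.inv_eq_self hu.1]
    exact hab ((show x • a = a from hx.1.1).symm.trans (hxu ▸ hu.2))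
  · rw [mul_smul, hu.2]
    exact hx.1.2

/-- The elements inverted by a swapper are as many as the swappers. -/
theorem Hyp.card_inverted {a b : G ⧸ H} (hab : a ≠ b) {u : G} (hu : Swap a b u) :
    Nat.card {x // Inverted a b u x} = Commuting.numInv H := by
  rw [Commuting.numInv, ← StrongEmbed.card_swap hH.se hab]
  refine Nat.card_congr
    { toFun := fun x => ⟨x.1 * u, hH.swap_mul hab hu x.2⟩
      invFun := fun v => ⟨v.1 * u, ?_, ?_⟩
      left_inv := fun x => Subtype.ext (by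
        show x.1 * u * u = x.1
        rw [mul_assoc, Invol.mul_self_eq_one hu.1, mul_one])
      right_inv := fun v => Subtype.ext (by
        show v.1 * u * u = v.1
        rw [mul_assoc, Invol.mul_self_eq_one hu.1, mul_one]) }
  · exact mem_inf.2 ⟨by
      show (v.1 * u) • a = a
      rw [mul_smul, hu.2, GSide.swap_back v.2.1 v.2.2],
      by show (v.1 * u) • b = b
         rw [mul_smul, hu.symm.2, v.2.2]⟩
  · show u * (v.1 * u) * u⁻¹ = (v.1 * u)⁻¹
    rw [mul_inv_rev, Invol.inv_eq_self hu.1, Invol.inv_eq_self v.2.1, mul_assoc,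
      mul_assoc v.1, Invol.mul_self_eq_one hu.1, mul_one]

/-- A subgroup containing the inverted elements carries any involution at `a` to any other. -/
theorem Hyp.trans_of_inverted_le {a b : G ⧸ H} (hab : a ≠ b) {u : G} (hu : Swap a b u)
    {T : Subgroup G} (hJ : ∀ x, Inverted a b u x → x ∈ T) {s t : G}
    (hs : InvAt a s) (ht : InvAt a t) : ∃ d ∈ T, d * s * d⁻¹ = t := by
  let f : {x // Inverted a b u x} → {w : G // orderOf w = 2 ∧ w • a = a} := fun x =>
    ⟨x.1 * s * x.1⁻¹, by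
      have h := hs.smul x.1
      rwa [show x.1 • a = a from x.2.1.1] at h⟩
  have hinj : Function.Injective f := by
    intro x y hxy
    have e : x.1 * s * x.1⁻¹ = y.1 * s * y.1⁻¹ := congrArg Subtype.val hxy
    have hdD : y.1⁻¹ * x.1 ∈ st a ⊓ st b := mul_mem (inv_mem y.2.1) x.2.1
    have hdc : Commute s (y.1⁻¹ * x.1) := by
      show s * (y.1⁻¹ * x.1) = y.1⁻¹ * x.1 * s
      calc s * (y.1⁻¹ * x.1) = y.1⁻¹ * (y.1 * s * y.1⁻¹) * x.1 := by group
        _ = y.1⁻¹ * (x.1 * s * x.1⁻¹) * x.1 := by rw [e]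
        _ = y.1⁻¹ * x.1 * s := by group
    have hx' : Inverted a b u x.1⁻¹ := ⟨inv_mem x.2.1, by rw [← conj_inv, x.2.2]⟩
    have hv := hH.swap_mul hab hu hx'
    have hinv : (x.1⁻¹ * u) * (y.1⁻¹ * x.1) * (x.1⁻¹ * u)⁻¹ = (y.1⁻¹ * x.1)⁻¹ := by
      have h2 : u * y.1⁻¹ * u⁻¹ = y.1 := by rw [← conj_inv, y.2.2, inv_inv]
      calc (x.1⁻¹ * u) * (y.1⁻¹ * x.1) * (x.1⁻¹ * u)⁻¹
          = x.1⁻¹ * (u * y.1⁻¹ * (x.1 * u⁻¹ * x.1)) := by group
        _ = _ := by
          have h3 : x.1 * u⁻¹ * x.1 = u⁻¹ := by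
            have h4 := x.2.2
            calc x.1 * u⁻¹ * x.1 = u⁻¹ * (u * x.1 * u⁻¹) * x.1 := by group
              _ = u⁻¹ := by rw [h4]; group
          rw [h3, ← mul_assoc, mul_inv_rev, inv_inv, mul_assoc, h2]
    by_contra hne
    exact hH.not_commute_of_inverted hab hv ⟨hdD, hinv⟩
      (fun h => hne (Subtype.ext (eq_of_inv_mul_eq_one h).symm)) hs hdc
  have hsurj : Function.Surjective f := by
    refine ((Nat.bijective_iff_injective_and_card f).2 ⟨hinj, ?_⟩).2
    rw [hH.card_inverted hab hu, StrongEmbed.card_fix a]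
    rfl
  obtain ⟨x, hx⟩ := hsurj ⟨t, ht⟩
  exact ⟨x.1, hJ _ x.2, congrArg Subtype.val hx⟩

/-- In a subgroup of the two-point stabilizer normalized by `u` and containing the inverted
elements the centralizers of `u` and of an involution at `a` have the same order. -/
theorem Hyp.card_centralizer_inf {a b : G ⧸ H} (hab : a ≠ b) {u : G} (hu : Swap a b u)
    {T : Subgroup G} (hT : T ≤ st a ⊓ st b) (hJ : ∀ x, Inverted a b u x → x ∈ T) {t : G}
    (ht : InvAt a t) : Nat.card ↥(centralizer ({u} : Set G) ⊓ T) =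
      Nat.card ↥(centralizer ({t} : Set G) ⊓ T) := by
  have h1 := card_orbit_mul T t (fun x => orderOf x = 2 ∧ x • a = a) fun x =>
    ⟨fun hx => hH.trans_of_inverted_le hab hu hJ ht hx, by
      rintro ⟨k, hk, rfl⟩
      have h := ht.smul k
      rwa [show k • a = a from (hT hk).1] at h⟩
  have h2 := card_orbit_mul T u (fun x => orderOf x = 2 ∧ x • a = b) fun x =>
    ⟨fun hx => by
      have hxu : Inverted a b u (x * u) := ⟨mem_inf.2 ⟨by
          show (x * u) • a = a
          rw [mul_smul, hu.2, GSide.swap_back hx.1 hx.2],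
        by show (x * u) • b = b
           rw [mul_smul, hu.symm.2, hx.2]⟩, by
        rw [mul_inv_rev, Invol.inv_eq_self hu.1, Invol.inv_eq_self hx.1, mul_assoc,
          mul_assoc x, Invol.mul_self_eq_one hu.1, mul_one]⟩
      obtain ⟨y, hy, hyy, hyu⟩ := exists_sqrt (hH.odd_of_mem hab hxu.1) hxu.2
      refine ⟨y, ?_, ?_⟩
      · exact (zpowers_le.2 (hJ _ hxu)) hy
      · calc y * u * y⁻¹ = y * (u * y⁻¹ * u⁻¹) * u := by group
          _ = x * u * u := by rw [← conj_inv, hyu, inv_inv, hyy]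
          _ = x := by rw [mul_assoc, Invol.mul_self_eq_one hu.1, mul_one], by
      rintro ⟨k, hk, rfl⟩
      have h := Swap.smul hu k
      rwa [show k • a = a from (hT hk).1, show k • b = b from (hT hk).2] at h⟩
  rw [StrongEmbed.card_fix] at h1
  rw [StrongEmbed.card_swap hH.se hab] at h2
  exact Nat.eq_of_mul_eq_mul_left hH.numInv_pos (h2.trans h1.symm)

/-- A Sylow subgroup of one two-point stabilizer is one of any other containing it. -/
theorem Hyp.syl_pair {r : ℕ} {a b x y : G ⧸ H} (hab : a ≠ b) (hxy : x ≠ y) {R : Subgroup G}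
    (hR : Syl r (st a ⊓ st b) R) (hRx : R ≤ st x) (hRy : R ≤ st y) :
    Syl r (st x ⊓ st y) R := by
  refine ⟨le_inf hRx hRy, hR.2.1, fun P hP hPp => ?_⟩
  obtain ⟨g, hga, hgb⟩ := hH.exists_move hxy hab
  rw [← card_cj g P]
  refine hR.2.2 _ (le_inf ?_ ?_) (hPp.map _)
  · exact hga ▸ le_st_smul (hP.trans inf_le_left)
  · exact hgb ▸ le_st_smul (hP.trans inf_le_right)

/-- A Sylow subgroup of a two-point stabilizer which no involution at the first point normalizes
fixes only the two points. -/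
theorem Hyp.fix_pair_of_syl {r : ℕ} [Fact r.Prime] (hr : r ≠ 2) {a b : G ⧸ H} (hab : a ≠ b)
    {R : Subgroup G} (hR : Syl r (st a ⊓ st b) R)
    (hno : ∀ t, InvAt a t → t ∉ normalizer (R : Set G)) {c : G ⧸ H} (hc : R ≤ st c) :
    c = a ∨ c = b := by
  by_contra hcon
  push Not at hcon
  obtain ⟨hca, hcb⟩ := hcon
  obtain ⟨u, hu, hua, huR⟩ := swapper_norm hH.se hab hR
  obtain ⟨e, hue⟩ := StrongEmbed.exists_fix hH.se hu
  have hea : e ≠ a := (hH.swap_centre ⟨hu, hua⟩ hab hue).1
  by_cases he : R ≤ st e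
  · obtain ⟨w, hw, hwe, hwR⟩ := swapper_norm hH.se hea
      (hH.syl_pair hab hea hR he (hR.1.trans inf_le_left))
    refine hno _ ?_ (mul_mem (mul_mem hwR huR) (inv_mem hwR))
    have h : InvAt e u := ⟨hu, hue⟩
    exact hwe ▸ h.smul w
  · obtain ⟨O, hO⟩ := exists_oneClass hH.se ((Fact.out : r.Prime).odd_of_ne_two hr) hR.2.1 hu huR
      hue he
    obtain ⟨j, hj, hjb, hjR⟩ := swapper_norm hH.se hcb.symm
      (hH.syl_pair hab hcb.symm hR (hR.1.trans inf_le_right) hc)
    obtain ⟨k, hk, hkc, hkR⟩ := swapper_norm hH.se hca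
      (hH.syl_pair hab hca hR hc (hR.1.trans inf_le_left))
    exact hO.triangle hu (hR.1.trans inf_le_left) hu hj hk huR hjR hkR hua hjb hkc

/-- A subgroup containing a Sylow subgroup fixing exactly two points has it as a Sylow subgroup. -/
theorem Hyp.syl_of_fix_pair {r : ℕ} [Fact r.Prime] (hr : r ≠ 2) {a b : G ⧸ H} (hab : a ≠ b)
    {K R : Subgroup G} (hRK : R ≤ K) (hR : Syl r (K ⊓ (st a ⊓ st b)) R)
    (hfix : ∀ c, R ≤ st c → c = a ∨ c = b) : Syl r K R := by
  obtain ⟨T, hRT, hT⟩ := exists_syl hRK hR.2.1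
  have hTR : R = T := by
    by_contra hne
    obtain ⟨Z, hRZ, hZT, hZN⟩ := exists_between (lt_of_le_of_ne hRT hne) hT.2.1
    have hZ : Z ≤ st a ⊓ st b := fun z hz => by
      have hma : R ≤ st (z • a) := le_st_smul_of_norm (hZN hz) (hR.1.trans inf_le_right |>.trans inf_le_left)
      rcases hfix _ hma with h | h
      · have hmb : R ≤ st (z • b) :=
          le_st_smul_of_norm (hZN hz) (hR.1.trans inf_le_right |>.trans inf_le_right)
        rcases hfix _ hmb with h' | h'
        · exact absurd (MulAction.injective z (h.trans h'.symm)) hab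
        · exact ⟨h, h'⟩
      · exfalso
        have hmb : R ≤ st (z • b) :=
          le_st_smul_of_norm (hZN hz) (hR.1.trans inf_le_right |>.trans inf_le_right)
        rcases hfix _ hmb with h' | h'
        · have hodd : Odd (orderOf z) := by
            obtain ⟨k, hk⟩ := IsPGroup.iff_orderOf.1 (hT.2.1.to_le hZT) ⟨z, hz⟩
            rw [← Subgroup.orderOf_mk z hz, hk]
            exact ((Fact.out : r.Prime).odd_of_ne_two hr).pow
          obtain ⟨l, hl⟩ := hodd
          have h2 : (z * z) • a = a := by rw [mul_smul, h, h']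
          have h3 : (z * z) ^ l • a = a := pow_mem (show z * z ∈ st a from h2) l
          have h4 : z ^ orderOf z • a = a := by rw [pow_orderOf_eq_one, one_smul]
          rw [hl, pow_succ', mul_smul, pow_mul, sq, h3, h] at h4
          exact hab h4.symm
        · exact absurd (MulAction.injective z (h.trans h'.symm)) hab
    exact hRZ.ne (eq_of_le_of_card_ge hRZ.le
      (hR.2.2 Z (le_inf (hZT.trans hT.1) hZ) (hT.2.1.to_le hZT)))
  exact hTR ▸ hT

/-- An involution at one point of an invariant set moves each other point. -/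
theorem Hyp.moves {a c : G ⧸ H} {t : G} (ht : InvAt a t) (hc : c ≠ a) : t • c ≠ c :=
  fun h => hc (hH.centre_unique ht h)

/-- A subgroup normalizing `Q`, doubly transitive on the fixed points of `Q` and without
involution fixing one of them, leaves `Q` at most two fixed points. -/
theorem Hyp.false_of_trans {M Q : Subgroup G} (hodd : Odd (Nat.card Q))
    (hMQ : M ≤ normalizer (Q : Set G))
    (hnc : ∀ c : G ⧸ H, Q ≤ st c → ¬ Centre M c)
    (htr : ∀ p q r : G ⧸ H, Q ≤ st p → Q ≤ st q → Q ≤ st r → q ≠ p → r ≠ p →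
      ∃ g ∈ M, g • p = p ∧ g • q = r)
    {a b c : G ⧸ H} (hab : a ≠ b) (hca : c ≠ a) (hcb : c ≠ b)
    (ha : Q ≤ st a) (hb : Q ≤ st b) (hc : Q ≤ st c) : False := by
  obtain ⟨g, hgN, hgc, hga⟩ := htr c a b hc ha hb hca.symm hcb.symm
  have hgb : Q ≤ st (g • b) := le_st_smul_of_norm (hMQ hgN) hb
  have hgb' : g • b ≠ b := fun h => hab (MulAction.injective g (hga.trans h.symm))
  obtain ⟨h, hhN, hhb, hhga⟩ := htr b (g • b) a hb hgb ha hgb' hab
  have hswap : (h * g) • a = b ∧ (h * g) • b = a := ⟨by rw [mul_smul, hga, hhb],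
    by rw [mul_smul, hhga]⟩
  have hev : Even (orderOf (h * g)) := by
    by_contra ho
    rw [Nat.not_even_iff_odd] at ho
    obtain ⟨l, hl⟩ := ho
    have h2 : ((h * g) * (h * g)) • a = a := by rw [mul_smul, hswap.1, hswap.2]
    have h3 : ((h * g) * (h * g)) ^ l • a = a := pow_mem (show _ ∈ st a from h2) l
    have h4 : (h * g) ^ orderOf (h * g) • a = a := by rw [pow_orderOf_eq_one, one_smul]
    rw [hl, pow_succ', mul_smul, pow_mul, sq, h3, hswap.1] at h4
    exact hab h4.symm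
  obtain ⟨l, hl⟩ := hev
  have hpos := (isOfFinOrder_of_finite (h * g)).orderOf_pos
  have hv : orderOf ((h * g) ^ l) = 2 := by
    rw [orderOf_pow' _ (by omega), hl, Nat.gcd_eq_right ⟨2, by ring⟩]
    exact Nat.div_eq_of_eq_mul_left (by omega) (by omega)
  set v := (h * g) ^ l
  have hvN : v ∈ M := pow_mem (mul_mem hhN hgN) l
  have hvfix : ∀ p : G ⧸ H, Q ≤ st p → v • p ≠ p := fun p hp hvp =>
    hnc p hp ⟨v, hvN, hv, hvp⟩
  obtain ⟨e, hve⟩ := StrongEmbed.exists_fix hH.se hv
  have hnp : ¬ Core.HasPair M := fun hp => by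
    obtain ⟨z, hz, hz2, hzv, hcz⟩ := hp.exists_partner hvN hv
    exact hvfix e (Core.odd_le_st hH.se hodd hv hz2 hzv.symm hcz (hMQ hvN) (hMQ hz) hve) hve
  have hO : ∀ o ∈ (Cfsg.oddCore M).map M.subtype, ∀ p : G ⧸ H, Q ≤ st p → o • p = p := by
    rintro _ ⟨o, ho, rfl⟩ p hp
    by_contra hop
    have hvp : Q ≤ st (v • p) := le_st_smul_of_norm (hMQ hvN) hp
    have hop' : Q ≤ st ((o : G) • p) := le_st_smul_of_norm (hMQ o.2) hp
    obtain ⟨k, hkN, hkp, hko⟩ := htr p ((o : G) • p) (v • p) hp hop' hvp hop (hvfix p hp)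
    set o' : M := ⟨k, hkN⟩ * o * ⟨k, hkN⟩⁻¹ with ho'
    have ho'O : o' ∈ Cfsg.oddCore M := (Solvable.pPrimeCore_normal 2).conj_mem o ho _
    have ho'p : (o' : G) • p = v • p := by
      rw [ho', Subgroup.coe_mul, Subgroup.coe_mul, Subgroup.coe_inv, mul_smul, mul_smul,
        inv_smul_eq_iff.2 hkp.symm, hko]
    set y : M := o'⁻¹ * ⟨v, hvN⟩
    have hyo : Odd (orderOf y) := by
      rw [← Subgroup.orderOf_coe]
      refine odd_of_no_centre (hnc p hp) y.2 ?_
      show ((o' : G)⁻¹ * v) • p = p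
      rw [mul_smul, inv_smul_eq_iff, ho'p]
    have hy2 : y * y ∈ Cfsg.oddCore M := by
      have hvv : (⟨v, hvN⟩ : M) = ⟨v, hvN⟩⁻¹ := Subtype.ext (Invol.inv_eq_self hv).symm
      show o'⁻¹ * ⟨v, hvN⟩ * (o'⁻¹ * ⟨v, hvN⟩) ∈ Cfsg.oddCore M
      rw [mul_assoc]
      refine mul_mem (inv_mem ho'O) ?_
      rw [← mul_assoc]
      nth_rewrite 2 [hvv]
      exact (Solvable.pPrimeCore_normal 2).conj_mem _ (inv_mem ho'O) _
    obtain ⟨i, hi⟩ := hyo
    have hy : y ∈ Cfsg.oddCore M := by
      have h1 : y ^ (2 * i) ∈ Cfsg.oddCore M := by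
        rw [pow_mul, sq]; exact pow_mem hy2 i
      have h2 := pow_orderOf_eq_one y
      rw [hi, pow_succ] at h2
      rw [← inv_inv y, ← eq_inv_of_mul_eq_one_left h2]
      exact inv_mem h1
    have hvO : (⟨v, hvN⟩ : M) ∈ Cfsg.oddCore M := by
      have := mul_mem ho'O hy
      rwa [mul_inv_cancel_left] at this
    have h2 := orderOf_dvd_natCard (Cfsg.oddCore M) hvO
    rw [Subgroup.orderOf_mk, hv] at h2
    exact (Nat.not_even_iff_odd.2 IsoApps.odd_oddCore) (even_iff_two_dvd.2 h2)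
  have hcomm : ∀ k ∈ M, ∀ p : G ⧸ H, Q ≤ st p → k • v • p = v • k • p := by
    intro k hk p hp
    obtain ⟨o, ho, hov⟩ := Core.exists_conj_of_not_pair hnp hvN hv
      (mul_mem (mul_mem hk hvN) (inv_mem hk)) (by rw [Invol.orderOf_conj_eq, hv])
    have hkp := le_st_smul_of_norm (hMQ hk) hp
    have h1 : (k * v * k⁻¹) • k • p = k • v • p := by
      rw [smul_smul, inv_mul_cancel_right, mul_smul]
    rw [← h1, ← hov, mul_smul, mul_smul, inv_smul_eq_iff.2 (hO o ho _ hkp).symm,
      hO o ho _ (le_st_smul_of_norm (hMQ hvN) hkp)]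
  have hva : Q ≤ st (v • a) := le_st_smul_of_norm (hMQ hvN) ha
  obtain ⟨d, hd, hda, hdv⟩ : ∃ d, Q ≤ st d ∧ d ≠ a ∧ d ≠ v • a := by
    by_cases hb' : b = v • a
    · exact ⟨c, hc, hca, fun h => hcb (h.trans hb'.symm)⟩
    · exact ⟨b, hb, hab.symm, hb'⟩
  obtain ⟨k, hk, hka, hkd⟩ := htr a (v • a) d ha hva hd (hvfix a ha) hda
  rw [hcomm k hk a ha, hka] at hkd
  exact hdv hkd.symm

end Hyp

end CfsgLib.Bender.NC
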