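import Cfsg.Agent.Bender.Commuting.Defs
import Cfsg.Agent.Bender.Dichotomy

/-!
Bender's theorem: in a group without odd core the involutions of a strongly embedded subgroup
commute. The setting of the proof by induction and its first consequences.
-/

set_option autoImplicit false
set_option linter.unusedSectionVars false
set_option linter.style.haveILetI false

namespace CfsgLib.Bender.NC

open Subgroup
open CfsgLib.FusionLift (cj mem_cj card_cj)
open CfsgLib.Bender.GSide

universe u

/-- The statement to be proved, for groups of order less than `n`. -/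
def CommBelow (n : ℕ) : Prop :=
  ∀ (X : Type u) [Group X] [Finite X], Nat.card X < n → ∀ K : Subgroup X,
    Cfsg.IsStronglyEmbedded K → Cfsg.oddCore X = ⊥ → PairRank X → Core.CSix.InvolComm K

/-- The standing hypotheses: smaller groups have commuting involutions at each point, and then the
shape given by the commuting branch. -/
structure Hyp {G : Type u} [Group G] [Finite G] (H : Subgroup G) : Prop where
  se : Cfsg.IsStronglyEmbedded H
  pair : PairRank G
  odd : Cfsg.oddCore G = ⊥
  comm : CommBelow.{u} (Nat.card G)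
  shape : Commuting.ShapeBelow.{u} (Nat.card G)

variable {G : Type u} [Group G] [Finite G] {H : Subgroup G}

/-- `t` is an involution fixing the point `a`. -/
def InvAt (a : G ⧸ H) (t : G) : Prop := orderOf t = 2 ∧ t • a = a

/-- `u` is an involution carrying `a` to `b`. -/
def Swap (a b : G ⧸ H) (u : G) : Prop := orderOf u = 2 ∧ u • a = b

/-- `M` contains an involution with centre `c`. -/
def Centre (M : Subgroup G) (c : G ⧸ H) : Prop := ∃ t ∈ M, InvAt c t

/-- The elements of the stabilizer of `a` and `b` inverted by `u`. -/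
def Inverted (a b : G ⧸ H) (u x : G) : Prop := x ∈ st a ⊓ st b ∧ u * x * u⁻¹ = x⁻¹

theorem Swap.symm {a b : G ⧸ H} {u : G} (h : Swap a b u) : Swap b a u :=
  ⟨h.1, GSide.swap_back h.1 h.2⟩

theorem InvAt.smul {a : G ⧸ H} {t : G} (h : InvAt a t) (g : G) :
    InvAt (g • a) (g * t * g⁻¹) :=
  ⟨by rw [Invol.orderOf_conj_eq, h.1], by rw [mul_smul, mul_smul, inv_smul_smul, h.2]⟩

theorem Swap.smul {a b : G ⧸ H} {u : G} (h : Swap a b u) (g : G) :
    Swap (g • a) (g • b) (g * u * g⁻¹) :=
  ⟨by rw [Invol.orderOf_conj_eq, h.1], by rw [mul_smul, mul_smul, inv_smul_smul, h.2]⟩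

theorem Centre.smul {M : Subgroup G} {c : G ⧸ H} (h : Centre M c) {g : G} (hg : g ∈ M) :
    Centre M (g • c) := by
  obtain ⟨t, ht, htc⟩ := h
  exact ⟨g * t * g⁻¹, mul_mem (mul_mem hg ht) (inv_mem hg), htc.smul g⟩

section Hyp

variable (hH : Hyp H)
include hH

/-- A strongly embedded subgroup contains no nontrivial normal subgroup. -/
theorem Hyp.normalCore_eq_bot : H.normalCore = ⊥ := by
  obtain ⟨g, hg⟩ : ∃ g : G, g ∉ H := by
    by_contra h
    push Not at h
    exact hH.se.1 (eq_top_iff.2 fun x _ => h x)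
  refine le_bot_iff.1 (hH.odd ▸ Core.le_oddCore H.normalCore_normal ?_)
  refine (hH.se.2.2 g hg).of_dvd_nat (card_dvd_of_le fun x hx => ⟨H.normalCore_le hx, ?_⟩)
  exact ⟨g⁻¹ * x * g, H.normalCore_le (by simpa using H.normalCore_normal.conj_mem x hx g⁻¹),
    by simp [mul_assoc]⟩

/-- The odd core of a point stabilizer is trivial. -/
theorem Hyp.oddCore_eq_bot : Cfsg.oddCore H = ⊥ := by
  have h := Cfsg.Agent.S1221.result H hH.se
  rw [hH.odd, le_bot_iff] at h
  exact (map_eq_bot_iff_of_injective _ H.subtype_injective).1 h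

/-- A subgroup fixing every point is trivial. -/
theorem Hyp.exists_not_fixed {Q : Subgroup G} (hne : Q ≠ ⊥) : ∃ x : G ⧸ H, ¬ Q ≤ st x := by
  by_contra h
  push Not at h
  refine hne (le_bot_iff.1 (hH.normalCore_eq_bot ▸ fun q hq g => ?_))
  have h1 : q • (g⁻¹ • (QuotientGroup.mk 1 : G ⧸ H)) = g⁻¹ • QuotientGroup.mk 1 := h _ hq
  rw [← StrongEmbed.smul_mk_one_iff (H := H), mul_smul, mul_smul, h1, smul_inv_smul]

/-- The normalizer of a nontrivial subgroup of a point stabilizer is proper. -/
theorem Hyp.normalizer_ne_top {Q : Subgroup G} (hne : Q ≠ ⊥) {x : G ⧸ H} (hx : Q ≤ st x) :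
    normalizer (Q : Set G) ≠ ⊤ := by
  intro h
  obtain ⟨y, hy⟩ := hH.exists_not_fixed hne
  obtain ⟨g, rfl⟩ := exists_smul x y
  exact hy (le_st_smul_of_norm (h ▸ mem_top g) hx)

/-- The centralizer of a nontrivial subgroup of a point stabilizer is proper. -/
theorem Hyp.centralizer_ne_top {Q : Subgroup G} (hne : Q ≠ ⊥) {x : G ⧸ H} (hx : Q ≤ st x) :
    centralizer (Q : Set G) ≠ ⊤ := fun h =>
  hH.normalizer_ne_top hne hx (eq_top_iff.2 (h ▸ centralizer_le_normalizer (Q : Set G)))

/-- The action on the points is doubly transitive. -/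
theorem Hyp.exists_move {a b c d : G ⧸ H} (hab : a ≠ b) (hcd : c ≠ d) :
    ∃ g : G, g • a = c ∧ g • b = d :=
  MulAction.is_two_pretransitive_iff.1
    (St.isMultiplyPretransitive_quotient (two_transitive_of_pair hH.se hH.pair)) hab hcd

/-- A subgroup containing two commuting involutions and moving their centre has a strongly
embedded stabilizer. -/
theorem Hyp.se_sub {M : Subgroup G} {c : G ⧸ H} (hc : Centre M c) (hMc : ¬ M ≤ st c) :
    Cfsg.IsStronglyEmbedded ((st c).subgroupOf M) := by
  obtain ⟨t, ht, ht2, htc⟩ := hc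
  refine ⟨fun h => hMc (subgroupOf_eq_top.1 h), ?_, fun m hm => ?_⟩
  · rw [even_iff_two_dvd, ← ht2]
    exact (Subgroup.orderOf_mk (H := M) t ht).symm ▸
      Subgroup.orderOf_dvd_natCard ((st c).subgroupOf M) (x := ⟨t, ht⟩) htc
  · have hne : (m : G) • c ≠ c := fun h => hm h
    refine (odd_pair hH.se hne.symm).of_dvd_nat ?_
    rw [← card_map_of_injective M.subtype_injective]
    refine card_dvd_of_le ?_
    rintro _ ⟨k, ⟨hk1, j, hj, rfl⟩, rfl⟩
    refine ⟨hk1, ?_⟩
    show ((m : G) * (j : G) * (m : G)⁻¹) • (m : G) • c = (m : G) • c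
    rw [mul_smul, mul_smul, inv_smul_smul, show (j : G) • c = c from hj]

/-- In a subgroup with commuting involutions the odd core fixes every centre. -/
theorem Hyp.oddCore_fix {M : Subgroup G} (hp : Core.HasPair M) {c : G ⧸ H} (hc : Centre M c) :
    (Cfsg.oddCore M).map M.subtype ≤ st c := by
  obtain ⟨t, ht, ht2, htc⟩ := hc
  obtain ⟨z, hz, hz2, hzt, hcz⟩ := hp.exists_partner ht ht2
  have hn : ∀ w ∈ M, w ∈ normalizer (((Cfsg.oddCore M).map M.subtype : Subgroup G) : Set G) :=
    fun w hw => mem_norm_iff.2 (cj_eq_of_le (by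
      rintro _ ⟨_, ⟨o, ho, rfl⟩, rfl⟩
      exact ⟨⟨w, hw⟩ * o * ⟨w, hw⟩⁻¹,
        (Solvable.pPrimeCore_normal 2).conj_mem o ho _, rfl⟩) le_rfl)
  refine Core.odd_le_st hH.se ?_ ht2 hz2 hzt.symm hcz (hn t ht) (hn z hz) htc
  rw [card_map_of_injective M.subtype_injective]
  exact IsoApps.odd_oddCore

end Hyp

end CfsgLib.Bender.NC
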