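import Cfsg.Agent.Bender.NC.KillPair
import Cfsg.Agent.Bender.NC.Blocks
import Cfsg.Agent.Bender.Commuting.Local

/-!
Bender's theorem, noncommuting branch: the centralizer of an abelian subgroup of prime power order,
for a prime dividing the number of involutions, has the first point as a centre.
-/

set_option autoImplicit false
set_option linter.unusedSectionVars false
set_option linter.style.haveILetI false

namespace CfsgLib.Bender.NC

open Subgroup
open CfsgLib.FusionLift (cj mem_cj card_cj)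
open CfsgLib.Bender.GSide

universe u

variable {G : Type u} [Group G] [Finite G] {H : Subgroup G}

/-- A prime dividing the number of involutions at a point does not divide the number of points. -/
theorem not_dvd_card_points (hC : Commuting.Hyp H) {q : ℕ} [Fact q.Prime] (hqodd : Odd q)
    (hq : q ∣ Commuting.numInv H) : ¬ q ∣ Nat.card (G ⧸ H) := by
  classical
  intro hn
  obtain ⟨g, hg⟩ : ∃ g : G, g ∉ H := by
    by_contra h
    push Not at h
    exact hC.se.1 (eq_top_iff.2 fun x _ => h x)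
  set p : G ⧸ H := QuotientGroup.mk 1
  set p' : G ⧸ H := QuotientGroup.mk g
  have hpp : p ≠ p' := fun h => hg (by simpa using QuotientGroup.eq.1 h)
  obtain ⟨R, -, hR⟩ := exists_syl (r := q) (X := ⊥) (D := st p ⊓ st p') bot_le IsPGroup.of_bot
  have hnc : ¬ Commuting.Centre R p := hC.not_centre_syl hq hpp hR
  have hRne : R ≠ ⊥ := by
    rintro rfl
    obtain ⟨t, ht, ht2⟩ := StrongEmbed.exists_invol hC.se
    exact hnc ⟨t, ht2, StrongEmbed.smul_mk_one_iff.2 ht, mem_centralizer_iff.2 fun x hx => by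
      rw [show x = 1 from hx, one_mul, mul_one]⟩
  have hp : R ≤ st p := hR.1.trans inf_le_left
  have hp' : R ≤ st p' := hR.1.trans inf_le_right
  have h := Commuting.card_modEq_pair hR.2.1 hp hp' (hC.fix_two hR.2.1 hRne hpp hp hp' hnc)
    (fun _ => True) fun _ _ _ _ => trivial
  rw [Nat.card_congr (Equiv.subtypeUnivEquiv fun _ => trivial)] at h
  have h2 : Nat.card {c : G ⧸ H // True ∧ (c = p ∨ c = p')} = 2 := by
    rw [Nat.card_congr (Equiv.subtypeEquivRight (p := fun c => True ∧ (c = p ∨ c = p')) (q := fun c => c = p ∨ c = p') (fun c => iff_of_eq (true_and _))),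
      show {c : G ⧸ H // c = p ∨ c = p'} = ↥({p, p'} : Set (G ⧸ H)) from rfl, Nat.card_coe_set_eq,
      Set.ncard_pair hpp]
  rw [h2] at h
  have h3 : q ∣ 2 := Nat.modEq_zero_iff_dvd.1 (h.symm.trans (Nat.modEq_zero_iff_dvd.2 hn))
  have h4 := (Nat.prime_dvd_prime_iff_eq Fact.out Nat.prime_two).1 h3
  subst h4
  exact absurd hqodd (by decide)

/-- The core of order prime to `q` of a subgroup is normalized by the normalizer of it. -/
theorem le_normalizer_pPrimeCore {q : ℕ} {M O : Subgroup G}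
    (hn : M ≤ normalizer (O : Set G)) :
    M ≤ normalizer (((Cfsg.pPrimeCore q O).map O.subtype : Subgroup G) : Set G) := by
  intro m hm
  haveI := CfsgLib.Solvable.pPrimeCore_normal (G := O) q
  let φ : O →* O :=
    { toFun := fun x => ⟨m * (x : G) * m⁻¹, (mem_normalizer_iff.1 (hn hm) _).1 x.2⟩
      map_one' := Subtype.ext (by simp)
      map_mul' := fun x y => Subtype.ext (by simp [mul_assoc]) }
  have hsurj : Function.Surjective φ := fun y =>
    ⟨⟨m⁻¹ * (y : G) * m, by
      have := (mem_normalizer_iff.1 (hn (inv_mem hm)) _).1 y.2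
      rwa [inv_inv] at this⟩, Subtype.ext (by simp [φ, mul_assoc])⟩
  have hle : (Cfsg.pPrimeCore q O).map φ ≤ Cfsg.pPrimeCore q O :=
    CfsgLib.Solvable.le_pPrimeCore q ((CfsgLib.Solvable.pPrimeCore_normal q).map _ hsurj)
      ((CfsgLib.Solvable.coprime_card_pPrimeCore q).coprime_dvd_left (card_map_dvd _ _))
  refine mem_norm_iff.2 (cj_eq_of_le ?_ le_rfl)
  rintro _ ⟨_, ⟨x, hx, rfl⟩, rfl⟩
  exact ⟨φ x, hle ⟨x, hx, rfl⟩, rfl⟩

section Hyp

variable (hH : Hyp H) {r : ℕ} (hα : Alpha H r)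
include hH hα

open Classical in
/-- The number of involutions at a centre is not divisible by `q`. -/
theorem Hyp.not_dvd_card_at {M : Subgroup G} (hM : M ≠ ⊤) (hp : Core.HasPair M) {q : ℕ}
    [Fact q.Prime] (hqodd : Odd q) {a b : G ⧸ H} (ha : ¬ Centre M a) (hb : ¬ Centre M b)
    {P : Subgroup G} (hP : IsPGroup q P) (hPM : P ≤ M)
    (hfix : ∀ c, P ≤ st c → c = a ∨ c = b) [Fintype G] {p : G ⧸ H} (hc : Centre M p)
    (hMp : ¬ M ≤ st p) :
    ¬ q ∣ (Finset.univ.filter (fun k : G => k ∈ M ∧ orderOf k = 2 ∧ k • p = p)).card := by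
  intro hdvd
  have hC := hH.loc_hyp hM hp hc hMp
  have hnum : Commuting.numInv (locSt M p) =
      (Finset.univ.filter (fun k : G => k ∈ M ∧ orderOf k = 2 ∧ k • p = p)).card := by
    rw [Commuting.numInv, ← Fintype.card_subtype, ← Nat.card_eq_fintype_card]
    symm
    refine Nat.card_congr (Equiv.ofBijective
      (fun k => ⟨proj M ⟨k.1, k.2.1⟩, proj_invol (t := ⟨k.1, k.2.1⟩) k.2.2.1,
        ⟨⟨k.1, k.2.1⟩, k.2.2.2, rfl⟩⟩) ⟨?_, ?_⟩)
    · intro k k' e
      have h := hH.eq_of_proj_eq hα hp hc hMp (v := ⟨k.1, k.2.1⟩) (w := ⟨k'.1, k'.2.1⟩) k.2.2.1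
        k'.2.2.1 (congrArg Subtype.val e)
      exact Subtype.ext (congrArg (fun z : M => (z : G)) h)
    · rintro ⟨t, ht, hts⟩
      obtain ⟨w, hw, rfl⟩ := exists_lift_invol ht
      exact ⟨⟨w, w.2, by rwa [Subgroup.orderOf_coe],
        (hH.mem_st_iff hp hc).1 hts⟩, rfl⟩
  refine not_dvd_card_points hC hqodd (hnum ▸ hdvd) ?_
  set Q := (P.subgroupOf M).map (proj M)
  have hQ : IsPGroup q Q := (hP.of_equiv (subgroupOfEquivOfLe hPM).symm).map _
  have hmod := hQ.card_modEq_card_fixedPoints ((M ⧸ Cfsg.oddCore M) ⧸ locSt M p)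
  haveI : IsEmpty (MulAction.fixedPoints Q ((M ⧸ Cfsg.oddCore M) ⧸ locSt M p)) := by
    refine ⟨fun x => ?_⟩
    obtain ⟨y, hy⟩ := QuotientGroup.mk_surjective x.1
    obtain ⟨n, rfl⟩ := QuotientGroup.mk'_surjective (Cfsg.oddCore M) y
    have hle : P ≤ st ((n : G) • p) := fun z hz => by
      have h1 : proj M ⟨z, hPM hz⟩ • locPt M p n = locPt M p n := by
        have h2 := x.2 ⟨proj M ⟨z, hPM hz⟩, ⟨⟨z, hPM hz⟩, hz, rfl⟩⟩
        rw [← hy] at h2
        exact h2
      exact (hH.smul_locPt_iff hp hc).1 h1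
    rcases hfix _ hle with h | h
    · exact ha (h ▸ hc.smul n.2)
    · exact hb (h ▸ hc.smul n.2)
  rw [Nat.card_of_isEmpty (α := MulAction.fixedPoints Q _)] at hmod
  exact Nat.modEq_zero_iff_dvd.1 hmod

/-- KILL: the first point is a centre of the centralizer of `U`. -/
theorem Hyp.centre_of_fix_pair {a b : G ⧸ H} {W : Subgroup G} (hW : Good H r a b W)
    (hinv : ∀ v, Swap a b v → ∀ w ∈ W, v * w * v⁻¹ = w⁻¹) {u : G} (hu : Swap a b u) {q : ℕ}
    [Fact q.Prime] (hqodd : Odd q) (hqr : q ≠ r) (hprin : Principal q G (G ⧸ H)) {U : Subgroup G}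
    (hUne : U ≠ ⊥) (hU : IsPGroup q U) (hUab : ∀ x ∈ U, ∀ y ∈ U, x * y = y * x) (hUa : U ≤ st a)
    (hWU : W ≤ centralizer (U : Set G)) (huU : u ∈ centralizer (U : Set G))
    {P : Subgroup G} (hP : IsPGroup q P) (hPU : P ≤ centralizer (U : Set G))
    (hfix : ∀ c, P ≤ st c → c = a ∨ c = b)
    (hS : ¬ Core.HasPair (centralizer (U : Set G)) → ∃ S : Subgroup G,
      Syl q ((Cfsg.oddCore (centralizer (U : Set G))).map (centralizer (U : Set G)).subtype) S ∧
        S ≤ st a ⊓ st b) :
    Centre (centralizer (U : Set G)) a := by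
  classical
  by_contra ha
  haveI := Fintype.ofFinite G
  set M := centralizer (U : Set G) with hMdef
  obtain ⟨e, hue⟩ := StrongEmbed.exists_fix hH.se hu.1
  obtain ⟨hea, heb⟩ := hH.swap_centre hu hW.ne hue
  have hce : Centre M e := ⟨u, huU, hu.1, hue⟩
  have hUe : U ≤ st e := fun x hx => by
    have h : Commute u x := (mem_centralizer_iff.1 huU x hx).symm
    show x • e = e
    exact StrongEmbed.fix_unique hH.se hu.1 (by rw [smul_smul, h.eq, mul_smul, hue]) hue
  have hWe : ¬ W ≤ st e := fun h => (hW.fix e h).elim hea heb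
  have hMe : ¬ M ≤ st e := fun h => hWe (hWU.trans h)
  have hM : M ≠ ⊤ := hH.centralizer_ne_top hUne hUa
  by_cases hp : Core.HasPair M
  · have hb : ¬ Centre M b := fun h => ha (by
      have := h.smul huU
      rwa [hu.symm.2] at this)
    have hnot : ∀ p, Centre M p → ¬ M ≤ st p := fun p hp' hle => by
      rcases hfix p (hPU.trans hle) with h | h
      · exact ha (h ▸ hp')
      · exact hb (h ▸ hp')
    set K := Finset.univ.filter (fun k : G => k ∈ M ∧ orderOf k = 2)
    have hmem : ∀ g, g ∈ K ↔ g ∈ M ∧ orderOf g = 2 := fun g => by simp [K]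
    have hK : q ∣ K.card := by
      have h := Commuting.card_modEq_centralizer hP (fun k => k ∈ K) fun x hx k hk =>
        (hmem _).2 ⟨mul_mem (mul_mem (hPU hx) ((hmem k).1 hk).1) (inv_mem (hPU hx)),
          by rw [Invol.orderOf_conj_eq, ((hmem k).1 hk).2]⟩
      haveI : IsEmpty {k : G // k ∈ K ∧ k ∈ centralizer (P : Set G)} := by
        refine ⟨fun k => ?_⟩
        obtain ⟨hkM, hk2⟩ := (hmem _).1 k.2.1
        obtain ⟨p, hp'⟩ := StrongEmbed.exists_fix hH.se hk2
        have hle : P ≤ st p := fun x hx => by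
          show x • p = p
          refine StrongEmbed.fix_unique hH.se hk2 ?_ hp'
          rw [smul_smul, ← (mem_centralizer_iff.1 k.2.2 x hx), mul_smul, hp']
        rcases hfix p hle with h | h
        · exact ha (h ▸ ⟨k.1, hkM, hk2, hp'⟩)
        · exact hb (h ▸ ⟨k.1, hkM, hk2, hp'⟩)
      rw [Nat.card_of_isEmpty (α := {k : G // k ∈ K ∧ k ∈ centralizer (P : Set G)})] at h
      have h' := Nat.modEq_zero_iff_dvd.1 h
      rwa [Nat.card_eq_fintype_card, Fintype.card_coe] at h'
    refine hH.false_of_sum hα hM hp hce hMe ha (q := q) (fun p hp' h => ?_) ?_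
    · rw [(ZMod.natCast_eq_zero_iff _ _).2 hK, ZMod.natCast_eq_zero_iff] at h
      exact hH.not_dvd_card_at hα hM hp hqodd ha hb hP hPU hfix hp' (hnot p hp') h
    · intro f l hsupp hf hl
      funext x
      by_contra hx
      obtain ⟨g, hg, rfl⟩ := hsupp x hx
      have hga : U ≤ st (g • a) := fun y hy => by
        show y • g • a = g • a
        rw [smul_smul, mem_centralizer_iff.1 hg y hy, mul_smul, show y • a = a from hUa hy]
      refine hx (hprin.eq_zero_of_sum hU hUab K (fun k hk => ((hmem k).1 hk).1)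
        (fun k hk c hc => (hmem _).2 ⟨mul_mem (mul_mem hc ((hmem k).1 hk).1) (inv_mem hc),
          by rw [Invol.orderOf_conj_eq, ((hmem k).1 hk).2]⟩) f l hl (fun w _ => ?_) hga)
      rw [← hf w]
      refine Finset.sum_congr rfl fun k hk => ?_
      rw [Invol.inv_eq_self ((hmem k).1 hk).2]
  · obtain ⟨S, hS1, hS2⟩ := hS hp
    set O := (Cfsg.oddCore M).map M.subtype with hO
    have hWO : W ≤ O := fun w hw => mem_oddCore_of_not_pair hp huU hu.1 (hWU hw)
      (hH.odd_of_mem hW.ne (hW.le hw)) (hinv u hu w hw)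
    have hqW : ¬ q ∣ Nat.card W := by
      intro h
      haveI : Fact r.Prime := ⟨hW.prime⟩
      obtain ⟨k, hk⟩ := IsPGroup.iff_card.1 hW.isPGroup
      rw [hk] at h
      exact hqr ((Nat.prime_dvd_prime_iff_eq Fact.out hW.prime).1
        ((Fact.out : q.Prime).dvd_of_dvd_pow h))
    have h1 := coreq_sub (odd_core M) hS1 hWO hqW (hS2.trans hW.normal)
    refine hWe (h1.trans (hprin.le_fix hU hUab ((map_subtype_le _).trans (map_subtype_le _))
      (le_normalizer_pPrimeCore (le_normalizer_core M)) ?_ hUe))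
    rw [card_map_of_injective (Subgroup.subtype_injective _)]
    exact (Fact.out : q.Prime).coprime_iff_not_dvd.1
      (CfsgLib.Solvable.coprime_card_pPrimeCore q).symm

end Hyp

end CfsgLib.Bender.NC
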