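import Cfsg.Agent.Bender.NC.Inverted
import Cfsg.Agent.Bender.NC.Pairing

/-!
Bender's theorem, noncommuting branch: a proper subgroup with commuting involutions and a point
which is no centre, whose class sum of involutions acts nilpotently on the orbit of that point.
-/

set_option autoImplicit false
set_option linter.unusedSectionVars false
set_option linter.style.haveILetI false

namespace CfsgLib.Bender.NC

open Subgroup
open CfsgLib.FusionLift (cj mem_cj card_cj)
open CfsgLib.Bender.GSide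

universe u

variable {G : Type u} [Group G] [Finite G] {H : Subgroup G}

open Classical in
/-- The indicator of the translates of `a` by the elements of `M` carrying `s` to `i`. -/
noncomputable def orbitInd (q : ℕ) (M : Subgroup G) (a : G ⧸ H) (s i : G) (x : G ⧸ H) : ZMod q :=
  if ∃ g ∈ M, g * s * g⁻¹ = i ∧ g • a = x then 1 else 0

theorem orbitInd_smul (q : ℕ) {M : Subgroup G} (a : G ⧸ H) (s i : G) {k : G} (hk : k ∈ M)
    (x : G ⧸ H) : orbitInd q M a s (k * i * k⁻¹) x = orbitInd q M a s i (k⁻¹ • x) := by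
  classical
  unfold orbitInd
  refine if_congr ⟨?_, ?_⟩ rfl rfl
  · rintro ⟨g, hg, e, rfl⟩
    refine ⟨k⁻¹ * g, mul_mem (inv_mem hk) hg, ?_, by rw [mul_smul]⟩
    calc k⁻¹ * g * s * (k⁻¹ * g)⁻¹ = k⁻¹ * (g * s * g⁻¹) * k := by group
      _ = i := by rw [e]; group
  · rintro ⟨g, hg, e, h⟩
    refine ⟨k * g, mul_mem hk hg, ?_, by rw [mul_smul, h, smul_inv_smul]⟩
    calc k * g * s * (k * g)⁻¹ = k * (g * s * g⁻¹) * k⁻¹ := by group
      _ = _ := by rw [e]

section Hyp

variable (hH : Hyp H) {r : ℕ} (hα : Alpha H r)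
include hH hα

/-- The involutions at one point of a proper subgroup with commuting involutions commute. -/
theorem Hyp.commute_at {M : Subgroup G} (hM : M ≠ ⊤) (hp : Core.HasPair M) {c : G ⧸ H}
    (hc : Centre M c) (hMc : ¬ M ≤ st c) {i k : G} (hi : i ∈ M) (hk : k ∈ M) (hi2 : orderOf i = 2)
    (hk2 : orderOf k = 2) {p : G ⧸ H} (hip : i • p = p) (hkp : k • p = p) : Commute i k := by
  set i' : M := ⟨i, hi⟩
  set k' : M := ⟨k, hk⟩
  obtain ⟨m, hm⟩ := hH.exists_of_centre hc hMc ⟨i, hi, hi2, hip⟩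
  have h1 : proj M i' • locPt M c m = locPt M c m :=
    (hH.smul_locPt_iff hp hc).2 (by rw [hm]; exact hip)
  have h2 : proj M k' • locPt M c m = locPt M c m :=
    (hH.smul_locPt_iff hp hc).2 (by rw [hm]; exact hkp)
  have h3 := (hH.loc_hyp hM hp hc hMc).comm _ _ _ (proj_invol (t := i') hi2)
    (proj_invol (t := k') hk2) h1 h2
  have h4 : orderOf ((k' * i' * k'⁻¹ : M) : G) = 2 := by
    rw [show ((k' * i' * k'⁻¹ : M) : G) = k * i * k⁻¹ from rfl, Invol.orderOf_conj_eq, hi2]
  have h5 := hH.eq_of_proj_eq hα hp hc hMc h4 (w := i') hi2 (by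
    rw [map_mul, map_mul, map_inv, ← h3.eq, mul_inv_cancel_right])
  exact (mul_inv_eq_iff_eq_mul.1 (congrArg Subtype.val h5)).symm

open Classical in
/-- The sum of a function over the conjugates of `i` by all involutions. -/
theorem Hyp.sum_conj {M : Subgroup G} (hM : M ≠ ⊤) (hp : Core.HasPair M) {c : G ⧸ H}
    (hc : Centre M c) (hMc : ¬ M ≤ st c) [Fintype G] {R : Type*} [CommRing R] (f : G → R) {i : G}
    (hi : i ∈ M) (hi2 : orderOf i = 2) {p : G ⧸ H} (hip : i • p = p) :
    ∑ k ∈ Finset.univ.filter (fun k => k ∈ M ∧ orderOf k = 2), f (k * i * k⁻¹) =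
      ((Finset.univ.filter (fun k : G => k ∈ M ∧ orderOf k = 2)).filter
          (fun k : G => k • p = p)).card • f i +
        ∑ j ∈ (Finset.univ.filter (fun k : G => k ∈ M ∧ orderOf k = 2)).filter
          (fun j : G => ¬ j • p = p), f j := by
  rw [← Finset.sum_filter_add_sum_filter_not _ (fun k : G => k • p = p)]
  congr 1
  · rw [← Finset.sum_const]
    refine Finset.sum_congr rfl fun k hk => ?_
    simp only [Finset.mem_filter, Finset.mem_univ, true_and] at hk
    obtain ⟨⟨hkM, hk2⟩, hkp⟩ := hk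
    rw [← (hH.commute_at hα hM hp hc hMc hi hkM hi2 hk2 hip hkp).eq, mul_inv_cancel_right]
  · refine Finset.sum_bij (fun k _ => k * i * k⁻¹) ?_ ?_ ?_ fun _ _ => rfl
    · intro k hk
      simp only [Finset.mem_filter, Finset.mem_univ, true_and] at hk ⊢
      obtain ⟨⟨hkM, hk2⟩, hkp⟩ := hk
      refine ⟨⟨mul_mem (mul_mem hkM hi) (inv_mem hkM), by rw [Invol.orderOf_conj_eq, hi2]⟩,
        fun h => hkp ?_⟩
      exact (hH.centre_unique (InvAt.smul ⟨hi2, hip⟩ k) h).symm
    · intro k hk k' hk' e
      simp only [Finset.mem_filter, Finset.mem_univ, true_and] at hk hk'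
      obtain ⟨⟨hkM, hk2⟩, hkp⟩ := hk
      obtain ⟨⟨hkM', hk2'⟩, hkp'⟩ := hk'
      have hne : p ≠ k • p := fun h => hkp h.symm
      have hkk : k' • p = k • p := (hH.centre_unique (InvAt.smul ⟨hi2, hip⟩ k)
        (by rw [e]; exact (InvAt.smul ⟨hi2, hip⟩ k').2)).symm ▸ rfl
      have hinv : Inverted p (k • p) k (k' * k) := by
        refine ⟨mem_inf.2 ⟨?_, ?_⟩, ?_⟩
        · show (k' * k) • p = p
          rw [mul_smul, GSide.swap_back hk2' hkk]
        · show (k' * k) • k • p = k • p
          rw [mul_smul, GSide.swap_back hk2 rfl, hkk]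
        · rw [mul_inv_rev, Invol.inv_eq_self hk2, Invol.inv_eq_self hk2', ← mul_assoc,
            mul_assoc (k * k'), Invol.mul_self_eq_one hk2, mul_one]
      have hcm : Commute i (k' * k) := by
        show i * (k' * k) = k' * k * i
        calc i * (k' * k) = k' * (k' * i * k'⁻¹) * k := by
              rw [Invol.inv_eq_self hk2', ← mul_assoc k', ← mul_assoc k',
                Invol.mul_self_eq_one hk2', one_mul, mul_assoc]
          _ = k' * (k * i * k⁻¹) * k := by rw [← e]
          _ = k' * k * i := by group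
      have h1 : k' * k = 1 := by
        by_contra h1
        exact hH.not_commute_of_inverted hne ⟨hk2, rfl⟩ hinv h1 ⟨hi2, hip⟩ hcm
      rw [eq_inv_of_mul_eq_one_left h1, Invol.inv_eq_self hk2]
    · intro j hj
      simp only [Finset.mem_filter, Finset.mem_univ, true_and] at hj
      obtain ⟨⟨hjM, hj2⟩, hjp⟩ := hj
      have hodd : Odd (orderOf (i * j)) := by
        by_contra hev
        rw [Nat.not_odd_iff_even] at hev
        obtain ⟨hd2, hdv, hdu⟩ := Invol.half_props hi2 hj2 hev
        obtain ⟨q, hq⟩ := StrongEmbed.exists_fix hH.se hd2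
        have h1 : i • q = q := StrongEmbed.fix_unique hH.se hd2
          (by rw [smul_smul, hdv.eq, mul_smul, hq]) hq
        have h2 : j • q = q := StrongEmbed.fix_unique hH.se hd2
          (by rw [smul_smul, hdu.eq, mul_smul, hq]) hq
        obtain rfl := hH.centre_unique ⟨hi2, hip⟩ h1
        exact hjp h2
      obtain ⟨n, hn⟩ := Invol.exists_pow_conj_of_odd hi2 hj2 hodd
      set d := (i * j) ^ n
      have hdM : d ∈ M := pow_mem (mul_mem hi hjM) n
      have hconj : d * i * i * (d * i)⁻¹ = j := by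
        rw [mul_assoc d i i, Invol.mul_self_eq_one hi2, mul_one, mul_inv_rev,
          Invol.inv_eq_self hi2, ← mul_assoc, hn]
      have hinv : i * d * i⁻¹ = d⁻¹ := by
        rw [← conj_pow, ← inv_pow]
        congr 1
        rw [mul_inv_rev, Invol.inv_eq_self hi2, Invol.inv_eq_self hj2, ← mul_assoc,
          Invol.mul_self_eq_one hi2, one_mul]
      have hsq : d * i * (d * i) = 1 := by
        calc d * i * (d * i) = d * (i * d * i⁻¹) * (i * i) := by group
          _ = 1 := by rw [hinv, mul_inv_cancel, one_mul, Invol.mul_self_eq_one hi2]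
      have hdi : orderOf (d * i) = 2 := by
        refine Invol.orderOf_eq_two hsq fun h => hjp ?_
        rw [h, one_mul, inv_one, mul_one] at hconj
        rwa [← hconj]
      refine ⟨d * i, ?_, hconj⟩
      simp only [Finset.mem_filter, Finset.mem_univ, true_and]
      refine ⟨⟨mul_mem hdM hi, hdi⟩, fun h => hjp ?_⟩
      have h2 := (InvAt.smul (a := p) ⟨hi2, hip⟩ (d * i)).2
      rwa [hconj, h] at h2

open Classical in
/-- A point which is no centre of `M` cannot lie in a set on which the class sum of the involutions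
of `M` has the single eigenvalue given by their number, if `q` divides that number but not the
number of involutions at a point. -/
theorem Hyp.false_of_sum {M : Subgroup G} (hM : M ≠ ⊤) (hp : Core.HasPair M) {c : G ⧸ H}
    (hc : Centre M c) (hMc : ¬ M ≤ st c) {a : G ⧸ H} (ha : ¬ Centre M a) {q : ℕ} [Fintype G]
    (hq : ∀ p : G ⧸ H, Centre M p →
      ((Finset.univ.filter (fun k : G => k ∈ M ∧ orderOf k = 2 ∧ k • p = p)).card : ZMod q) ≠
        (Finset.univ.filter (fun k : G => k ∈ M ∧ orderOf k = 2)).card)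
    (hsum : ∀ (f : G ⧸ H → ZMod q) (l : ZMod q),
      (∀ x, f x ≠ 0 → ∃ g ∈ M, g • a = x) →
      (∀ x, ∑ k ∈ Finset.univ.filter (fun k : G => k ∈ M ∧ orderOf k = 2), f (k⁻¹ • x) = l * f x) →
      l ≠ (Finset.univ.filter (fun k : G => k ∈ M ∧ orderOf k = 2)).card → f = 0) : False := by
  set K := Finset.univ.filter (fun k : G => k ∈ M ∧ orderOf k = 2) with hK
  have hkey : ∀ p : G ⧸ H, ∀ s t : G, s ∈ M → t ∈ M → InvAt p s → InvAt p t →
      ∃ x ∈ M ⊓ st a, x • p = p ∧ x * s * x⁻¹ = t := by
    intro p s t hs ht hsp htp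
    set l : ZMod q :=
      ((Finset.univ.filter (fun k : G => k ∈ M ∧ orderOf k = 2 ∧ k • p = p)).card : ZMod q)
    have hsupp : ∀ i x, orbitInd q M a s i x ≠ 0 → ∃ g ∈ M, g • a = x := by
      intro i x hx
      unfold orbitInd at hx
      split_ifs at hx with h
      · obtain ⟨g, hg, -, e⟩ := h
        exact ⟨g, hg, e⟩
      · exact absurd rfl hx
    have h := hsum (fun x => orbitInd q M a s s x - orbitInd q M a s t x) l (fun x hx => ?_)
      (fun x => ?_) (hq p ⟨s, hs, hsp⟩)
    · have h0 := congrFun h a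
      have h1 : orbitInd q M a s s a = 1 := by
        unfold orbitInd
        rw [if_pos ⟨1, one_mem _, by group, one_smul _ _⟩]
      rw [h1] at h0
      have h2 : ∃ g ∈ M, g * s * g⁻¹ = t ∧ g • a = a := by
        by_contra hno
        have : orbitInd q M a s t a = 0 := if_neg hno
        rw [this, sub_zero] at h0
        refine absurd h0 ?_
        have hq1 : q ≠ 1 := by
          rintro rfl
          exact hq p ⟨s, hs, hsp⟩ (Subsingleton.elim _ _)
        rcases (show q = 0 ∨ 1 < q by omega) with rfl | h1'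
        · exact one_ne_zero
        · haveI : Fact (1 < q) := ⟨h1'⟩
          exact one_ne_zero
      obtain ⟨g, hg, e, hga⟩ := h2
      exact ⟨g, ⟨hg, hga⟩, hH.centre_unique htp (e ▸ (hsp.smul g).2), e⟩
    · by_cases h1 : orbitInd q M a s s x = 0
      · exact hsupp t x fun h2 => hx (by rw [h1, h2, sub_zero])
      · exact hsupp s x h1
    · have hs' := hH.sum_conj hα hM hp hc hMc (fun i => orbitInd q M a s i x) hs hsp.1 hsp.2
      have ht' := hH.sum_conj hα hM hp hc hMc (fun i => orbitInd q M a s i x) ht htp.1 htp.2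
      have e : ∀ i, ∑ k ∈ K, orbitInd q M a s i (k⁻¹ • x) =
          ∑ k ∈ K, orbitInd q M a s (k * i * k⁻¹) x := fun i => Finset.sum_congr rfl fun k hk =>
        (orbitInd_smul q a s i (Finset.mem_filter.1 hk).2.1 x).symm
      rw [Finset.sum_sub_distrib, e, e, hs', ht', add_sub_add_right_eq_sub, nsmul_eq_mul,
        nsmul_eq_mul, ← mul_sub]
      congr 2
      rw [Finset.filter_filter]
      exact congrArg Finset.card (Finset.filter_congr fun k _ => and_assoc)
  set A := ((M ⊓ st a).subgroupOf M).map (proj M) with hA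
  have hAodd : Odd (Nat.card A) := by
    refine Odd.of_dvd_nat ?_ (card_map_dvd _ (proj M))
    by_contra hev
    obtain ⟨y, hy⟩ := exists_prime_orderOf_dvd_card' (G := (M ⊓ st a).subgroupOf M) 2
      (even_iff_two_dvd.1 (Nat.not_odd_iff_even.1 hev))
    rw [← Subgroup.orderOf_coe, ← Subgroup.orderOf_coe] at hy
    have ho := odd_of_no_centre ha (y.1).2 (mem_subgroupOf.1 y.2).2
    rw [hy] at ho
    exact absurd ho (by decide)
  refine no_pairing (hH.loc_hyp hM hp hc hMc) (hH.loc_shape hM hp hc hMc) hAodd fun P s t hs ht => ?_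
  obtain ⟨y, hy⟩ := QuotientGroup.mk_surjective P
  obtain ⟨n, rfl⟩ := QuotientGroup.mk'_surjective (Cfsg.oddCore M) y
  subst hy
  obtain ⟨s', hs', rfl⟩ := exists_lift_invol hs.1
  obtain ⟨t', ht', rfl⟩ := exists_lift_invol ht.1
  have hsc := (hH.smul_locPt_iff hp hc).1 hs.2
  have htc := (hH.smul_locPt_iff hp hc).1 ht.2
  obtain ⟨x, hx, hxp, e⟩ := hkey ((n : G) • c) s' t' s'.2 t'.2
    ⟨by rwa [Subgroup.orderOf_coe], hsc⟩ ⟨by rwa [Subgroup.orderOf_coe], htc⟩
  refine ⟨proj M ⟨x, hx.1⟩, ⟨⟨x, hx.1⟩, hx, rfl⟩, (hH.smul_locPt_iff hp hc).2 hxp, ?_⟩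
  rw [← map_inv, ← map_mul, ← map_mul]
  exact congrArg _ (Subtype.ext e)

end Hyp

end CfsgLib.Bender.NC
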