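import Cfsg.Agent.Bender.StLemma
import Cfsg.Agent.Blocks.Transport
import Cfsg.Agent.Blocks.Principal

/-!
Permutation characters all of whose constituents lie in the principal block: inheritance to
centralizers of `p`-elements, the core of order prime to `p` and class sums modulo `p`.
-/

set_option autoImplicit false
set_option linter.unusedSectionVars false
set_option linter.style.haveILetI false

namespace CfsgLib.Bender.NC.PermBlock

open Cfsg Finset CfsgLib.Block CfsgLib.Block.Chr CfsgLib.Char MulAction
open scoped ComplexConjugate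

universe u v w

/-- The permutation character of `C` on `S`. -/
noncomputable def permFun (C : Type u) [Group C] (S : Type v) [MulAction C S] : C → ℂ :=
  fun c => (Nat.card (fixedBy S c) : ℂ)

/-- All constituents of the permutation character of `C` on `S` lie in the principal block. -/
def AllPrincipal (M : Ideal AlgInt) (C : Type u) [Group C] [Finite C] (S : Type v)
    [MulAction C S] : Prop :=
  haveI := Fintype.ofFinite C
  ∀ ξ : IrrCharacter C, classInner (permFun C S) (ξ : C → ℂ) ≠ 0 → ξ ∈ principalBlock M C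

variable {C : Type u} [Group C] [Fintype C] {S : Type v} [MulAction C S] {p : ℕ}
  {M : Ideal AlgInt}

theorem allPrincipal_iff : AllPrincipal M C S ↔
    ∀ ξ : IrrCharacter C, classInner (permFun C S) (ξ : C → ℂ) ≠ 0 → ξ ∈ principalBlock M C := by
  unfold AllPrincipal
  simp only [classInner]
  rw [Subsingleton.elim (Fintype.ofFinite C) ‹Fintype C›]

theorem permFun_isCharacter [Finite S] : IsCharacter C (permFun C S) := by
  classical
  haveI : Fintype (orbitRel.Quotient C S) := Fintype.ofFinite _
  show IsCharacter C fun c => (Nat.card (fixedBy S c) : ℂ)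
  rw [fixedBy_eq_sum_orbits]
  exact isCharacter_sum _ fun q _ => by
    haveI : Fintype (stabilizer C q.out) := Fintype.ofFinite _
    exact IsCharacter.indFun isCharacter_one

theorem permFun_classFun [Finite S] : IsClassFunction C (permFun C S) := fun g h => by
  unfold permFun
  refine congrArg Nat.cast (Nat.card_congr
    { toFun := fun s => ⟨h⁻¹ • s.1, ?_⟩
      invFun := fun s => ⟨h • s.1, ?_⟩
      left_inv := fun s => Subtype.ext (smul_inv_smul h s.1)
      right_inv := fun s => Subtype.ext (inv_smul_smul h s.1) })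
  · have hs : (h * g * h⁻¹) • s.1 = s.1 := s.2
    show g • h⁻¹ • s.1 = h⁻¹ • s.1
    rw [eq_inv_smul_iff, ← mul_smul, ← mul_smul]
    exact hs
  · have hs : g • s.1 = s.1 := s.2
    show (h * g * h⁻¹) • h • s.1 = h • s.1
    rw [← mul_smul, inv_mul_cancel_right, mul_smul, hs]

variable [M.IsPrime]

/-- Transport along compatible bijections. -/
theorem AllPrincipal.of_equiv {C' : Type w} [Group C'] [Fintype C'] {S' : Type*} [MulAction C' S']
    (e : C' ≃* C) (φ : S' ≃ S) (hφ : ∀ (c : C') (s : S'), φ (c • s) = e c • φ s)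
    (h : AllPrincipal M C S) : AllPrincipal M C' S' := by
  rw [allPrincipal_iff] at h ⊢
  intro ξ hξ
  set ξ₀ := irrComp e.symm ξ with hξ₀
  have hπ : ∀ c : C', permFun C' S' c = permFun C S (e c) := fun c =>
    congrArg Nat.cast (Nat.card_congr (φ.subtypeEquiv fun s => by
      show c • s = s ↔ e c • φ s = φ s
      rw [← hφ, φ.injective.eq_iff]))
  have hin : classInner (permFun C' S') (ξ : C' → ℂ) = classInner (permFun C S) (ξ₀ : C → ℂ) := by
    rw [classInner, classInner, Nat.card_congr e.toEquiv]
    congr 1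
    rw [← e.toEquiv.sum_comp]
    refine Fintype.sum_congr _ _ fun c => ?_
    rw [hπ, hξ₀, irrComp_coe]
    simp
  have h1 : SameBlock M (oneIrr C : C → ℂ) (ξ₀ : C → ℂ) := h ξ₀ (hin ▸ hξ)
  have h2 := (sameBlock_irrComp e (oneIrr C) ξ₀).2 h1
  rwa [hξ₀, irrComp_symm' e ξ] at h2

variable [Finite S]

/-- The property passes to the centralizer of a `p`-element on its fixed points. -/
theorem AllPrincipal.inherit (hM : IsPModular p M) (h : AllPrincipal M C S) {x : C} {k : ℕ}
    (hx : orderOf x = p ^ k) :
    AllPrincipal M (Subgroup.centralizer ({x} : Set C)) (St.fixSub S x) := by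
  classical
  haveI : Fintype (Subgroup.centralizer ({x} : Set C)) := Fintype.ofFinite _
  letI := irrFintype (G := C)
  letI := irrFintype (G := Subgroup.centralizer ({x} : Set C))
  haveI : Fact p.Prime := ⟨hM.1⟩
  rw [allPrincipal_iff] at h ⊢
  intro ξ hξ
  by_contra hB
  set b := blockOf M (ξ : Subgroup.centralizer ({x} : Set C) → ℂ) with hbdef
  have hb : IsPBlock M b := isPBlock_blockOf ξ
  have hnot : ¬ IsInducedBlock M (Subgroup.centralizer ({x} : Set C)) b (principalBlock M C) :=
    fun hind => hB ((third_main hM (centralizer_induced hM hx hb)).1 hind ▸ mem_blockOf_self ξ)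
  have hone : ¬ p ∣ orderOf (1 : Subgroup.centralizer ({x} : Set C)) := by
    rw [orderOf_one]; exact hM.1.not_dvd_one
  have h0 : blockPart b (permFun (Subgroup.centralizer ({x} : Set C)) (St.fixSub S x)) 1 = 0 := by
    rw [blockPart_congr_regular hM hb (θ' := fun c : Subgroup.centralizer ({x} : Set C) =>
      ∑ χ : IrrCharacter C, classInner (permFun C S) (χ : C → ℂ) * (χ : C → ℂ) (x * (c : C)))
      (fun c hc => ?_) hone, blockPart_sum_mul]
    · refine sum_eq_zero fun χ _ => ?_
      by_cases hm : classInner (permFun C S) (χ : C → ℂ) = 0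
      · rw [hm, zero_mul]
      · rw [blockPart_eq_zero_of_not_induced hM hx isPBlock_principalBlock (h χ hm) hb hnot 1 hone,
          mul_zero]
    · rw [← classFun_expand permFun_classFun]
      exact congrArg Nat.cast (St.card_fixedBy_mul hM.1 hx c hc).symm
  have hnat : ∀ φ : IrrCharacter (Subgroup.centralizer ({x} : Set C)), ∃ m : ℕ,
      classInner (permFun (Subgroup.centralizer ({x} : Set C)) (St.fixSub S x)) (φ : _ → ℂ) = m :=
    fun φ => IsCharacter.exists_classInner_eq_natCast permFun_isCharacter φ.2
  choose m hm using hnat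
  rw [blockPart_eq_sum_inner, sum_congr rfl fun φ _ => show _ = ((m φ * charDegree
    (φ : Subgroup.centralizer ({x} : Set C) → ℂ) : ℕ) : ℂ) by rw [hm, (irr_one φ).1, Nat.cast_mul],
    ← Nat.cast_sum, Nat.cast_eq_zero, sum_eq_zero_iff] at h0
  refine hξ ?_
  rw [hm ξ, Nat.cast_eq_zero]
  exact (Nat.mul_eq_zero.1 (h0 ξ (mem_filter.2 ⟨mem_univ _, mem_blockOf_self ξ⟩))).resolve_right
    (irr_one ξ).2.ne'

/-- The core of order prime to `p` acts trivially. -/
theorem AllPrincipal.core_fix (hM : IsPModular p M) (h : AllPrincipal M C S) {g : C}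
    (hg : g ∈ pPrimeCore p C) (s : S) : g • s = s := by
  classical
  letI := irrFintype (G := C)
  haveI : Fact p.Prime := ⟨hM.1⟩
  haveI : (pPrimeCore p C).Normal := CfsgLib.Solvable.pPrimeCore_normal p
  rw [allPrincipal_iff] at h
  have hN : ¬ p ∣ Nat.card (pPrimeCore p C) := hM.1.coprime_iff_not_dvd.1
    (CfsgLib.Solvable.coprime_card_pPrimeCore p).symm
  have he : permFun C S g = permFun C S 1 := by
    rw [classFun_expand permFun_classFun g, classFun_expand permFun_classFun 1]
    refine sum_congr rfl fun χ _ => ?_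
    by_cases hm : classInner (permFun C S) (χ : C → ℂ) = 0
    · rw [hm, zero_mul, zero_mul]
    · rw [blockOf_subset_normal hM (pPrimeCore p C) hN (χ := oneIrr C) (fun _ _ => rfl) (h χ hm)
        g hg]
  simp only [permFun, Nat.cast_inj] at he
  have hall : fixedBy S g = fixedBy S (1 : C) :=
    Set.eq_of_subset_of_ncard_le (fun t _ => one_smul C t)
      (by rw [← Nat.card_coe_set_eq, ← Nat.card_coe_set_eq, he]) (Set.toFinite _)
  exact (hall.symm ▸ one_smul C s : s ∈ fixedBy S g)

/-- A class function whose central character vanishes at all constituents acts as zero. -/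
theorem sum_smul_eq_zero {b : C → ℂ} (hb : IsClassFunction C b)
    (hω : ∀ χ : IrrCharacter C, classInner (permFun C S) (χ : C → ℂ) ≠ 0 →
      omega (χ : C → ℂ) b = 0) (F : S → ℂ) (s : S) : ∑ g : C, b g * F (g • s) = 0 := by
  classical
  letI := irrFintype (G := C)
  haveI : Fintype S := Fintype.ofFinite _
  have hu : ∀ u : C, ∑ g : C, b g * permFun C S (g * u) = 0 := by
    intro u
    simp only [classFun_expand permFun_classFun, mul_sum]
    rw [sum_comm]
    refine sum_eq_zero fun χ _ => ?_
    by_cases hm : classInner (permFun C S) (χ : C → ℂ) = 0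
    · simp [hm]
    · have hz : ∑ g : C, b g * (χ : C → ℂ) g = 0 :=
        (div_eq_zero_iff.1 (hω χ hm)).resolve_right (irr_one_ne_zero χ)
      have h1 := class_mul χ hb fun k => if k = u then 1 else 0
      rw [hz, zero_mul] at h1
      simp only [mul_ite, mul_one, mul_zero, ite_mul, zero_mul, sum_ite_eq', mem_univ, if_true]
        at h1
      have h2 := (mul_eq_zero.1 h1).resolve_right (irr_one_ne_zero χ)
      calc ∑ g : C, b g * (classInner (permFun C S) (χ : C → ℂ) * (χ : C → ℂ) (g * u))
          = classInner (permFun C S) (χ : C → ℂ) * ∑ g : C, b g * (χ : C → ℂ) (g * u) := by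
            rw [mul_sum]; exact sum_congr rfl fun g _ => by ring
        _ = 0 := by rw [h2, mul_zero]
  set B : S → S → ℂ := fun r t => ∑ g ∈ univ.filter (fun g : C => g • r = t), b g with hBdef
  have hsum : ∑ r : S, ∑ t : S, B r t * conj (B r t) = 0 := by
    have h1 : ∀ r : S, ∑ t : S, B r t * conj (B r t) =
        ∑ h : C, ∑ g : C, if g • r = h • r then b g * conj (b h) else 0 := by
      intro r
      simp only [hBdef, map_sum, mul_sum, sum_filter]
      rw [sum_comm]
      refine sum_congr rfl fun h _ => ?_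
      rw [sum_eq_single (h • r) (fun t _ ht => by simp [Ne.symm ht]) (by simp), if_pos rfl, sum_mul]
      exact sum_congr rfl fun g _ => by split_ifs <;> simp [apply_ite]
    simp only [h1]
    rw [sum_comm]
    refine sum_eq_zero fun h _ => ?_
    rw [sum_comm]
    have h2 : ∀ g : C, (∑ r : S, if g • r = h • r then b g * conj (b h) else 0) =
        conj (b h) * (b g * permFun C S (g * h⁻¹)) := by
      intro g
      rw [← sum_filter, sum_const, nsmul_eq_mul,
        classFun_mul_comm permFun_classFun g h⁻¹, permFun, Nat.card_eq_fintype_card,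
        Fintype.card_subtype]
      rw [show (univ.filter fun r => g • r = h • r) =
        univ.filter (fun r => r ∈ fixedBy S (h⁻¹ * g)) from filter_congr fun r _ => by
          rw [mem_fixedBy, mul_smul, inv_smul_eq_iff]]
      ring
    simp only [h2]
    rw [← mul_sum, hu, mul_zero]
  have hzero : ∀ r t, B r t = 0 := by
    have hre : ∑ r : S, ∑ t : S, Complex.normSq (B r t) = 0 := by
      have := congrArg Complex.re hsum
      simpa [Complex.mul_conj] using this
    intro r t
    refine Complex.normSq_eq_zero.1 ?_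
    exact (sum_eq_zero_iff_of_nonneg fun _ _ => Complex.normSq_nonneg _).1
      ((sum_eq_zero_iff_of_nonneg fun _ _ => sum_nonneg fun _ _ => Complex.normSq_nonneg _).1 hre
        r (mem_univ _)) t (mem_univ _)
  rw [← sum_fiberwise univ (fun g : C => g • s) fun g => b g * F (g • s)]
  refine sum_eq_zero fun t _ => ?_
  rw [sum_congr rfl fun g hg => show b g * F (g • s) = F t * b g by
    rw [(mem_filter.1 hg).2, mul_comm], ← mul_sum]
  exact mul_eq_zero_of_right _ (hzero s t)

/-- The product of `a - ω_χ(a)` over a set of characters whose values at `a` lie in the ideal. -/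
theorem exists_annihilator {a : C → ℂ} (ha : IsIntClass M a) (T : Finset (IrrCharacter C))
    (hT : ∀ χ ∈ T, MemLocalIdeal M (omega (χ : C → ℂ) a)) :
    ∃ P : C → ℂ, IsIntClass M P ∧ (∀ g, MemLocalIdeal M (P g - convPow a T.card g)) ∧
      ∀ χ ∈ T, omega (χ : C → ℂ) P = 0 := by
  classical
  induction T using Finset.induction_on with
  | empty =>
    exact ⟨deltaOne, isIntClass_deltaOne, fun g => by
      show MemLocalIdeal M (deltaOne g - deltaOne g)
      rw [sub_self]; exact memLocalIdeal_zero, fun χ hχ => absurd hχ (notMem_empty χ)⟩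
  | insert χ T hχ ih =>
    obtain ⟨P, hP, hPa, hPω⟩ := ih fun ψ hψ => hT ψ (mem_insert_of_mem hψ)
    have hw := hT χ (mem_insert_self χ T)
    refine ⟨conv a P + (-omega (χ : C → ℂ) a) • P, isIntClass_add_smul (isIntClass_conv ha hP) hP
      (memLocalRing_neg (memLocalIdeal_memLocalRing hw)), fun g => ?_, fun ψ hψ => ?_⟩
    · rw [card_insert_of_notMem hχ]
      show MemLocalIdeal M (conv a P g + -omega (χ : C → ℂ) a * P g -
        conv a (convPow a T.card) g)
      rw [add_sub_right_comm]
      refine memLocalIdeal_add ?_ (memLocalIdeal_mul_right (memLocalIdeal_neg hw) (hP.2 g))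
      simp only [conv, ← sum_sub_distrib, ← mul_sub]
      exact memLocalIdeal_sum fun k _ => memLocalIdeal_mul_left (ha.2 k) (hPa _)
    · rw [omega_add, omega_smul, omega_conv ψ ha.1]
      rcases mem_insert.1 hψ with rfl | hψ
      · ring
      · rw [hPω ψ hψ, mul_zero, mul_zero, add_zero]

/-- A class sum `K` has `|K|` as its only eigenvalue modulo `p`. -/
theorem AllPrincipal.eq_zero_of_sum (hM : IsPModular p M) (h : AllPrincipal M C S) (K : Finset C)
    (hK : ∀ g ∈ K, ∀ c : C, c * g * c⁻¹ ∈ K) (f : S → ZMod p) (l : ZMod p) (hl : l ≠ (K.card : ℕ))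
    (hf : ∀ s, ∑ g ∈ K, f (g • s) = l * f s) : f = 0 := by
  classical
  letI := irrFintype (G := C)
  haveI : Fact p.Prime := ⟨hM.1⟩
  rw [allPrincipal_iff] at h
  set aZ : C → ℤ := fun g => (if g ∈ K then 1 else 0) - if g = 1 then (K.card : ℤ) else 0 with haZ
  set a : C → ℂ := fun g => (aZ g : ℂ) with ha'
  have ha : IsIntClass M a := by
    refine ⟨fun g x => ?_, fun g => memLocalRing_of_isIntegral isIntegral_algebraMap⟩
    have h1 : x * g * x⁻¹ ∈ K ↔ g ∈ K :=
      ⟨fun hg => by simpa [mul_assoc] using hK _ hg x⁻¹, fun hg => hK g hg x⟩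
    have h2 : x * g * x⁻¹ = 1 ↔ g = 1 := conj_eq_one_iff
    simp only [ha', haZ, h1, h2]
  set T := univ.filter fun χ : IrrCharacter C => classInner (permFun C S) (χ : C → ℂ) ≠ 0
  have hT : ∀ χ ∈ T, MemLocalIdeal M (omega (χ : C → ℂ) a) := by
    intro χ hχ
    have hsame : SameBlock M (oneIrr C : C → ℂ) (χ : C → ℂ) := h χ (mem_filter.1 hχ).2
    have h0 : omega (oneIrr C : C → ℂ) a = 0 := by
      have hz : ∑ g : C, aZ g = 0 := by simp [haZ, sum_sub_distrib]
      rw [omega, oneIrr_coe]
      simp only [mul_one, div_one, ha', ← Int.cast_sum, hz, Int.cast_zero]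
    have := omega_cong (sameBlock_symm hsame) ha
    rwa [h0, sub_zero] at this
  obtain ⟨P, hP, hPa, hPω⟩ := exists_annihilator ha T hT
  set F : S → ℂ := fun s => (((f s).val : ℤ) : ℂ) with hF
  set μ : ℤ := ((l - (K.card : ZMod p)).val : ℤ) with hμ
  have hval : ∀ z : ZMod p, (((z.val : ℕ) : ℤ) : ZMod p) = z := fun z => by
    rw [Int.cast_natCast, ZMod.natCast_zmod_val]
  have hone : ∀ s, MemLocalIdeal M (∑ g : C, a g * F (g • s) - (μ : ℂ) * F s) := by
    intro s
    have hz : ((∑ g : C, aZ g * ((f (g • s)).val : ℤ) - μ * ((f s).val : ℤ) : ℤ) : ZMod p) = 0 := by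
      rw [Int.cast_sub, Int.cast_sum, Int.cast_mul, hμ, hval, hval,
        sum_congr rfl fun g _ => show ((aZ g * ((f (g • s)).val : ℤ) : ℤ) : ZMod p) =
          (if g ∈ K then f (g • s) else 0) - if g = 1 then (K.card : ZMod p) * f (g • s) else 0 by
          rw [Int.cast_mul, hval]; simp only [haZ]; push_cast; split_ifs <;> ring,
        sum_sub_distrib, sum_ite_mem, univ_inter, hf, sum_ite_eq', if_pos (mem_univ _), one_smul]
      ring
    have h2 := (memLocalIdeal_intCast_iff hM).2 ((ZMod.intCast_zmod_eq_zero_iff_dvd _ p).1 hz)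
    push_cast at h2
    exact h2
  have hpow : ∀ n s, MemLocalIdeal M (∑ g : C, convPow a n g * F (g • s) - (μ : ℂ) ^ n * F s) := by
    intro n
    induction n with
    | zero =>
      intro s
      show MemLocalIdeal M (∑ g : C, deltaOne g * F (g • s) - _)
      rw [sum_eq_single (1 : C) (fun g _ hg => by rw [deltaOne_of_ne hg, zero_mul]) (by simp),
        deltaOne_one, one_smul, one_mul, pow_zero, one_mul, sub_self]
      exact memLocalIdeal_zero
    | succ n ih =>
      intro s
      have hexp : ∑ x : C, convPow a (n + 1) x * F (x • s) =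
          ∑ k : C, convPow a n k * ∑ g : C, a g * F (g • k • s) := by
        show ∑ x : C, (∑ g : C, a g * convPow a n (g⁻¹ * x)) * F (x • s) = _
        simp only [sum_mul, mul_sum]
        rw [sum_comm]
        conv_rhs => rw [sum_comm]
        refine sum_congr rfl fun g _ => ?_
        rw [← Equiv.sum_comp (Equiv.mulLeft g)]
        refine sum_congr rfl fun k _ => ?_
        simp only [Equiv.coe_mulLeft, inv_mul_cancel_left, mul_smul]
        ring
      rw [hexp, show ∑ k : C, convPow a n k * ∑ g : C, a g * F (g • k • s) - (μ : ℂ) ^ (n + 1) * F s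
          = (∑ k : C, convPow a n k * (∑ g : C, a g * F (g • k • s) - (μ : ℂ) * F (k • s))) +
            (μ : ℂ) * (∑ k : C, convPow a n k * F (k • s) - (μ : ℂ) ^ n * F s) by
        simp only [mul_sub, sum_sub_distrib, mul_sum, pow_succ']
        rw [sum_congr rfl fun k _ => mul_left_comm (convPow a n k) (μ : ℂ) (F (k • s))]
        ring]
      exact memLocalIdeal_add
        (memLocalIdeal_sum fun k _ => memLocalIdeal_mul_left ((isIntClass_convPow ha n).2 k)
          (hone _))
        (memLocalIdeal_mul_left (memLocalRing_of_isIntegral isIntegral_algebraMap) (ih s))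
  funext s
  have h3 : MemLocalIdeal M (∑ g : C, convPow a T.card g * F (g • s)) := by
    have h4 : MemLocalIdeal M (∑ g : C, (P g - convPow a T.card g) * F (g • s)) :=
      memLocalIdeal_sum fun g _ => memLocalIdeal_mul_right (hPa g)
        (memLocalRing_of_isIntegral isIntegral_algebraMap)
    simp only [sub_mul, sum_sub_distrib] at h4
    rw [sum_smul_eq_zero hP.1 (fun χ hχ => hPω χ (mem_filter.2 ⟨mem_univ _, hχ⟩)) F s,
      zero_sub] at h4
    simpa using memLocalIdeal_neg h4
  have h5 := memLocalIdeal_sub h3 (hpow T.card s)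
  rw [sub_sub_cancel] at h5
  have h6 : MemLocalIdeal M ((μ ^ T.card * ((f s).val : ℤ) : ℤ) : ℂ) := by push_cast; exact h5
  have h7 := (ZMod.intCast_zmod_eq_zero_iff_dvd _ p).2 ((memLocalIdeal_intCast_iff hM).1 h6)
  rw [Int.cast_mul, Int.cast_pow, hμ, hval, hval] at h7
  exact (mul_eq_zero.1 h7).resolve_left (pow_ne_zero _ (sub_ne_zero.2 hl))

end CfsgLib.Bender.NC.PermBlock
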