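import Cfsg.Agent.Bender.NC.Basic

/-!
Bender's theorem, noncommuting branch: the abelian normal subgroup of a two-point stabilizer used in
the proof, and the case in which the swappers invert it.
-/

set_option autoImplicit false
set_option linter.unusedSectionVars false

namespace CfsgLib.Bender.NC

open Subgroup
open CfsgLib.FusionLift (cj mem_cj card_cj)
open CfsgLib.Bender.GSide

universe u

variable {G : Type u} [Group G] [Finite G] {H : Subgroup G}

/-- No `r`-element fixing the point of an involution is inverted by it. -/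
def RealFreeAt (H : Subgroup G) (r : ℕ) : Prop :=
  ∀ (c : G ⧸ H) (v y : G), InvAt c v → y • c = c → (∃ k, y ^ r ^ k = 1) →
    v * y * v⁻¹ = y⁻¹ → y = 1

/-- The subgroup `W` of the stabilizer of `a` and `b`. -/
structure Good (H : Subgroup G) (r : ℕ) (a b : G ⧸ H) (W : Subgroup G) : Prop where
  ne : a ≠ b
  prime : r.Prime
  odd : Odd r
  dvd : r ∣ Commuting.numInv H
  realFree : RealFreeAt H r
  le : W ≤ st a ⊓ st b
  ne_bot : W ≠ ⊥
  isPGroup : IsPGroup r W
  comm : ∀ v ∈ W, ∀ w ∈ W, v * w = w * v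
  exp : ∀ w ∈ W, w ^ r = 1
  normal : st a ⊓ st b ≤ normalizer (W : Set G)
  minimal : ∀ V : Subgroup G, V ≤ W → V ≠ ⊥ → st a ⊓ st b ≤ normalizer (V : Set G) → V = W
  fix : ∀ c : G ⧸ H, W ≤ st c → c = a ∨ c = b
  no_invol : ∀ t : G, orderOf t = 2 → t ∉ centralizer (W : Set G)

/-- Every pair has such a subgroup inverted by its swappers. -/
def Alpha (H : Subgroup G) (r : ℕ) : Prop :=
  ∀ c d : G ⧸ H, c ≠ d → ∃ W : Subgroup G, Good H r c d W ∧
    ∀ v, Swap c d v → ∀ w ∈ W, v * w * v⁻¹ = w⁻¹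

theorem Good.smul {r : ℕ} {a b : G ⧸ H} {W : Subgroup G} (h : Good H r a b W) (g : G) :
    Good H r (g • a) (g • b) (cj g W) where
  ne := fun e => h.ne (MulAction.injective g e)
  prime := h.prime
  odd := h.odd
  dvd := h.dvd
  realFree := h.realFree
  le := le_inf (le_st_smul (h.le.trans inf_le_left)) (le_st_smul (h.le.trans inf_le_right))
  ne_bot := fun e => h.ne_bot ((map_eq_bot_iff_of_injective _ (MulAut.conj g).injective).1 e)
  isPGroup := h.isPGroup.map _
  comm := by
    rintro _ ⟨v, hv, rfl⟩ _ ⟨w, hw, rfl⟩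
    rw [← map_mul, ← map_mul, h.comm v hv w hw]
  exp := by
    rintro _ ⟨w, hw, rfl⟩
    rw [← map_pow, h.exp w hw, map_one]
  normal := by
    intro x hx
    have hx' : g⁻¹ * x * g ∈ normalizer (W : Set G) := h.normal (mem_inf.2 ⟨by
        show (g⁻¹ * x * g) • a = a
        rw [mul_smul, mul_smul, show x • g • a = g • a from hx.1, inv_smul_smul],
      by
        show (g⁻¹ * x * g) • b = b
        rw [mul_smul, mul_smul, show x • g • b = g • b from hx.2, inv_smul_smul]⟩)
    rw [mem_norm_iff, cj_cj, show x * g = g * (g⁻¹ * x * g) by group, ← cj_cj,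
      mem_norm_iff.1 hx']
  minimal := by
    intro V hV hne hn
    have h1 : cj g⁻¹ V = W := by
      refine h.minimal _ ?_ (fun e => hne ?_) fun d hd => ?_
      · intro x hx
        have h2 := hV (mem_cj.1 hx)
        rw [mem_cj] at h2
        simpa [mul_assoc] using h2
      · exact (map_eq_bot_iff_of_injective _ (MulAut.conj g⁻¹).injective).1 e
      · have hd' : g * d * g⁻¹ ∈ normalizer (V : Set G) := hn (mem_inf.2 ⟨by
            show (g * d * g⁻¹) • g • a = g • a
            rw [mul_smul, inv_smul_smul, mul_smul, show d • a = a from hd.1],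
          by
            show (g * d * g⁻¹) • g • b = g • b
            rw [mul_smul, inv_smul_smul, mul_smul, show d • b = b from hd.2]⟩)
        rw [mem_norm_iff, cj_cj, show d * g⁻¹ = g⁻¹ * (g * d * g⁻¹) by group, ← cj_cj,
          mem_norm_iff.1 hd']
    rw [← h1, GSide.cj_inv']
  fix := by
    intro c hc
    have := h.fix (g⁻¹ • c) (by
      have h2 := le_st_smul (g := g⁻¹) hc
      rwa [GSide.cj_inv] at h2)
    rcases this with e | e
    · exact Or.inl (inv_smul_eq_iff.1 e)
    · exact Or.inr (inv_smul_eq_iff.1 e)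
  no_invol := by
    intro t ht htW
    refine h.no_invol (g⁻¹ * t * g) (by
      have := Invol.orderOf_conj_eq g⁻¹ t
      rw [inv_inv] at this
      rw [this, ht]) (mem_centralizer_iff.2 fun w hw => ?_)
    have h1 := mem_centralizer_iff.1 htW (g * w * g⁻¹) ⟨w, hw, rfl⟩
    calc w * (g⁻¹ * t * g) = g⁻¹ * (g * w * g⁻¹ * t) * g := by group
      _ = g⁻¹ * (t * (g * w * g⁻¹)) * g := by rw [h1]
      _ = g⁻¹ * t * g * w := by group

/-- If the swappers of one pair invert `W`, the same holds for every pair. -/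
theorem Good.alpha (hH : Hyp H) {r : ℕ} {a b : G ⧸ H} {W : Subgroup G} (h : Good H r a b W)
    (hinv : ∀ v, Swap a b v → ∀ w ∈ W, v * w * v⁻¹ = w⁻¹) : Alpha H r := by
  intro c d hcd
  obtain ⟨g, hga, hgb⟩ := hH.exists_move h.ne hcd
  refine ⟨cj g W, hga ▸ hgb ▸ h.smul g, ?_⟩
  rintro v hv _ ⟨w, hw, rfl⟩
  have hv' : Swap a b (g⁻¹ * v * g) := by
    have := hv.smul g⁻¹
    rwa [inv_inv, ← hga, ← hgb, inv_smul_smul, inv_smul_smul] at this
  have h1 := hinv _ hv' w hw
  show v * (g * w * g⁻¹) * v⁻¹ = (g * w * g⁻¹)⁻¹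
  calc v * (g * w * g⁻¹) * v⁻¹ = g * ((g⁻¹ * v * g) * w * (g⁻¹ * v * g)⁻¹) * g⁻¹ := by group
    _ = g * w⁻¹ * g⁻¹ := by rw [h1]
    _ = _ := by group

end CfsgLib.Bender.NC
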